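import Mathlib
import Cfsg.Agent.H967.CopMat
import Cfsg.Agent.H477.FieldLemma
import Cfsg.Prelude.Def_LieTypeDatum
import Cfsg.Agent.H185.OrthCent
import Cfsg.Agent.Lib.KleinGen
import Cfsg.Agent.H971.RV.Lie_m3
import Cfsg.Agent.ChevFast.E6
import Cfsg.Agent.ChevFast.E7
import Cfsg.Agent.ChevFast.E8
import Cfsg.Agent.ChevFast.F4
import Cfsg.Agent.H199.PslAut
import Cfsg.Agent.H618.AO.Lay
import Cfsg.Agent.H205.Gen
import Cfsg.Agent.H182.CentOrth
import Cfsg.Agent.S0287
import Cfsg.Agent.H208.FixGood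
import Cfsg.Agent.H628.ZOutOrth
import Cfsg.Agent.LieRecognition.FieldSemilinear
import Cfsg.Agent.S0292
import Cfsg.Agent.S0293
import Cfsg.Agent.S0294
import Cfsg.Agent.H885.FC.Main
import Cfsg.Agent.H902.Iso
import Cfsg.Agent.ClassicalGeometry.OddInvolutions
import Cfsg.Agent.H202.Descent
import Cfsg.Agent.H808.RV.FTw_m3
import Cfsg.Agent.H129.TorusUntw
import Cfsg.Agent.H751.Big.Val2
import Cfsg.Agent.H183.OutPSU
import Cfsg.Agent.S2677
import Cfsg.Agent.H198.UnitGamma
import Cfsg.Agent.H967.CopSec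
import Cfsg.Agent.H476.FieldOrth
import Cfsg.Agent.S1157
import Cfsg.Agent.S1152
import Cfsg.Agent.GH.EFrameAct
import Cfsg.Agent.H618.AO.DiagE6
import Cfsg.Agent.S1063
import Cfsg.Agent.FastGrp
import Cfsg.Agent.Prune
set_option linter.all false

section
prune_inst 0x7f00000000000000000000000000000000000000000000000000000000000000000000000000000000000000000000000000000000000000000000000000000000000000000000000000000000000000003fffffffffffffffffffffffffffbeffbdffffffff

-- part: H269/AO/Sub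
section
set_option linter.all false
open scoped Cfsg.Agent.FastGrp

-- part: H269/AO/Gen
section
/-!
# Sylow `2`-subgroups fixed by the field automorphisms of odd order: generalities (helper269)

* `exists_sylow` : `N` normal in `O`, `P` a Sylow `2`-subgroup of `O`, `f : N → T` onto: `f (P ∩ N)` is a Sylow
  `2`-subgroup of `T`;
* `exists_subfield` : a finite field `F` has a subfield `E` with `|F| = |E| ^ d`, `d` odd, fixed by all automorphisms of
  `F` of odd order;
* `fac_pow_sub_one`, `fac_pow_add_one` : the `2`-parts of `q ^ (d k) ∓ 1` and `q ^ k ∓ 1`, `d` and `q` odd;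
* `odd_index_map` : images of Sylow `2`-subgroups.
-/

set_option autoImplicit false

namespace Cfsg.Agent.H269.AO

open Subgroup Cfsg.Agent.H967.CopMat

/-! ### Groups -/

theorem relIndex_mul_sup_index {G : Type*} [Group G] [Finite G] (H A : Subgroup G) [A.Normal] :
    H.relIndex A * (H ⊔ A).index = H.index := by
  have h1 : (H ⊓ A).relIndex A * A.index = (H ⊓ A).index := relIndex_mul_index inf_le_right
  have h2 : (H ⊓ A).relIndex H * H.index = (H ⊓ A).index := relIndex_mul_index inf_le_left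
  have h3 : A.relIndex (H ⊔ A) * (H ⊔ A).index = A.index := relIndex_mul_index le_sup_right
  rw [relIndex_sup_right] at h3
  rw [inf_relIndex_right] at h1
  rw [inf_relIndex_left] at h2
  have h4 : A.relIndex H ≠ 0 := ne_zero_of_dvd_ne_zero Nat.card_pos.ne' (relIndex_dvd_card A H)
  apply Nat.eq_of_mul_eq_mul_left (Nat.pos_of_ne_zero h4)
  rw [h2, ← h1, ← h3]
  ring

/-- Sylow `2`-subgroups of quotients of normal subgroups. -/
theorem exists_sylow {O : Type*} [Group O] [Finite O] {N : Subgroup O} [N.Normal] {T : Type*} [Group T] (f : N →* T)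
    (hf : Function.Surjective f) {P : Subgroup O} (hP : IsPGroup 2 P) (hi : ¬ 2 ∣ P.index) :
    ∃ P0 : Sylow 2 T, ∀ x ∈ P0, ∃ s : N, (s : O) ∈ P ∧ f s = x := by
  have h1 : IsPGroup 2 (P.subgroupOf N) := hP.comap_of_injective N.subtype N.subtype_injective
  have h2 : ¬ 2 ∣ (P.subgroupOf N).index := fun hd =>
    hi (hd.trans ⟨_, (relIndex_mul_sup_index P N).symm⟩)
  have h3 : IsPGroup 2 ((P.subgroupOf N).map f) := h1.map f
  have h4 : ¬ 2 ∣ ((P.subgroupOf N).map f).index := fun hd => h2 (hd.trans (index_map_dvd _ hf))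
  refine ⟨h3.toSylow h4, fun x hx => ?_⟩
  obtain ⟨s, hs, rfl⟩ := (show x ∈ (P.subgroupOf N).map f from hx)
  exact ⟨s, hs, rfl⟩

/-- The image of a Sylow `2`-subgroup under an injective homomorphism of groups with the same `2`-part. -/
theorem odd_index_map {A B : Type*} [Group A] [Group B] [Finite A] [Finite B] (f : A →* B) (hf : Function.Injective f)
    (h : (Nat.card A).factorization 2 = (Nat.card B).factorization 2) (P : Sylow 2 A) :
    IsPGroup 2 ((P : Subgroup A).map f) ∧ ¬ 2 ∣ ((P : Subgroup A).map f).index := by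
  refine ⟨P.isPGroup'.map f, fun hd => ?_⟩
  have h1 : Nat.card ((P : Subgroup A).map f) = 2 ^ (Nat.card A).factorization 2 := by
    rw [card_map_of_injective hf]
    exact P.card_eq_multiplicity
  have h2 := card_mul_index ((P : Subgroup A).map f)
  rw [h1, h] at h2
  have h3 : 2 ^ ((Nat.card B).factorization 2 + 1) ∣ Nat.card B := by
    rw [pow_succ]
    calc 2 ^ (Nat.card B).factorization 2 * 2 ∣ 2 ^ (Nat.card B).factorization 2 * ((P : Subgroup A).map f).index :=
          Nat.mul_dvd_mul_left _ hd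
      _ = Nat.card B := h2
  exact Nat.pow_succ_factorization_not_dvd Nat.card_pos.ne' Nat.prime_two h3

/-! ### Fields -/

/-- **The subfield.** -/
theorem exists_subfield (F : Type*) [Field F] [Finite F] :
    ∃ (E : Subfield F) (d : ℕ), Odd d ∧ Nat.card F = Nat.card E ^ d ∧
      ∀ σ : F ≃+* F, Odd (orderOf σ) → ∀ b : E, σ (b : F) = b := by
  have hfin : Finite (F ≃+* F) := Finite.of_injective (fun f : F ≃+* F => (f : F → F)) DFunLike.coe_injective
  have hcyc : IsCyclic (F ≃+* F) := H477.isCyclic_ringAut F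
  obtain ⟨γ, hγ⟩ := hcyc.exists_generator
  obtain ⟨a, d, hd, ho⟩ := Nat.exists_eq_two_pow_mul_odd (n := orderOf γ) (orderOf_pos γ).ne'
  have hτ : orderOf (γ ^ 2 ^ a) = d := by
    rw [orderOf_pow_of_dvd (pow_ne_zero _ two_ne_zero) (ho ▸ dvd_mul_right _ _), ho]
    exact Nat.mul_div_cancel_left d (Nat.two_pow_pos a)
  refine ⟨Fx (γ ^ 2 ^ a), d, hd, by rw [← hτ]; exact card_Fx _, fun σ hσ b => ?_⟩
  -- `σ` is a power of `γ ^ 2 ^ a`
  have h1 : σ ^ orderOf σ = 1 := pow_orderOf_eq_one σ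
  obtain ⟨k, hk⟩ := (mem_powers_iff_mem_zpowers.2 (hγ σ))
  have hk : γ ^ k = σ := hk
  have h2 : 2 ^ a ∣ k := by
    rw [← hk, ← pow_mul] at h1
    have h3 : orderOf γ ∣ k * orderOf (γ ^ k) := orderOf_dvd_of_pow_eq_one h1
    rw [hk] at h3
    have h4 : 2 ^ a ∣ k * orderOf σ := (ho ▸ dvd_mul_right _ _ : 2 ^ a ∣ orderOf γ).trans h3
    exact (Nat.Coprime.pow_left a (Nat.coprime_two_left.2 hσ)).dvd_of_dvd_mul_right h4
  obtain ⟨l, rfl⟩ := h2
  rw [← hk, pow_mul]
  exact pow_fixed b.2 l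

/-! ### Numbers -/

theorem fac_mul_odd {a b : ℕ} (ha : a ≠ 0) (hb : Odd b) : (a * b).factorization 2 = a.factorization 2 := by
  rw [Nat.factorization_mul ha (by rintro rfl; exact absurd hb (by decide)), Finsupp.add_apply,
    Nat.factorization_eq_zero_of_not_dvd (fun h => (Nat.not_even_iff_odd.2 hb) (even_iff_two_dvd.2 h)), add_zero]

theorem fac_mul {a b c e : ℕ} (ha : a ≠ 0) (hb : b ≠ 0) (hc : c ≠ 0) (he : e ≠ 0)
    (h1 : a.factorization 2 = c.factorization 2) (h2 : b.factorization 2 = e.factorization 2) :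
    (a * b).factorization 2 = (c * e).factorization 2 := by
  rw [Nat.factorization_mul ha hb, Nat.factorization_mul hc he, Finsupp.add_apply, Finsupp.add_apply, h1, h2]

theorem fac_odd {a b : ℕ} (ha : Odd a) (hb : Odd b) : a.factorization 2 = b.factorization 2 := by
  have h := fac_mul_odd one_ne_zero ha
  have h' := fac_mul_odd one_ne_zero hb
  rw [one_mul] at h h'
  rw [h, h']

/-- `x ^ d - 1 = (x - 1) * odd` -/
theorem pow_sub_one_fac {x d : ℕ} (hx : Odd x) (hd : Odd d) : ∃ u : ℕ, Odd u ∧ x ^ d - 1 = (x - 1) * u := by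
  refine ⟨∑ i ∈ Finset.range d, x ^ i, ?_, ?_⟩
  · rw [Finset.odd_sum_iff_odd_card_odd]
    rw [Finset.filter_true_of_mem (fun i _ => hx.pow), Finset.card_range]
    exact hd
  · rw [mul_comm]
    exact (geom_sum_mul_of_one_le hx.pos d).symm

theorem fac_pow_sub_one {q d k : ℕ} (hq : Odd q) (hq1 : 1 < q) (hd : Odd d) (hk : 0 < k) :
    ((q ^ d) ^ k - 1).factorization 2 = (q ^ k - 1).factorization 2 := by
  obtain ⟨u, hu, he⟩ := pow_sub_one_fac (hq.pow (n := k)) hd
  rw [← pow_mul, mul_comm d k, pow_mul, he, fac_mul_odd _ hu]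
  have : 1 < q ^ k := Nat.one_lt_pow hk.ne' hq1
  omega

end Cfsg.Agent.H269.AO
end

-- part: H269/AO/Sub
section
/-!
# A Sylow `2`-subgroup of `POmega F Q` with entries in a subfield (helper269)

* `isoHom` : isometries over the small field;
* `exists_sylow_fixed` : if `Q` is defined over `F₀` and the isometry groups over `F₀` and `F` have the same `2`-part then
  some Sylow `2`-subgroup of `POmega F Q` is centralised by all field automorphisms fixing `F₀`.
-/

set_option autoImplicit false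

namespace Cfsg.Agent.H269.AO

open Subgroup Cfsg Matrix QuadraticMap Cfsg.Agent.H185.OrthCent

universe u v

variable {ι : Type} [Fintype ι] [DecidableEq ι] {F : Type u} [Field F] {F₀ : Type v} [Field F₀]
  {j : F₀ →+* F} {Q₀ : QuadraticForm F₀ (ι → F₀)} {Q : QuadraticForm F (ι → F)}

/-- Isometries over the small field. -/
def isoHom (h : Ext j Q₀ Q) : isometryGroup F₀ ⇑Q₀ →* isometryGroup F ⇑Q where
  toFun g := ⟨mp j g.1, fun v _ => by
    have h1 := h.sim (g := g.1) (c := 1) (fun v => by rw [one_mul]; exact g.2 v v) v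
    rw [map_one, one_mul] at h1
    exact h1⟩
  map_one' := Subtype.ext (map_one _)
  map_mul' g k := Subtype.ext (map_mul _ _ _)

theorem isoHom_injective (h : Ext j Q₀ Q) : Function.Injective (isoHom h) := by
  intro g k H
  exact Subtype.ext (mp_injective j (congrArg Subtype.val H))

/-- **The Sylow `2`-subgroup.** -/
theorem exists_sylow_fixed [Finite F] [Finite F₀] (h : Ext j Q₀ Q)
    (hc : (Nat.card (isometryGroup F₀ ⇑Q₀)).factorization 2 = (Nat.card (isometryGroup F ⇑Q)).factorization 2) :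
    ∃ P0 : Sylow 2 (POmega F ⇑Q), ∀ σ : F ≃+* F, (∀ b, σ (j b) = j b) →
      ∀ β : POmega F ⇑Q ≃* POmega F ⇑Q, IsFieldAutPOmegaOf ⇑Q σ β → ∀ x ∈ P0, β x = x := by
  obtain ⟨P⟩ : Nonempty (Sylow 2 (isometryGroup F₀ ⇑Q₀)) := inferInstance
  obtain ⟨h1, h2⟩ := odd_index_map (isoHom h) (isoHom_injective h) hc P
  obtain ⟨P0, hP0⟩ := exists_sylow (N := Omega F ⇑Q) (QuotientGroup.mk' (center (Omega F ⇑Q)))
    (QuotientGroup.mk'_surjective _) h1 h2
  refine ⟨P0, fun σ hσ β hβ x hx => ?_⟩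
  obtain ⟨s, ⟨g, -, hg⟩, rfl⟩ := hP0 x hx
  refine hβ s s ?_
  have h3 : (((s : ↥(isometryGroup F ⇑Q)) : GL ι F) : Matrix ι ι F) = ((g : GL ι F₀) : Matrix ι ι F₀).map j := by
    rw [← hg]; rfl
  rw [h3]
  ext i k
  exact (hσ _).symm

end Cfsg.Agent.H269.AO
end
end

-- part: H563/RV/LemAC
section
set_option linter.all false
open scoped Cfsg.Agent.FastGrp

-- part: H563/RV/LemAGrp
section
/-!
# TEAM RV, NRow for the exceptional groups: LEMMA A, the group theoretic part (helper563)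

`Y` an abelian group of exponent 4 normalises the finite group `R` of odd order; if some `y * y`, `y ∈ Y`, does not
centralise `R` then there is a configuration `y ∈ Y`, `v ∈ R`, `v' = y v y⁻¹`, `(y y) v (y y)⁻¹ = v⁻¹ ≠ v`, such that
`c = [v, v']` commutes with `v`, `v'`, `Y`, and every `a ∈ Y` centralises `v, v'` up to a power of `y`.
-/

set_option autoImplicit false

namespace Cfsg.Agent.H563.RV.LemA

open Subgroup
open scoped commutatorElement

variable {Γ : Type*} [Group Γ]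

/-- a `2`-group normalising the finite group `R` of odd order normalises a Sylow `q`-subgroup of `R` -/
theorem exists_sylow {Y R : Subgroup Γ} (hY : IsPGroup 2 Y) [Finite R] (hodd : Odd (Nat.card R))
    (hn : ∀ a ∈ Y, ∀ g ∈ R, a * g * a⁻¹ ∈ R) (q : ℕ) [Fact q.Prime] :
    ∃ P : Sylow q R, ∀ a ∈ Y, ∀ g ∈ (P : Subgroup R).map R.subtype, a * g * a⁻¹ ∈ (P : Subgroup R).map R.subtype := by
  have hYR : Y ≤ normalizer (R : Set Γ) := by
    intro a ha
    rw [mem_normalizer_iff]
    intro g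
    refine ⟨fun hg => hn a ha g hg, fun hg => ?_⟩
    have := hn a⁻¹ (Y.inv_mem ha) _ hg
    simpa [mul_assoc] using this
  let act : MulDistribMulAction Y R :=
    MulDistribMulAction.compHom R (R.normalizerMonoidHom.comp (Subgroup.inclusion hYR))
  have hact : ∀ (a : Y) (x : R), ((a • x : R) : Γ) = a * x * (a : Γ)⁻¹ := fun a x => rfl
  have hcard : ¬ 2 ∣ Nat.card (Sylow q R) := by
    intro h
    obtain ⟨P⟩ : Nonempty (Sylow q R) := inferInstance
    exact (Nat.not_even_iff_odd.2 hodd) (even_iff_two_dvd.2 (h.trans (P.card_dvd_index.trans (Subgroup.index_dvd_card _))))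
  have : Fact (Nat.Prime 2) := ⟨Nat.prime_two⟩
  obtain ⟨P, hP⟩ := hY.nonempty_fixed_point_of_prime_not_dvd_card (Sylow q R) hcard
  refine ⟨P, ?_⟩
  rintro a ha _ ⟨x, hx, rfl⟩
  have h1 : (⟨a, ha⟩ : Y) • P = P := hP ⟨a, ha⟩
  refine ⟨(⟨a, ha⟩ : Y) • x, ?_, rfl⟩
  have h2 : (⟨a, ha⟩ : Y) • x ∈ (⟨a, ha⟩ : Y) • P := ⟨x, hx, rfl⟩
  rwa [h1] at h2

/-- the configuration -/
structure Conf (Y R : Subgroup Γ) (y v : Γ) : Prop where
  hy : y ∈ Y
  hv : v ∈ R
  hv' : y * v * y⁻¹ ∈ R
  ne : v ≠ 1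
  inv : (y * y) * v * (y * y)⁻¹ = v⁻¹
  cv : Commute ⁅v, y * v * y⁻¹⁆ v
  cv' : Commute ⁅v, y * v * y⁻¹⁆ (y * v * y⁻¹)
  cY : ∀ a ∈ Y, Commute ⁅v, y * v * y⁻¹⁆ a
  cyc : ∀ a ∈ Y, ∃ i : ℕ, Commute (y ^ i * a) v ∧ Commute (y ^ i * a) (y * v * y⁻¹)

theorem exists_conf_of_min {Y R : Subgroup Γ} (hYc : ∀ a ∈ Y, ∀ b ∈ Y, a * b = b * a) (hY4 : ∀ a ∈ Y, a ^ 4 = 1)
    [Finite R] (hodd : Odd (Nat.card R)) (hn : ∀ a ∈ Y, ∀ g ∈ R, a * g * a⁻¹ ∈ R)
    (hm : ∀ T ≤ R, T ≠ R → (∀ a ∈ Y, ∀ g ∈ T, a * g * a⁻¹ ∈ T) → ∀ y ∈ Y, ∀ g ∈ T, (y * y) * g = g * (y * y))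
    {y g : Γ} (hy : y ∈ Y) (hg : g ∈ R) (hne : (y * y) * g ≠ g * (y * y)) : ∃ y v : Γ, Conf Y R y v := by
  have hY2 : IsPGroup 2 Y := fun a => ⟨2, Subtype.ext (hY4 a.1 a.2)⟩
  obtain ⟨z, hzd⟩ : ∃ z, z = y * y := ⟨_, rfl⟩
  have hzh : ∀ T ≤ R, T ≠ R → (∀ a ∈ Y, ∀ g ∈ T, a * g * a⁻¹ ∈ T) → ∀ g ∈ T, z * g = g * z := by
    intro T h1 h2 h3 g hg
    rw [hzd]
    exact hm T h1 h2 h3 y hy g hg
  rw [← hzd] at hne
  have hz : z ∈ Y := hzd ▸ Y.mul_mem hy hy
  have hyz : y * z = z * y := by rw [hzd, mul_assoc]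
  -- `R` is a `q`-group
  have hstep : ∃ q : ℕ, q.Prime ∧ IsPGroup q R := by
    by_contra hcon
    push Not at hcon
    set! C : Subgroup Γ := R ⊓ centralizer {z} with hC
    have hCR : C = R := by
      by_contra hne'
      have h1 : C.relIndex R ≠ 1 := by
        intro h
        exact hne' (le_antisymm inf_le_left (relIndex_eq_one.1 h))
      obtain ⟨q, hq, hqd⟩ := Nat.exists_prime_and_dvd h1
      have : Fact q.Prime := ⟨hq⟩
      obtain ⟨P, hP⟩ := exists_sylow hY2 hodd hn q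
      have hPC : (P : Subgroup R).map R.subtype ≤ C := by
        have hPR : (P : Subgroup R).map R.subtype ≤ R := map_subtype_le _
        refine le_inf hPR ?_
        have hPne : (P : Subgroup R).map R.subtype ≠ R := by
          intro h
          apply hcon q hq
          have h2 : IsPGroup q ((P : Subgroup R).map R.subtype) := P.isPGroup'.map _
          rwa [h] at h2
        intro x hx
        rw [mem_centralizer_singleton_iff]
        exact (hzh _ hPR hPne hP x hx).symm
      have h3 : C.relIndex R ∣ ((P : Subgroup R).map R.subtype).relIndex R := by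
        refine relIndex_dvd_of_le_left R hPC
      have h4 : ((P : Subgroup R).map R.subtype).relIndex R = (P : Subgroup R).index := by
        rw [relIndex, subgroupOf, comap_map_eq_self_of_injective R.subtype_injective]
      rw [h4] at h3
      exact P.not_dvd_index (hqd.trans h3)
    have h2 : g ∈ C := by rw [hCR]; exact hg
    exact hne ((mem_centralizer_singleton_iff.1 h2.2).symm)
  obtain ⟨q, hq, hRq⟩ := hstep
  have : Fact q.Prime := ⟨hq⟩
  -- the commutator subgroup
  set! D : Subgroup Γ := ⁅R, R⁆ with hD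
  have hDR : D ≤ R := by
    rw [hD, commutator_le]
    intro a ha b hb
    exact R.mul_mem (R.mul_mem (R.mul_mem ha hb) (R.inv_mem ha)) (R.inv_mem hb)
  have hDne : D ≠ R := by
    intro h
    have h1 : Group.IsNilpotent R := hRq.isNilpotent
    have h2 : Group.IsSolvable R := inferInstance
    have h3 : Nontrivial R := by
      refine ⟨⟨⟨g, hg⟩, 1, fun h => hne ?_⟩⟩
      have : g = 1 := congrArg Subtype.val h
      rw [this, mul_one, one_mul]
    have h4 := Group.IsSolvable.commutator_lt_top_of_nontrivial R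
    have h5 : (_root_.commutator R).map R.subtype = D := by
      rw [_root_.commutator_def, map_commutator, ← MonoidHom.range_eq_map, range_subtype]
    have h6 : _root_.commutator R = ⊤ := by
      apply map_injective R.subtype_injective
      rw [h5, h, ← MonoidHom.range_eq_map, range_subtype]
    rw [h6] at h4
    exact lt_irrefl _ h4
  have hDn : ∀ a, (∀ g ∈ R, a * g * a⁻¹ ∈ R) → ∀ d ∈ D, a * d * a⁻¹ ∈ D := by
    intro a ha d hd
    have h1 : D.map (MulAut.conj a).toMonoidHom ≤ D := by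
      rw [hD, map_commutator]
      have h2 : R.map (MulAut.conj a).toMonoidHom ≤ R := by
        rintro _ ⟨x, hx, rfl⟩
        exact ha x hx
      exact commutator_mono h2 h2
    exact h1 ⟨d, hd, rfl⟩
  have hDz := hzh D hDR hDne fun a ha => hDn a (hn a ha)
  -- `h⁻¹ h ^ z` centralises `D`
  have hcent : ∀ h ∈ R, ∀ d ∈ D, Commute (h⁻¹ * (z * h * z⁻¹)) d := by
    intro h hh d hd
    have h1 : h * d * h⁻¹ ∈ D := by
      refine hDn h (fun g hg => ?_) d hd
      exact R.mul_mem (R.mul_mem hh hg) (R.inv_mem hh)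
    have h2 := hDz _ h1
    have h3 := hDz _ hd
    have e1 : z * h * z⁻¹ * d * (z * h * z⁻¹)⁻¹ = h * d * h⁻¹ := by
      calc z * h * z⁻¹ * d * (z * h * z⁻¹)⁻¹
          = z * h * (z⁻¹ * (d * z)) * h⁻¹ * z⁻¹ := by group
        _ = z * (h * d * h⁻¹) * z⁻¹ := by rw [← h3]; group
        _ = h * d * h⁻¹ := by rw [h2]; group
    show h⁻¹ * (z * h * z⁻¹) * d = d * (h⁻¹ * (z * h * z⁻¹))
    calc h⁻¹ * (z * h * z⁻¹) * d
        = h⁻¹ * (z * h * z⁻¹ * d * (z * h * z⁻¹)⁻¹) * (z * h * z⁻¹) := by group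
      _ = d * (h⁻¹ * (z * h * z⁻¹)) := by rw [e1]; group
  -- the element `v`
  set! v := g⁻¹ * (z * g * z⁻¹) with hv
  have hzz : z * z = 1 := by
    have := hY4 y hy
    rw [hzd, ← this]
    simp only [pow_succ, pow_zero, one_mul, mul_assoc]
  have hvR : v ∈ R := R.mul_mem (R.inv_mem hg) (hn _ hz g hg)
  have hv'R : y * v * y⁻¹ ∈ R := hn y hy v hvR
  have hv1 : v ≠ 1 := by
    intro h
    apply hne
    have h1 : z * g * z⁻¹ = g := (inv_mul_eq_one.1 h).symm
    rw [mul_inv_eq_iff_eq_mul] at h1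
    exact h1
  have hvz : z * v * z⁻¹ = v⁻¹ := by
    have e1 : z * v * z⁻¹ = (z * g * z⁻¹)⁻¹ * ((z * z) * g * (z * z)⁻¹) := by
      rw [hv]; group
    rw [e1, hzz, hv]
    group
  have hv'eq : y * v * y⁻¹ = (y * g * y⁻¹)⁻¹ * (z * (y * g * y⁻¹) * z⁻¹) := by
    have e1 : z * (y * g * y⁻¹) * z⁻¹ = y * (z * g * z⁻¹) * y⁻¹ := by
      calc z * (y * g * y⁻¹) * z⁻¹ = (z * y) * g * (z * y)⁻¹ := by group
        _ = (y * z) * g * (y * z)⁻¹ := by rw [hyz]
        _ = _ := by group
    rw [e1, hv]; group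
  have hcD : ⁅v, y * v * y⁻¹⁆ ∈ D := commutator_mem_commutator hvR hv'R
  have hcv : Commute ⁅v, y * v * y⁻¹⁆ v := (hcent g hg _ hcD).symm
  have hcv' : Commute ⁅v, y * v * y⁻¹⁆ (y * v * y⁻¹) := by
    have h1 := (hcent (y * g * y⁻¹) (hn y hy g hg) _ hcD).symm
    rw [← hv'eq] at h1
    exact h1
  -- claim 1
  have hcl : ∀ b ∈ Y, (∀ h ∈ R, (b * b) * h = h * (b * b)) → (∀ h ∈ R, b * h = h * b) ∨
      ∀ h ∈ R, (z * b) * h = h * (z * b) := by
    intro b hb hbb
    by_contra hcon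
    rw [not_or] at hcon
    obtain ⟨hc1, hc2⟩ := hcon
    -- fixed points of elements of `Y`
    have hfix : ∀ a ∈ Y, ¬ (∀ h ∈ R, a * h = h * a) → ∀ h ∈ R, a * h = h * a → z * h = h * z := by
      intro a ha hna h hh hah
      refine hzh (R ⊓ centralizer {a}) inf_le_left ?_ ?_ h ⟨hh, mem_centralizer_singleton_iff.2 hah.symm⟩
      · intro he
        apply hna
        intro x hx
        rw [← he] at hx
        exact (mem_centralizer_singleton_iff.1 hx.2).symm
      · rintro a' ha' x ⟨hx, hxa⟩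
        refine ⟨hn a' ha' x hx, ?_⟩
        have hxa := mem_centralizer_singleton_iff.1 hxa
        refine mem_centralizer_singleton_iff.2 ?_
        have e1 := hYc a ha a' ha'
        have e2 : a'⁻¹ * a = a * a'⁻¹ := by
          rw [inv_mul_eq_iff_eq_mul, ← mul_assoc, ← e1]
          group
        calc a' * x * a'⁻¹ * a = a' * x * (a'⁻¹ * a) := by group
          _ = a' * (x * a) * a'⁻¹ := by rw [e2]; group
          _ = (a' * a) * x * a'⁻¹ := by rw [hxa]; group
          _ = a * (a' * x * a'⁻¹) := by rw [← e1]; group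
    apply hne
    have key : (⊤ : Subgroup R) ≤ (centralizer {z}).subgroupOf R := by
      let cj : ∀ a ∈ Y, R →* R := fun a ha =>
        { toFun := fun h => ⟨a * h * a⁻¹, hn a ha h h.2⟩
          map_one' := Subtype.ext (by simp)
          map_mul' := fun s t => Subtype.ext (by
            show a * ((s : Γ) * t) * a⁻¹ = (a * s * a⁻¹) * (a * t * a⁻¹)
            group) }
      refine Cfsg.Agent.Lib.KleinGen.le_of_fixed_le (⊤ : Subgroup R) _ ?_ (cj b hb) (cj z hz) ?_ ?_ ?_
        (fun _ _ => mem_top _) (fun _ _ => mem_top _) ?_ ?_ ?_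
      · rw [Subgroup.card_top]; exact hodd
      · intro h
        apply Subtype.ext
        show b * (b * h * b⁻¹) * b⁻¹ = h
        have := hbb h h.2
        calc b * (b * (h : Γ) * b⁻¹) * b⁻¹ = (b * b) * h * (b * b)⁻¹ := by group
          _ = h := by rw [this]; group
      · intro h
        apply Subtype.ext
        show z * (z * h * z⁻¹) * z⁻¹ = h
        calc z * (z * (h : Γ) * z⁻¹) * z⁻¹ = (z * z) * h * (z * z)⁻¹ := by
              group
          _ = h := by rw [hzz]; group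
      · intro h
        apply Subtype.ext
        show b * (z * h * z⁻¹) * b⁻¹ = z * (b * h * b⁻¹) * z⁻¹
        have e1 := hYc b hb z hz
        calc b * (z * (h : Γ) * z⁻¹) * b⁻¹ = (b * z) * h * (b * z)⁻¹ := by group
          _ = _ := by rw [e1]; group
      · intro h _ hf
        have hf' : b * (h : Γ) * b⁻¹ = h := congrArg Subtype.val hf
        rw [mul_inv_eq_iff_eq_mul] at hf'
        show (h : Γ) ∈ centralizer {z}
        exact mem_centralizer_singleton_iff.2 (hfix b hb hc1 h h.2 hf').symm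
      · intro h _ hf
        have hf' : z * (h : Γ) * z⁻¹ = h := congrArg Subtype.val hf
        rw [mul_inv_eq_iff_eq_mul] at hf'
        show (h : Γ) ∈ centralizer {z}
        exact mem_centralizer_singleton_iff.2 hf'.symm
      · intro h _ hf
        have hf' : b * (z * (h : Γ) * z⁻¹) * b⁻¹ = h := congrArg Subtype.val hf
        have hf2 : (z * b) * (h : Γ) = h * (z * b) := by
          rw [← mul_inv_eq_iff_eq_mul]
          have e1 := hYc b hb z hz
          rw [← e1]
          calc b * z * (h : Γ) * (b * z)⁻¹ = b * (z * (h : Γ) * z⁻¹) * b⁻¹ := by group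
            _ = h := hf'
        show (h : Γ) ∈ centralizer {z}
        exact mem_centralizer_singleton_iff.2 (hfix _ (Y.mul_mem hz hb) hc2 h h.2 hf2).symm
    have h1 := key (mem_top (⟨g, hg⟩ : R))
    exact (mem_centralizer_singleton_iff.1 (mem_subgroupOf.1 h1)).symm
  -- claim 2
  have hcyc : ∀ a ∈ Y, ∃ i : ℕ, ∀ h ∈ R, (y ^ i * a) * h = h * (y ^ i * a) := by
    intro a ha
    have h4 : ∀ h ∈ R, ((a * a) * (a * a)) * h = h * ((a * a) * (a * a)) := by
      intro h _
      have : (a * a) * (a * a) = 1 := by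
        rw [← hY4 a ha]
        simp only [pow_succ, pow_zero, one_mul, mul_assoc]
      rw [this, one_mul, mul_one]
    have hya := hYc y hy a ha
    rcases hcl (a * a) (Y.mul_mem ha ha) h4 with h | h
    · rcases hcl a ha h with h | h
      · exact ⟨0, fun x hx => by rw [pow_zero, one_mul]; exact h x hx⟩
      · exact ⟨2, fun x hx => by rw [pow_two, ← hzd]; exact h x hx⟩
    · have e1 : z * (a * a) = (y * a) * (y * a) := by
        rw [hzd]
        calc (y * y) * (a * a) = y * (y * a) * a := by simp only [mul_assoc]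
          _ = y * (a * y) * a := by rw [hya]
          _ = (y * a) * (y * a) := by simp only [mul_assoc]
      rw [e1] at h
      rcases hcl (y * a) (Y.mul_mem hy ha) h with h | h
      · exact ⟨1, fun x hx => by rw [pow_one]; exact h x hx⟩
      · refine ⟨3, fun x hx => ?_⟩
        have e2 : y ^ 3 * a = z * (y * a) := by
          rw [hzd]; simp only [pow_succ, pow_zero, one_mul, mul_assoc]
        rw [e2]
        exact h x hx
  refine ⟨y, v, hy, hvR, hv'R, hv1, by rw [← hzd]; exact hvz, hcv, hcv', ?_, ?_⟩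
  · -- `c` commutes with `Y`
    have hcy : Commute ⁅v, y * v * y⁻¹⁆ y := by
      have e1 : y * ⁅v, y * v * y⁻¹⁆ * y⁻¹ = ⁅y * v * y⁻¹, z * v * z⁻¹⁆ := by
        have e0 : z * v * z⁻¹ = y * (y * v * y⁻¹) * y⁻¹ := by
          rw [hzd, mul_inv_rev]; simp only [mul_assoc]
        rw [e0]
        simp only [commutatorElement_def]; group
      rw [hvz] at e1
      have e2 : ⁅y * v * y⁻¹, v⁻¹⁆ = v⁻¹ * ⁅v, y * v * y⁻¹⁆ * v := by
        simp only [commutatorElement_def]; group
      have e3 : v⁻¹ * ⁅v, y * v * y⁻¹⁆ * v = ⁅v, y * v * y⁻¹⁆ := by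
        rw [mul_assoc, hcv.eq]; group
      rw [e2, e3] at e1
      exact (mul_inv_eq_iff_eq_mul.1 e1).symm
    intro a ha
    obtain ⟨i, hi⟩ := hcyc a ha
    have h1 : Commute (y ^ i * a) v := hi v hvR
    have h2 : Commute (y ^ i * a) (y * v * y⁻¹) := hi _ hv'R
    have h3 : Commute (y ^ i * a) ⁅v, y * v * y⁻¹⁆ := by
      rw [commutatorElement_def]
      exact ((h1.mul_right h2).mul_right h1.inv_right).mul_right h2.inv_right
    have h4 : Commute ⁅v, y * v * y⁻¹⁆ ((y ^ i)⁻¹ * (y ^ i * a)) := (hcy.pow_right i).inv_right.mul_right h3.symm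
    rwa [inv_mul_cancel_left] at h4
  · intro a ha
    obtain ⟨i, hi⟩ := hcyc a ha
    exact ⟨i, hi v hvR, hi _ hv'R⟩

/-- **The configuration.** -/
theorem exists_conf {Y : Subgroup Γ} (hYc : ∀ a ∈ Y, ∀ b ∈ Y, a * b = b * a) (hY4 : ∀ a ∈ Y, a ^ 4 = 1) :
    ∀ (N : ℕ) (R : Subgroup Γ) [Finite R], Nat.card R ≤ N → Odd (Nat.card R) →
      (∀ a ∈ Y, ∀ g ∈ R, a * g * a⁻¹ ∈ R) → ∀ {y g : Γ}, y ∈ Y → g ∈ R → (y * y) * g ≠ g * (y * y) →
      ∃ y v : Γ, Conf Y R y v := by
  intro N
  induction N with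
  | zero =>
    intro R _ h1 _ _ y g _ hg
    exact absurd (Nat.card_pos (α := R)) (by omega)
  | succ N ih =>
    intro R _ h1 hodd hn y g hy hg hne
    by_cases hm : ∀ T ≤ R, T ≠ R → (∀ a ∈ Y, ∀ g ∈ T, a * g * a⁻¹ ∈ T) → ∀ y ∈ Y, ∀ g ∈ T, (y * y) * g = g * (y * y)
    · exact exists_conf_of_min hYc hY4 hodd hn hm hy hg hne
    · push Not at hm
      obtain ⟨T, hTR, hTne, hTn, y', hy', g', hg', hne'⟩ := hm
      have hfin : Finite T := Finite.of_injective _ (Subgroup.inclusion_injective hTR)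
      have hlt : Nat.card T < Nat.card R := by
        refine lt_of_le_of_ne (Nat.card_le_card_of_injective _ (Subgroup.inclusion_injective hTR)) fun h => hTne ?_
        exact Subgroup.eq_of_le_of_card_ge hTR h.ge
      have hToddc : Odd (Nat.card T) := hodd.of_dvd_nat (Subgroup.card_dvd_of_le hTR)
      obtain ⟨y₁, v₁, hC⟩ := ih T (by omega) hToddc hTn hy' hg' hne'
      exact ⟨y₁, v₁, hC.hy, hTR hC.hv, hTR hC.hv', hC.ne, hC.inv, hC.cv, hC.cv', hC.cY, hC.cyc⟩

end Cfsg.Agent.H563.RV.LemA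
end

-- part: H563/RV/LemALin
section
/-!
# TEAM RV, NRow for the exceptional groups: LEMMA A, weights (helper563)

`f, f'` commuting operators of odd order `n` (invertible in `k`), `t ^ 4 = 1`, `t f t⁻¹ = f'`, `t f' t⁻¹ = f⁻¹`; if `-1`
is not an eigenvalue of `t` then `f = 1`.
-/

set_option autoImplicit false

namespace Cfsg.Agent.H563.RV.LemA

open Module

universe u v

variable {k : Type u} [Field k] {V : Type v} [AddCommGroup V] [Module k V]

theorem odd_eq_one {a : k} {n : ℕ} (hn : Odd n) (h : a ^ n = 1) (h2 : a * a = 1) : a = 1 := by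
  obtain ⟨m, rfl⟩ := hn
  rw [pow_succ, pow_mul, pow_two, h2, one_pow, one_mul] at h
  exact h

theorem step_e {f f' t : End k V} (h1 : t * f = f' * t) (h2 : f * t * f' = t) {x : V} {a b : k} (hb : b ≠ 0)
    (hx : f x = a • x) (hx' : f' x = b • x) : f (t x) = b⁻¹ • t x ∧ f' (t x) = a • t x := by
  constructor
  · have h3 : f (t (f' x)) = t x := congrArg (fun g : End k V => g x) h2
    rw [hx', map_smul, map_smul] at h3
    rw [← h3, smul_smul, inv_mul_cancel₀ hb, one_smul, h3]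
  · have h3 : t (f x) = f' (t x) := congrArg (fun g : End k V => g x) h1
    rw [← h3, hx, map_smul]

theorem pow_eig {f : End k V} {x : V} {a : k} (hx : f x = a • x) (n : ℕ) : (f ^ n) x = a ^ n • x := by
  induction n with
  | zero => rw [pow_zero, pow_zero, one_smul]; rfl
  | succ n ih =>
    rw [pow_succ', Module.End.mul_apply, ih, map_smul, hx, smul_smul, pow_succ]

/-- eliminate -/
theorem elim {g : End k V} {e0 e1 e2 e3 : V} {c0 c1 c2 c3 γ0 γ1 γ2 γ3 : k} (μ : k)
    (h : c0 • e0 + c1 • e1 + c2 • e2 + c3 • e3 = 0) (h0 : g e0 = γ0 • e0) (h1 : g e1 = γ1 • e1) (h2 : g e2 = γ2 • e2)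
    (h3 : g e3 = γ3 • e3) :
    (c0 * (γ0 - μ)) • e0 + (c1 * (γ1 - μ)) • e1 + (c2 * (γ2 - μ)) • e2 + (c3 * (γ3 - μ)) • e3 = 0 := by
  have h4 := congrArg g h
  rw [map_add, map_add, map_add, map_smul, map_smul, map_smul, map_smul, h0, h1, h2, h3, map_zero] at h4
  have h5 : (c0 * (γ0 - μ)) • e0 + (c1 * (γ1 - μ)) • e1 + (c2 * (γ2 - μ)) • e2 + (c3 * (γ3 - μ)) • e3 =
      (c0 • γ0 • e0 + c1 • γ1 • e1 + c2 • γ2 • e2 + c3 • γ3 • e3) - μ • (c0 • e0 + c1 • e1 + c2 • e2 + c3 • e3) := by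
    module
  rw [h5, h4, h, smul_zero, sub_zero]

theorem weights_top [IsAlgClosed k] [FiniteDimensional k V] {f f' t : End k V} (hc : f * f' = f' * f)
    (h1 : t * f = f' * t) (h2 : f * t * f' = t) {n : ℕ} (hn : Odd n) (hnk : (n : k) ≠ 0) (hfn : f ^ n = 1)
    (hfn' : f' ^ n = 1) (ht4 : ∀ x, t (t (t (t x))) = x) (hneg : ∀ x, t x = -x → x = 0) : f = 1 := by
  by_contra hne
  -- an eigenvector in the range of `f - 1`
  obtain ⟨a, x1, hx1, hx1a, ha1⟩ : ∃ (a : k) (x1 : V), x1 ≠ 0 ∧ f x1 = a • x1 ∧ a ≠ 1 := by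
    set! W : Submodule k V := LinearMap.range (f - 1) with hW
    have hWf : ∀ x ∈ W, f x ∈ W := by
      rintro _ ⟨u, rfl⟩
      refine ⟨f u, ?_⟩
      show f (f u) - f u = f (f u - u)
      rw [map_sub]
    have hWne : W ≠ ⊥ := by
      intro h
      apply hne
      rw [hW, LinearMap.range_eq_bot] at h
      exact sub_eq_zero.1 h
    have hnt : Nontrivial W := Submodule.nontrivial_iff_ne_bot.2 hWne
    obtain ⟨a, ha⟩ := Module.End.exists_eigenvalue (f.restrict hWf)
    obtain ⟨⟨x, hx⟩, hxe⟩ := ha.exists_hasEigenvector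
    have h3 : f x = a • x := congrArg Subtype.val hxe.apply_eq_smul
    have h4 : x ≠ 0 := fun h => hxe.2 (Subtype.ext h)
    refine ⟨a, x, h4, h3, ?_⟩
    rintro rfl
    obtain ⟨u, hu⟩ := hx
    have h5 : (∑ i ∈ Finset.range n, f ^ i) * (f - 1) = 0 := by rw [geom_sum_mul, hfn, sub_self]
    have h6 : (∑ i ∈ Finset.range n, f ^ i) x = 0 := by
      rw [← hu]
      exact congrArg (fun g : End k V => g u) h5
    have h7 : (∑ i ∈ Finset.range n, f ^ i) x = (n : k) • x := by
      rw [LinearMap.sum_apply, Finset.sum_congr rfl (fun i _ => pow_eig h3 i)]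
      simp only [one_pow, one_smul]
      rw [Finset.sum_const, Finset.card_range, ← Nat.cast_smul_eq_nsmul k n x]
    rw [h6] at h7
    rcases smul_eq_zero.1 h7.symm with h | h
    · exact hnk h
    · exact h4 h
  obtain ⟨b, x, hx, hxa, hxb⟩ : ∃ (b : k) (x : V), x ≠ 0 ∧ f x = a • x ∧ f' x = b • x := by
    set! W : Submodule k V := LinearMap.ker (f - algebraMap k (End k V) a) with hW
    have hWm : ∀ x, x ∈ W ↔ f x = a • x := by
      intro x
      rw [hW, LinearMap.mem_ker, LinearMap.sub_apply, Module.algebraMap_end_apply, sub_eq_zero]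
    have hWf : ∀ x ∈ W, f' x ∈ W := by
      intro y hy
      rw [hWm] at hy ⊢
      have h3 : f (f' y) = f' (f y) := congrArg (fun g : End k V => g y) hc
      rw [h3, hy, map_smul]
    have hWne : W ≠ ⊥ := by
      intro h
      have h3 : x1 ∈ W := (hWm x1).2 hx1a
      rw [h, Submodule.mem_bot] at h3
      exact hx1 h3
    have hnt : Nontrivial W := Submodule.nontrivial_iff_ne_bot.2 hWne
    obtain ⟨b, hb⟩ := Module.End.exists_eigenvalue (f'.restrict hWf)
    obtain ⟨⟨x, hx⟩, hxe⟩ := hb.exists_hasEigenvector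
    exact ⟨b, x, fun h => hxe.2 (Subtype.ext h), (hWm x).1 hx, congrArg Subtype.val hxe.apply_eq_smul⟩
  have han : a ^ n = 1 := by
    have h3 := pow_eig hxa n
    rw [hfn, Module.End.one_apply] at h3
    have h4 : (a ^ n - 1) • x = 0 := by rw [sub_smul, ← h3, one_smul, sub_self]
    rcases smul_eq_zero.1 h4 with h | h
    · exact sub_eq_zero.1 h
    · exact absurd h hx
  have hbn : b ^ n = 1 := by
    have h3 := pow_eig hxb n
    rw [hfn', Module.End.one_apply] at h3
    have h4 : (b ^ n - 1) • x = 0 := by rw [sub_smul, ← h3, one_smul, sub_self]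
    rcases smul_eq_zero.1 h4 with h | h
    · exact sub_eq_zero.1 h
    · exact absurd h hx
  have hn0 : n ≠ 0 := by rintro rfl; exact (Nat.not_odd_zero hn)
  have ha0 : a ≠ 0 := by rintro rfl; rw [zero_pow hn0] at han; exact zero_ne_one han
  have hb0 : b ≠ 0 := by rintro rfl; rw [zero_pow hn0] at hbn; exact zero_ne_one hbn
  have haa : a ≠ a⁻¹ := by
    intro h
    apply ha1
    refine odd_eq_one hn han ?_
    nth_rw 2 [h]
    exact mul_inv_cancel₀ ha0
  obtain ⟨g1, g1'⟩ := step_e h1 h2 hb0 hxa hxb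
  obtain ⟨g2, g2'⟩ := step_e h1 h2 ha0 g1 g1'
  obtain ⟨g3, g3'⟩ := step_e h1 h2 (inv_ne_zero hb0) g2 g2'
  rw [inv_inv] at g3
  have hw : t (x - t x + t (t x) - t (t (t x))) = -(x - t x + t (t x) - t (t (t x))) := by
    rw [map_sub, map_add, map_sub, ht4]
    abel
  have hw0 := hneg _ hw
  have hw1 : (1 : k) • x + (-1 : k) • t x + (1 : k) • t (t x) + (-1 : k) • t (t (t x)) = 0 := by
    rw [← hw0]; module
  -- kill `t x`
  obtain ⟨c0, c2, c3, hc0, hs1⟩ : ∃ c0 c2 c3 : k, c0 ≠ 0 ∧ c0 • x + (0 : k) • t x + c2 • t (t x) + c3 • t (t (t x)) = 0 := by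
    by_cases hab : a = b⁻¹
    · have hba : b ≠ a := by
        intro h
        apply haa
        rw [h] at hab
        exact hab
      have h5 := elim a hw1 hxb g1' g2' g3'
      rw [sub_self, mul_zero] at h5
      exact ⟨1 * (b - a), _, _, by rw [one_mul]; exact sub_ne_zero.2 hba, h5⟩
    · have h5 := elim b⁻¹ hw1 hxa g1 g2 g3
      rw [sub_self, mul_zero] at h5
      exact ⟨1 * (a - b⁻¹), _, _, by rw [one_mul]; exact sub_ne_zero.2 hab, h5⟩
  -- kill `t (t x)`
  have hs2 := elim a⁻¹ hs1 hxa g1 g2 g3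
  rw [zero_mul, sub_self, mul_zero] at hs2
  have hd0 : c0 * (a - a⁻¹) ≠ 0 := mul_ne_zero hc0 (sub_ne_zero.2 haa)
  -- kill `t (t (t x))`
  by_cases hab : a = b
  · have hba : b ≠ a⁻¹ := by rw [← hab]; exact haa
    have hs3 := elim a⁻¹ hs2 hxb g1' g2' g3'
    simp only [zero_mul, sub_self, mul_zero, zero_smul, add_zero] at hs3
    rcases smul_eq_zero.1 hs3 with h | h
    · exact mul_ne_zero hd0 (sub_ne_zero.2 hba) h
    · exact hx h
  · have hs3 := elim b hs2 hxa g1 g2 g3
    simp only [zero_mul, sub_self, mul_zero, zero_smul, add_zero] at hs3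
    rcases smul_eq_zero.1 hs3 with h | h
    · exact mul_ne_zero hd0 (sub_ne_zero.2 hab) h
    · exact hx h

/-- the version on an invariant submodule -/
theorem weights [IsAlgClosed k] [FiniteDimensional k V] {X : Submodule k V} {f f' t : End k V}
    (hf : ∀ x ∈ X, f x ∈ X) (hf' : ∀ x ∈ X, f' x ∈ X) (ht : ∀ x ∈ X, t x ∈ X)
    (hc : ∀ x ∈ X, f (f' x) = f' (f x)) (h1 : ∀ x ∈ X, t (f x) = f' (t x)) (h2 : ∀ x ∈ X, f (t (f' x)) = t x)
    {n : ℕ} (hn : Odd n) (hnk : (n : k) ≠ 0) (hfn : ∀ x ∈ X, (f ^ n) x = x) (hfn' : ∀ x ∈ X, (f' ^ n) x = x)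
    (ht4 : ∀ x ∈ X, t (t (t (t x))) = x) (hneg : ∀ x ∈ X, t x = -x → x = 0) : ∀ x ∈ X, f x = x := by
  have hpow : ∀ (g : End k V) (hg : ∀ x ∈ X, g x ∈ X) (m : ℕ) (x : X), (((g.restrict hg) ^ m) x : V) = (g ^ m) x := by
    intro g hg m
    induction m with
    | zero => intro x; rfl
    | succ m ih =>
      intro x
      rw [pow_succ', pow_succ', Module.End.mul_apply, Module.End.mul_apply, ← ih]
      rfl
  have key : f.restrict hf = 1 := by
    refine weights_top (f := f.restrict hf) (f' := f'.restrict hf') (t := t.restrict ht) ?_ ?_ ?_ hn hnk ?_ ?_ ?_ ?_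
    · ext x; exact hc x x.2
    · ext x; exact h1 x x.2
    · ext x; exact h2 x x.2
    · ext x; rw [hpow]; exact hfn x x.2
    · ext x; rw [hpow]; exact hfn' x x.2
    · intro x; apply Subtype.ext; exact ht4 x x.2
    · intro x hx; apply Subtype.ext; exact hneg x x.2 (congrArg Subtype.val hx)
  intro x hx
  exact congrArg (fun g : End k X => ((g ⟨x, hx⟩ : X) : V)) key

end Cfsg.Agent.H563.RV.LemA
end

-- part: H563/RV/LemA
section
/-!
# TEAM RV, NRow for the exceptional groups: LEMMA A (helper563)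

`lemA` : `R ≤ D.group k` finite of odd order prime to `p ≥ 5`, normalised by the elements `h_s(i)`, `i ^ 2 = -1`, `s` in
the frame `L`; then the involutions `h_s(-1)` centralise `R`.
-/

set_option autoImplicit false
set_option linter.unusedSectionVars false

namespace Cfsg.Agent.H563.RV.LemA

open CoxeterSystem Cfsg Cfsg.Lie Cfsg.Lie.ChevalleyDatum
open Cfsg.Agent.ChevalleyStructure Cfsg.Agent.ChevalleyStructure.Elts Cfsg.Agent.ChevalleyStructure.CoxeterGeom
  Cfsg.Agent.ChevalleyStructure.CoxeterGeomTypes Cfsg.Agent.ChevalleyStructure.NPerm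
open Cfsg.Agent.ChevalleyStructure.LieAbs Cfsg.Agent.ChevalleyStructure.Ring Cfsg.Agent.ChevalleyStructure.JacMain
  Cfsg.Agent.ChevalleyStructure.LieAut Cfsg.Agent.ChevalleyStructure.JacAll
open Cfsg.Agent.Tits.Roots Cfsg.Agent.Tits.Core Cfsg.Agent.Nodes Cfsg.Agent.Nodes.Reps Cfsg.Agent.Nodes.BNOf
  Cfsg.Agent.Nodes.RGDChev Cfsg.Agent.Nodes.Bruhat Cfsg.Agent.Nodes.NormalForm
open Cfsg.Agent.KFacts.RgdField Cfsg.Agent.KFacts.RgdChevCoord
open Cfsg.Agent.BpExc Cfsg.Agent.BpExc.TorCent Cfsg.Agent.BpExc.TorChev Cfsg.Agent.BpExc.Tow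
  Cfsg.Agent.BpExc.TowChev Cfsg.Agent.BpExc.Fr Cfsg.Agent.BpExc.Pair Cfsg.Agent.BpExc.LangFr Cfsg.Agent.GpExc.Field
  Cfsg.Agent.BpExc.TorAll
open Cfsg.Agent.H469.Exc Cfsg.Agent.H469.Exc.SigFr
open scoped commutatorElement
open Cfsg.Agent.Nodes.RGDFoldSL
open Cfsg.Agent.H167.EX Cfsg.Agent.H971.RV
open Cfsg.Agent.ChevalleyStructure.HMatDiagAll (expo)
open Module Matrix

universe u v

/-! ### the tables -/

/-- the pairing with a block of roots -/
def ex (D : ChevalleyDatum) (s : List ℕ) (r : ℕ) : ℤ := (s.map fun s => expo D s r).sum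

/-- the frame (a list of blocks) -/
structure Tab (D : ChevalleyDatum) (L : List (List ℕ)) : Prop where
  lt : ∀ s ∈ L, ∀ a ∈ s, a < D.nroots
  fr : ∀ r < D.nroots, 2 ≤ (L.filter fun s => decide (ex D s r % 2 ≠ 0)).length ∨
    ((∀ s ∈ L, ex D s r % 2 = 0) ∧ (L.filter fun s => decide (ex D s r % 4 ≠ 0)).length = 1)

theorem Tab.one {D : ChevalleyDatum} {L : List (List ℕ)} (T : Tab D L) {r : ℕ} (hr : r < D.nroots) :
    ∃ s ∈ L, ex D s r % 4 ≠ 0 := by
  rcases T.fr r hr with h | ⟨-, h⟩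
  · obtain ⟨s, hs⟩ := List.exists_mem_of_length_pos (l := L.filter fun s => decide (ex D s r % 2 ≠ 0)) (by omega)
    obtain ⟨h1, h2⟩ := List.mem_filter.1 hs
    have h3 := of_decide_eq_true h2
    exact ⟨s, h1, by omega⟩
  · obtain ⟨s, hs⟩ := List.exists_mem_of_length_pos (l := L.filter fun s => decide (ex D s r % 4 ≠ 0)) (by omega)
    obtain ⟨h1, h2⟩ := List.mem_filter.1 hs
    exact ⟨s, h1, of_decide_eq_true h2⟩

theorem Tab.two {D : ChevalleyDatum} {L : List (List ℕ)} (T : Tab D L) {r r' : ℕ} (hr : r < D.nroots) (hr' : r' < D.nroots)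
    (ho : ∃ s ∈ L, ex D s r % 2 ≠ 0) (h : ∀ s ∈ L, ex D s r' % 4 = (2 * ex D s r) % 4) : False := by
  have e : (L.filter fun s => decide (ex D s r' % 4 ≠ 0)) = L.filter fun s => decide (ex D s r % 2 ≠ 0) := by
    refine List.filter_congr fun s hs => ?_
    have h1 := h s hs
    rw [decide_eq_decide]
    (clear * - h1; solve | lia | omega)
  have h2 : 2 ≤ (L.filter fun s => decide (ex D s r % 2 ≠ 0)).length := by
    rcases T.fr r hr with h3 | ⟨h3, -⟩
    · exact h3
    · obtain ⟨s, hs, h4⟩ := ho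
      exact absurd (h3 s hs) h4
  rcases T.fr r' hr' with h3 | ⟨-, h3⟩
  · obtain ⟨s, hs⟩ := List.exists_mem_of_length_pos (l := L.filter fun s => decide (ex D s r' % 2 ≠ 0)) (by omega)
    obtain ⟨h4, h5⟩ := List.mem_filter.1 hs
    have h6 := of_decide_eq_true h5
    have h7 := h s h4
    omega
  · rw [e] at h3
    omega

/-- the boolean check of the frame -/
def frB (D : ChevalleyDatum) (L : List (List ℕ)) : Bool :=
  (L.all fun s => s.all fun a => decide (a < D.nroots)) && (List.range D.nroots).all fun r =>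
    decide (2 ≤ (L.filter fun s => decide (ex D s r % 2 ≠ 0)).length) ||
    ((L.all fun s => decide (ex D s r % 2 = 0)) &&
      decide ((L.filter fun s => decide (ex D s r % 4 ≠ 0)).length = 1))

theorem tab_of {D : ChevalleyDatum} {L : List (List ℕ)} (h : frB D L = true) : Tab D L := by
  unfold frB at h
  rw [Bool.and_eq_true] at h
  refine ⟨fun s hs a ha => of_decide_eq_true (List.all_eq_true.1 (List.all_eq_true.1 h.1 s hs) a ha), fun r hr => ?_⟩
  have h1 := List.all_eq_true.1 h.2 r (List.mem_range.2 hr)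
  rw [Bool.or_eq_true, Bool.and_eq_true, decide_eq_true_iff, decide_eq_true_iff] at h1
  rcases h1 with h1 | ⟨h1, h2⟩
  · exact Or.inl h1
  · exact Or.inr ⟨fun s hs => of_decide_eq_true (List.all_eq_true.1 h1 s hs), h2⟩

/-- distinct roots give distinct functionals -/
structure Dist (D : ChevalleyDatum) : Prop where
  bd : ∀ i < D.rank, ∀ r < D.nroots, -3 ≤ Columns.car D i r ∧ Columns.car D i r ≤ 3
  ne : ∀ r < D.nroots, ∃ i < D.rank, Columns.car D i r ≠ 0
  inj : ∀ r < D.nroots, ∀ r' < D.nroots, r ≠ r' → ∃ i < D.rank, Columns.car D i r - Columns.car D i r' ≠ 0 ∧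
    Columns.car D i r - Columns.car D i r' ≠ 5 ∧ Columns.car D i r - Columns.car D i r' ≠ -5

/-- the code of a functional -/
def cd (D : ChevalleyDatum) : ℕ → ℕ → ℕ
  | 0, _ => 0
  | n + 1, r => (Columns.car D n r + 2).toNat + 5 * cd D n r

theorem cd_eq {D : ChevalleyDatum} {r r' : ℕ} : ∀ {n : ℕ}, (∀ i < n, Columns.car D i r = Columns.car D i r') →
    cd D n r = cd D n r'
  | 0, _ => rfl
  | n + 1, h => by
    show (Columns.car D n r + 2).toNat + 5 * cd D n r = (Columns.car D n r' + 2).toNat + 5 * cd D n r'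
    rw [h n (Nat.lt_succ_self n), cd_eq fun i hi => h i (Nat.lt_succ_of_lt hi)]

/-- the boolean check of the bounds -/
def bdB (D : ChevalleyDatum) : Bool :=
  ((List.range D.rank).all fun i => (List.range D.nroots).all fun r =>
    decide (-2 ≤ Columns.car D i r ∧ Columns.car D i r ≤ 2)) &&
  (List.range D.nroots).all fun r => (List.range D.rank).any fun i => decide (Columns.car D i r ≠ 0)

theorem dist_of {D : ChevalleyDatum} (h : bdB D = true) (h' : ((List.range D.nroots).map (cd D D.rank)).Nodup) :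
    Dist D := by
  unfold bdB at h
  rw [Bool.and_eq_true] at h
  have hb : ∀ i < D.rank, ∀ r < D.nroots, -2 ≤ Columns.car D i r ∧ Columns.car D i r ≤ 2 := fun i hi r hr =>
    of_decide_eq_true (List.all_eq_true.1 (List.all_eq_true.1 h.1 i (List.mem_range.2 hi)) r (List.mem_range.2 hr))
  refine ⟨fun i hi r hr => ?_, fun r hr => ?_, fun r hr r' hr' hne => ?_⟩
  · have := hb i hi r hr
    omega
  · obtain ⟨i, hi, h2⟩ := List.any_eq_true.1 (List.all_eq_true.1 h.2 r (List.mem_range.2 hr))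
    exact ⟨i, List.mem_range.1 hi, of_decide_eq_true h2⟩
  · obtain ⟨i, hi, h3⟩ : ∃ i < D.rank, Columns.car D i r ≠ Columns.car D i r' := by
      by_contra hcon
      push Not at hcon
      exact hne (List.inj_on_of_nodup_map h' (List.mem_range.2 hr) (List.mem_range.2 hr') (cd_eq hcon))
    have h4 := hb i hi r hr
    have h5 := hb i hi r' hr'
    exact ⟨i, hi, by omega, by omega, by omega⟩

/-! ### elements acting trivially on the Cartan subalgebra -/

section Fix

variable {D : ChevalleyDatum} {k : Type u} [Field k]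

theorem cast_ne (p : ℕ) [hpp : Fact p.Prime] [CharP k p] (hp5 : 5 ≤ p) {m : ℤ} (hm : m ≠ 0)
    (h4 : -6 ≤ m ∧ m ≤ 6) (h5 : m ≠ 5 ∧ m ≠ -5) : (m : k) ≠ 0 := by
  intro h
  rw [CharP.intCast_eq_zero_iff k p] at h
  have hp6 : p ≠ 6 := by
    rintro rfl
    exact absurd hpp.out (by norm_num)
  have h1 : p ≤ m.natAbs := Nat.le_of_dvd (Int.natAbs_pos.2 hm) (Int.natCast_dvd.1 h)
  have h2 : p = 5 := by omega
  subst h2
  omega

theorem br_inl (i : Fin D.rank) (w : D.Idx → k) (j : D.Idx) : br D k (Pi.single (Sum.inl i) 1) w j =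
    (((Sum.elim (fun _ => (0 : ℤ)) (fun s : Fin D.nroots => Columns.car D i s.val)) j : ℤ) : k) * w j := by
  unfold br
  rw [adv_single_one, adR_def, adA_inl, adH]
  have h1 : (Matrix.diagonal (Sum.elim (fun _ => (0 : ℤ)) (fun s : Fin D.nroots => Columns.car D i s.val)) :
      Matrix D.Idx D.Idx ℤ).map (Int.castRingHom k) = Matrix.diagonal fun j =>
        (((Sum.elim (fun _ => (0 : ℤ)) (fun s : Fin D.nroots => Columns.car D i s.val)) j : ℤ) : k) := by
    ext a b
    by_cases hab : a = b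
    · subst hab; simp
    · simp [hab]
  rw [h1, Matrix.mulVec_diagonal]

/-- **An element acting trivially on the Cartan subalgebra is diagonal.** -/
theorem diag_of_fix (p : ℕ) [Fact p.Prime] [CharP k p] (hp5 : 5 ≤ p) (hD : Dist D)
    (hl : D ∈ [chevG2, chevB2, chevD4, chevF4, chevE6, chevE7, chevE8]) {g : ↥(D.group k)}
    (hg : ∀ i : Fin D.rank, rho D k g (Pi.single (Sum.inl i) 1) = Pi.single (Sum.inl i) 1) (j j' : D.Idx) (hjj : j ≠ j') :
    ((g : GL D.Idx k) : Matrix D.Idx D.Idx k) j j' = 0 := by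
  have e0 : ((g : GL D.Idx k) : Matrix D.Idx D.Idx k) j j' = rho D k g (Pi.single j' 1) j := by
    rw [rho_apply, Matrix.mulVec_single_one]; rfl
  rw [e0]
  rcases j' with i' | r
  · rw [hg, Pi.single_eq_of_ne hjj]
  · set w := rho D k g (Pi.single (Sum.inr r) 1) with hw
    have h1 : ∀ i : Fin D.rank, br D k (Pi.single (Sum.inl i) 1) w = ((Columns.car D i r.val : ℤ) : k) • w := by
      intro i
      have h2 := rho_br hl g (Pi.single (Sum.inl i) 1) (Pi.single (Sum.inr r) 1)
      rw [hg, ← hw] at h2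
      have h3 : br D k (Pi.single (Sum.inl i) 1) (Pi.single (Sum.inr r) 1) =
          ((Columns.car D i r.val : ℤ) : k) • (Pi.single (Sum.inr r) (1 : k) : D.Idx → k) := by
        ext j
        rw [br_inl, Pi.smul_apply, smul_eq_mul]
        by_cases hj : j = Sum.inr r
        · subst hj; rfl
        · rw [Pi.single_eq_of_ne hj, mul_zero, mul_zero]
      rw [h3, map_smul, ← hw] at h2
      exact h2.symm
    have h2 : ∀ i : Fin D.rank, (((Sum.elim (fun _ => (0 : ℤ)) (fun s : Fin D.nroots => Columns.car D i s.val)) j : ℤ) : k) *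
        w j = ((Columns.car D i r.val : ℤ) : k) * w j := by
      intro i
      have h3 := congrFun (h1 i) j
      rw [br_inl, Pi.smul_apply, smul_eq_mul] at h3
      exact h3
    rcases j with j | r'
    · obtain ⟨i, hi, hne⟩ := hD.ne r r.isLt
      have h3 := h2 ⟨i, hi⟩
      have h4 := hD.bd i hi r r.isLt
      have h5 : ((Columns.car D i r.val : ℤ) : k) * w (Sum.inl j) = 0 := by
        rw [← h3]
        show (((0 : ℤ) : k)) * _ = 0
        rw [Int.cast_zero, zero_mul]
      exact (mul_eq_zero.1 h5).resolve_left (cast_ne p hp5 hne ⟨by omega, by omega⟩ ⟨by omega, by omega⟩)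
    · have hrr : r'.val ≠ r.val := fun h => hjj (congrArg Sum.inr (Fin.ext h))
      obtain ⟨i, hi, hne, hne1, hne2⟩ := hD.inj _ r'.isLt _ r.isLt hrr
      have h3 := h2 ⟨i, hi⟩
      have h4 := hD.bd i hi r r.isLt
      have h4' := hD.bd i hi r' r'.isLt
      have h5 : ((Columns.car D i r'.val - Columns.car D i r.val : ℤ) : k) * w (Sum.inr r') = 0 := by
        rw [Int.cast_sub, sub_mul]
        exact sub_eq_zero.2 h3
      exact (mul_eq_zero.1 h5).resolve_left (cast_ne p hp5 hne ⟨by omega, by omega⟩ ⟨hne1, hne2⟩)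

end Fix

/-! ### the main theorem -/

section Main

variable {D : ChevalleyDatum} {l : ℕ} {M : CoxeterMatrix (Fin l)} (hp : IsType D l M) {k : Type u} [Field k]

/-- the weights of a toral element -/
noncomputable def wt (t : ↥(D.group k)) : D.Idx → k :=
  Sum.elim (fun _ => (1 : k)) (fun r : Fin D.nroots => ch hp (_root_.Cfsg.Agent.Nodes.RGDChev.vec D l r) t)

theorem rho_TT (p : ℕ) [Fact p.Prime] [CharP k p] (hk : LocFin k) {t : ↥(D.group k)} (ht : t ∈ TT D k)
    (x : D.Idx → k) (j : D.Idx) : rho D k t x j = wt hp t j * x j := by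
  rw [rho_apply, H892.El.coe_TT hp (r := p) hk ht, Matrix.mulVec_diagonal]
  rcases j with j | j <;> rfl

include hp in
theorem comm_TT (p : ℕ) [Fact p.Prime] [CharP k p] (hk : LocFin k) {t g : ↥(D.group k)} (ht : t ∈ TT D k)
    (hg : ∀ j j', j ≠ j' → ((g : GL D.Idx k) : Matrix D.Idx D.Idx k) j j' = 0) : g * t = t * g := by
  apply Subtype.ext
  apply Units.ext
  show ((g : GL D.Idx k) : Matrix D.Idx D.Idx k) * ((t : GL D.Idx k) : Matrix D.Idx D.Idx k) =
    ((t : GL D.Idx k) : Matrix D.Idx D.Idx k) * ((g : GL D.Idx k) : Matrix D.Idx D.Idx k)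
  rw [H892.El.coe_TT hp (r := p) hk ht]
  ext a b
  rw [Matrix.mul_diagonal, Matrix.diagonal_mul]
  by_cases hab : a = b
  · subst hab; rw [mul_comm]
  · rw [hg a b hab, zero_mul, mul_zero]

/-- the element of a block -/
noncomputable def xb (i : k) (s : List ℕ) : ↥(D.group k) := (s.map (xd hp i)).prod

theorem xb_mem {i : k} (hi : i ≠ 0) (s : List ℕ) : xb hp i s ∈ TT D k := by
  induction s with
  | nil => exact one_mem _
  | cons a s ih =>
    unfold xb at ih ⊢
    rw [List.map_cons, List.prod_cons]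
    exact mul_mem (xd_mem hp hi a) ih

theorem xb_four {i : k} (hi : i * i = -1) (s : List ℕ) : xb hp i s ^ 4 = 1 := by
  have hi0 : i ≠ 0 := by rintro rfl; rw [mul_zero] at hi; exact one_ne_zero (neg_eq_zero.1 hi.symm)
  induction s with
  | nil => exact one_pow 4
  | cons a s ih =>
    have h3 : Commute (xd hp i a) (xb hp i s) := TT_comm hp _ (xd_mem hp hi0 a) _ (xb_mem hp hi0 s)
    have e : xb hp i (a :: s) = xd hp i a * xb hp i s := by unfold xb; rw [List.map_cons, List.prod_cons]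
    rw [e, h3.mul_pow, xd_four hp hi, ih, one_mul]

theorem ch_xb (p : ℕ) [Fact p.Prime] [CharP k p] (hk : LocFin k) {i : k} (hi : i ≠ 0) {s : List ℕ}
    (h : ∀ a ∈ s, a < D.nroots) {r : ℕ} (hr : r < D.nroots) : ch hp (_root_.Cfsg.Agent.Nodes.RGDChev.vec D l r) (xb hp i s) = i ^ ex D s r := by
  induction s with
  | nil =>
    show ch hp (_root_.Cfsg.Agent.Nodes.RGDChev.vec D l r) 1 = i ^ (0 : ℤ)
    rw [ch_one hp p hk hr, zpow_zero]
  | cons a s ih =>
    have e : xb hp i (a :: s) = xd hp i a * xb hp i s := by unfold xb; rw [List.map_cons, List.prod_cons]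
    have e' : ex D (a :: s) r = expo D a r + ex D s r := by unfold ex; rw [List.map_cons, List.sum_cons]
    rw [e, e', ch_mul hp p hk hr (xd_mem hp hi a) (xb_mem hp hi s), ih fun b hb => h b (List.mem_cons_of_mem _ hb),
      ch_xd hp p hk hi (h a List.mem_cons_self) hr, zpow_add₀ hi]

/-- the toral 2-group -/
def YY (i : k) (L : List (List ℕ)) : Subgroup ↥(D.group k) := Subgroup.closure {x | ∃ s ∈ L, x = xb hp i s}

theorem YY_le {i : k} (hi0 : i ≠ 0) (L : List (List ℕ)) : YY hp i L ≤ TT D k := by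
  refine (Subgroup.closure_le _).2 ?_
  rintro _ ⟨s, -, rfl⟩
  exact xb_mem hp hi0 s

theorem xb_mem_YY (i : k) {L : List (List ℕ)} {s : List ℕ} (hs : s ∈ L) : xb hp i s ∈ YY hp i L :=
  Subgroup.subset_closure ⟨s, hs, rfl⟩

theorem YY_comm {i : k} (hi0 : i ≠ 0) (L : List (List ℕ)) : ∀ a ∈ YY hp i L, ∀ b ∈ YY hp i L, a * b = b * a :=
  fun a ha b hb => TT_comm hp a (YY_le hp hi0 L ha) b (YY_le hp hi0 L hb)

theorem YY_four {i : k} (hi : i * i = -1) (L : List (List ℕ)) : ∀ a ∈ YY hp i L, a ^ 4 = 1 := by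
  have hi0 : i ≠ 0 := by rintro rfl; rw [mul_zero] at hi; exact one_ne_zero (neg_eq_zero.1 hi.symm)
  intro a ha
  unfold YY at ha
  induction ha using Subgroup.closure_induction with
  | mem x hx =>
    obtain ⟨s, -, rfl⟩ := hx
    exact xb_four hp hi s
  | one => exact one_pow 4
  | mul x y hx hy h1 h2 =>
    have h3 : Commute x y := YY_comm hp hi0 L x hx y hy
    rw [h3.mul_pow, h1, h2, one_mul]
  | inv x _ h1 => rw [inv_pow, h1, inv_one]

theorem odd_one {G : Type*} [Group G] {v : G} {n : ℕ} (hn : Odd n) (h : v ^ n = 1) (h2 : v * v = 1) : v = 1 := by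
  obtain ⟨m, rfl⟩ := hn
  rw [pow_succ, pow_mul, pow_two, h2, one_pow, one_mul] at h
  exact h

/-- an element of odd order commuting with the `h_s(i)` is toral -/
theorem mem_TT_of_YY (p : ℕ) [Fact p.Prime] [CharP k p] (h2 : (2 : k) ≠ 0) (hk : LocFin k) {L : List (List ℕ)} (T : Tab D L)
    {i : k} (hi : i * i = -1) {c : ↥(D.group k)} {m : ℕ} (hm : Odd m) (hcm : c ^ m = 1)
    (hc : ∀ a ∈ YY hp i L, Commute c a) : c ∈ TT D k := by
  have hi0 : i ≠ 0 := by rintro rfl; rw [mul_zero] at hi; exact one_ne_zero (neg_eq_zero.1 hi.symm)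
  obtain ⟨j, hj⟩ := pow_mem_set hp hk p (S := {x | ∃ s ∈ L, x = xb hp i s}) (by
    rintro _ ⟨s, -, rfl⟩
    exact xb_mem hp hi0 s) Nat.prime_two (by
    rintro _ ⟨s, -, rfl⟩
    exact ⟨2, xb_four hp hi s⟩) (g := c) (by
    rintro _ ⟨s, hs, rfl⟩
    exact hc _ (xb_mem_YY hp i hs))
  refine Cfsg.Agent.H167.EX.mem_of_pow hm hcm ((sup_le (RGD.Sup_le fun a ha => ?_) le_rfl : _ ≤ TT D k) hj)
  exfalso
  obtain ⟨b, hb, rfl⟩ := (isRoot_iff hp M.toCoxeterSystem a).1 ha.1
  obtain ⟨s, hs, hne⟩ := T.one hb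
  have h3 := ha.2 _ ⟨s, hs, rfl⟩
  rw [ch_xb hp p hk hi0 (T.lt s hs) hb, ← zpow_zero i] at h3
  have h4 := mod_four h2 hi h3
  exact hne (by rw [h4]; rfl)

theorem conf_false [IsAlgClosed k] (p : ℕ) [Fact p.Prime] [CharP k p] (hp5 : 5 ≤ p) (hk : LocFin k) (hD : Dist D)
    {L : List (List ℕ)} (T : Tab D L) {i : k} (hi : i * i = -1) {R : Subgroup ↥(D.group k)} [Finite R]
    (hodd : Odd (Nat.card R)) (hpR : ¬ p ∣ Nat.card R) {y v : ↥(D.group k)} (hC : Conf (YY hp i L) R y v) : False := by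
  have hi0 : i ≠ 0 := by rintro rfl; rw [mul_zero] at hi; exact one_ne_zero (neg_eq_zero.1 hi.symm)
  have h2 : (2 : k) ≠ 0 := by
    have := cast_ne (k := k) p hp5 (m := 2) (by norm_num) ⟨by norm_num, by norm_num⟩ ⟨by norm_num, by norm_num⟩
    exact_mod_cast this
  set! Y := YY hp i L with hY; rewrite [← hY] at hC
  have hYT : Y ≤ TT D k := YY_le hp hi0 L
  set! n := Nat.card R with hn; rewrite [← hn] at hpR hodd
  have hnk : (n : k) ≠ 0 := by
    rw [Ne, CharP.cast_eq_zero_iff k p]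
    exact hpR
  have hpow : ∀ g ∈ R, g ^ n = 1 := by
    intro g hg
    have h1 : (⟨g, hg⟩ : R) ^ n = 1 := pow_card_eq_one'
    exact congrArg Subtype.val h1
  obtain ⟨v', hv'⟩ : ∃ v', v' = y * v * y⁻¹ := ⟨_, rfl⟩
  obtain ⟨c, hc⟩ : ∃ c, c = ⁅v, y * v * y⁻¹⁆ := ⟨_, rfl⟩
  have hcv := hC.cv
  have hcv' := hC.cv'
  have hcY := hC.cY
  have hcyc := hC.cyc
  rw [← hc] at hcv hcv' hcY
  simp only [← hv'] at hcv' hcyc
  rw [← hv'] at hc
  have hvn := hpow v hC.hv
  have hv'n : v' ^ n = 1 := by rw [hv']; exact hpow _ hC.hv'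
  have hcR : c ∈ R := by
    rw [hc, commutatorElement_def, hv']
    exact R.mul_mem (R.mul_mem (R.mul_mem hC.hv hC.hv') (R.inv_mem hC.hv)) (R.inv_mem hC.hv')
  have hcT : c ∈ TT D k := mem_TT_of_YY hp p h2 hk T hi hodd (hpow c hcR) hcY
  have hyT := hYT hC.hy
  have hy4 : y ^ 4 = 1 := YY_four hp hi L y hC.hy
  -- relations
  have hyv : y * v = v' * y := by rw [hv']; group
  have hyv' : y * v' * y⁻¹ = v⁻¹ := by
    rw [← hC.inv, hv', _root_.mul_inv_rev]
    simp only [mul_assoc]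
  have hrel : v * y * v' = y := by
    have h3 : y * v' = v⁻¹ * y := by rw [← hyv']; group
    rw [mul_assoc, h3, mul_inv_cancel_left]
  -- the module
  let X : Submodule k (D.Idx → k) :=
    { carrier := {x | rho D k c x = x ∧ ∀ a ∈ Y, Commute a v → Commute a v' → rho D k a x = x}
      add_mem' := by
        rintro x x' ⟨h3, h4⟩ ⟨h5, h6⟩
        exact ⟨by rw [map_add, h3, h5], fun a ha hav hav' => by rw [map_add, h4 a ha hav hav', h6 a ha hav hav']⟩
      zero_mem' := ⟨map_zero _, fun a _ _ _ => map_zero _⟩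
      smul_mem' := by
        rintro b x ⟨h3, h4⟩
        exact ⟨by rw [map_smul, h3], fun a ha hav hav' => by rw [map_smul, h4 a ha hav hav']⟩ }
  have hXm : ∀ x, x ∈ X ↔ (rho D k c x = x ∧ ∀ a ∈ Y, Commute a v → Commute a v' → rho D k a x = x) := fun _ => Iff.rfl
  have hmul : ∀ (g h : ↥(D.group k)) (x : D.Idx → k), rho D k (g * h) x = rho D k g (rho D k h x) := by
    intro g h x; rw [map_mul]; rfl
  have hinvX : ∀ g : ↥(D.group k), Commute c g → (∀ a ∈ Y, Commute a v → Commute a v' → Commute a g) →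
      ∀ x ∈ X, rho D k g x ∈ X := by
    intro g h3 h4 x hx
    rw [hXm] at hx ⊢
    refine ⟨?_, fun a ha hav hav' => ?_⟩
    · rw [← hmul, h3.eq, hmul, hx.1]
    · rw [← hmul, (h4 a ha hav hav').eq, hmul, hx.2 a ha hav hav']
  have hXv := hinvX v hcv fun a _ h _ => h
  have hXv' := hinvX v' hcv' fun a _ _ h => h
  have hXy := hinvX y (hcY y hC.hy) fun a ha _ _ => YY_comm hp hi0 L a ha y hC.hy
  -- the Cartan subalgebra
  have hH : ∀ j : Fin D.rank, (Pi.single (Sum.inl j) (1 : k) : D.Idx → k) ∈ X := by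
    intro j
    have h3 : ∀ t ∈ TT D k, rho D k t (Pi.single (Sum.inl j) (1 : k)) = Pi.single (Sum.inl j) (1 : k) := by
      intro t ht
      ext j'
      rw [rho_TT hp p hk ht]
      by_cases hj : j' = Sum.inl j
      · subst hj
        show (1 : k) * _ = _
        rw [one_mul]
      · rw [Pi.single_eq_of_ne hj, mul_zero]
    exact (hXm _).2 ⟨h3 c hcT, fun a ha _ _ => h3 a (hYT ha)⟩
  -- `v` is trivial on `X`
  have hvX : ∀ x ∈ X, rho D k v x = x := by
    by_cases hz : ∀ x ∈ X, rho D k (y * y) x = x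
    · intro x hx
      have h3 : rho D k v x ∈ X := hXv x hx
      have h4 : v * (y * y) * v = y * y := by
        have h5 : (y * y) * v = v⁻¹ * (y * y) := by rw [← hC.inv]; group
        rw [mul_assoc, h5, mul_inv_cancel_left]
      have h5 : rho D k v (rho D k v x) = x := by
        have h6 := hmul (v * (y * y)) v x
        rw [h4, hz x hx, hmul, hz _ h3] at h6
        exact h6.symm
      obtain ⟨m, hm⟩ := hodd
      have h6 : ∀ m : ℕ, rho D k (v ^ (2 * m)) x = x := by
        intro m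
        induction m with
        | zero => rw [mul_zero, pow_zero, map_one]; rfl
        | succ m ih =>
          have : v ^ (2 * (m + 1)) = v * (v * v ^ (2 * m)) := by
            rw [show 2 * (m + 1) = 2 * m + 1 + 1 by ring, _root_.pow_succ', _root_.pow_succ']
          rw [this, hmul, hmul, ih, h5]
      have h7 : v = v ^ (2 * (m + 1)) := by
        have : 2 * (m + 1) = n + 1 := by omega
        rw [this, pow_succ, hvn, one_mul]
      rw [h7]
      exact h6 _
    · push Not at hz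
      obtain ⟨x0, hx0, hzx0⟩ := hz
      refine weights (X := X) (f := rho D k v) (f' := rho D k v') (t := rho D k y) hXv hXv' hXy ?_ ?_ ?_ hodd hnk
        ?_ ?_ ?_ ?_
      · intro x hx
        have h3 : v * v' = c * (v' * v) := by rw [hc, commutatorElement_def]; group
        rw [← hmul, h3, hmul, hmul]
        exact ((hXm _).1 (hXv' _ (hXv x hx))).1
      · intro x _
        rw [← hmul, hyv, hmul]
      · intro x _
        rw [← hmul, ← hmul, hrel]
      · intro x _
        rw [← map_pow, hvn, map_one]; rfl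
      · intro x _
        rw [← map_pow, hv'n, map_one]; rfl
      · intro x _
        rw [← hmul, ← hmul, ← hmul]
        have : y * y * y * y = y ^ 4 := by simp only [pow_succ, pow_zero, one_mul]
        rw [this, hy4, map_one]; rfl
      · -- no eigenvalue `-1`
        intro x hx hxy
        by_contra hxne
        -- the root of `x0`
        obtain ⟨j0, hj0⟩ := Function.ne_iff.1 hzx0
        rw [rho_TT hp p hk (mul_mem hyT hyT)] at hj0
        obtain ⟨j1, hj1⟩ := Function.ne_iff.1 hxne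
        have hj1' : wt hp y j1 = -1 := by
          have h3 := congrFun hxy j1
          rw [rho_TT hp p hk hyT, Pi.neg_apply] at h3
          have h4 : (wt hp y j1 + 1) * x j1 = 0 := by rw [add_mul, one_mul, h3]; ring
          exact eq_neg_of_add_eq_zero_left ((mul_eq_zero.1 h4).resolve_right hj1)
        have hK : ∀ (x : D.Idx → k), x ∈ X → ∀ j, x j ≠ 0 → ∀ a ∈ Y, Commute a v → Commute a v' → wt hp a j = 1 := by
          intro x hx j hj a ha hav hav'
          have h3 := congrFun (((hXm x).1 hx).2 a ha hav hav') j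
          rw [rho_TT hp p hk (hYT ha)] at h3
          have h4 : (wt hp a j - 1) * x j = 0 := by rw [sub_mul, one_mul, h3, sub_self]
          exact sub_eq_zero.1 ((mul_eq_zero.1 h4).resolve_right hj)
        rcases j1 with j1 | r1
        · have h3 : (1 : k) = -1 := hj1'
          apply h2
          linear_combination h3
        rcases j0 with j0 | r0
        · exact hj0 (one_mul _)
        have hx0r : x0 (Sum.inr r0) ≠ 0 := by
          intro h
          apply hj0
          rw [h, mul_zero]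
        have hw0 : wt hp (y * y) (Sum.inr r0) ≠ 1 := by
          intro h
          apply hj0
          rw [h, one_mul]
        -- weights
        have hwm : ∀ a ∈ Y, ∀ b ∈ Y, ∀ r : Fin D.nroots, wt hp (a * b) (Sum.inr r) = wt hp a (Sum.inr r) * wt hp b (Sum.inr r) :=
          fun a ha b hb r => ch_mul hp p hk r.isLt (hYT ha) (hYT hb)
        have hwp : ∀ a ∈ Y, ∀ r : Fin D.nroots, ∀ m : ℕ, wt hp (a ^ m) (Sum.inr r) = wt hp a (Sum.inr r) ^ m :=
          fun a ha r m => _root_.Cfsg.Agent.H167.EX.ch_pow hp p hk r.isLt (hYT ha) m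
        have hw4 : wt hp y (Sum.inr r0) ^ 4 = 1 := by
          rw [← hwp y hC.hy, hy4]
          exact ch_one hp p hk r0.isLt
        have hw2 : wt hp y (Sum.inr r0) ^ 2 = -1 := by
          rw [hwm y hC.hy y hC.hy] at hw0
          have h3 : (wt hp y (Sum.inr r0) * wt hp y (Sum.inr r0) - 1) * (wt hp y (Sum.inr r0) ^ 2 + 1) = 0 := by
            linear_combination hw4
          exact eq_neg_of_add_eq_zero_left ((mul_eq_zero.1 h3).resolve_left (sub_ne_zero.2 hw0))
        have hkey : ∀ a ∈ Y, wt hp a (Sum.inr r1) = wt hp a (Sum.inr r0) ^ 2 := by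
          intro a ha
          obtain ⟨m, hm1, hm2⟩ := hcyc a ha
          have hma : y ^ m * a ∈ Y := Y.mul_mem (Y.pow_mem hC.hy m) ha
          have h3 := hK x hx _ hj1 _ hma hm1 hm2
          have h4 := hK x0 hx0 _ hx0r _ hma hm1 hm2
          rw [hwm _ (Y.pow_mem hC.hy m) _ ha, hwp y hC.hy] at h3 h4
          rw [hj1'] at h3
          have h5 : (-1 : k) ^ m * wt hp a (Sum.inr r0) ^ 2 = 1 := by
            have h6 : (wt hp y (Sum.inr r0) ^ m * wt hp a (Sum.inr r0)) ^ 2 = 1 := by rw [h4, one_pow]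
            rw [mul_pow, ← pow_mul, mul_comm m 2, pow_mul, hw2] at h6
            exact h6
          have h7 : (-1 : k) ^ m ≠ 0 := pow_ne_zero _ (neg_ne_zero.2 one_ne_zero)
          exact mul_left_cancel₀ h7 (h3.trans h5.symm)
        refine T.two (r := r0) (r' := r1) r0.isLt r1.isLt ?_ ?_
        · by_contra hcon
          push Not at hcon
          apply hw0
          have h3 : ∀ a ∈ Y, wt hp a (Sum.inr r0) ^ 2 = 1 := by
            intro a ha
            rw [hY] at ha
            unfold YY at ha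
            induction ha using Subgroup.closure_induction with
            | mem b hb =>
              obtain ⟨s, hs, rfl⟩ := hb
              show ch hp (_root_.Cfsg.Agent.Nodes.RGDChev.vec D l r0) (xb hp i s) ^ 2 = 1
              rw [ch_xb hp p hk hi0 (T.lt s hs) r0.isLt, i_sq hi]
              exact Even.neg_one_zpow (Int.even_iff.2 (hcon s hs))
            | one =>
              show ch hp (_root_.Cfsg.Agent.Nodes.RGDChev.vec D l r0) 1 ^ 2 = 1
              rw [ch_one hp p hk r0.isLt, one_pow]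
            | mul a b ha hb h3 h4 =>
              rw [hwm a ha b hb, mul_pow, h3, h4, one_mul]
            | inv a ha h3 =>
              have h4 : wt hp a⁻¹ (Sum.inr r0) * wt hp a (Sum.inr r0) = 1 := by
                rw [← hwm _ (Y.inv_mem ha) _ ha, inv_mul_cancel]
                exact ch_one hp p hk r0.isLt
              have h5 : (wt hp a⁻¹ (Sum.inr r0) * wt hp a (Sum.inr r0)) ^ 2 = 1 := by rw [h4, one_pow]
              rw [mul_pow, h3, mul_one] at h5
              exact h5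
          rw [hwm y hC.hy y hC.hy, ← pow_two]
          exact h3 y hC.hy
        · intro s hs
          have h3 := hkey _ (xb_mem_YY hp i hs)
          have h4 : i ^ ex D s r1 = i ^ (2 * ex D s r0) := by
            have h5 : wt hp (xb hp i s) (Sum.inr r1) = i ^ ex D s r1 := ch_xb hp p hk hi0 (T.lt s hs) r1.isLt
            have h6 : wt hp (xb hp i s) (Sum.inr r0) = i ^ ex D s r0 := ch_xb hp p hk hi0 (T.lt s hs) r0.isLt
            rw [h5, h6, ← _root_.zpow_natCast, ← _root_.zpow_mul, mul_comm] at h3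
            exact h3
          exact mod_four h2 hi h4
  -- `v` is diagonal
  have hdiag := diag_of_fix p hp5 hD hp.inList (g := v) fun j => hvX _ (hH j)
  have h3 := comm_TT hp p hk (mul_mem hyT hyT) hdiag
  have h4 : (y * y) * v * (y * y)⁻¹ = v := by rw [← h3]; group
  have h5 := hC.inv
  rw [h4] at h5
  refine hC.ne (odd_one hodd hvn ?_)
  nth_rw 1 [h5]
  exact inv_mul_cancel v

/-- **LEMMA A.** (blocks: `xb hp i [s] = h_s(i)`) -/
theorem lemA [IsAlgClosed k] (p : ℕ) [Fact p.Prime] [CharP k p] (hp5 : 5 ≤ p) (hk : LocFin k) (hD : Dist D)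
    {L : List (List ℕ)} (T : Tab D L) {i : k} (hi : i * i = -1) {R : Subgroup ↥(D.group k)} [Finite R]
    (hodd : Odd (Nat.card R)) (hpR : ¬ p ∣ Nat.card R)
    (hn : ∀ s ∈ L, ∀ g ∈ R, xb hp i s * g * (xb hp i s)⁻¹ ∈ R) :
    ∀ s ∈ L, ∀ g ∈ R, (xb hp i s * xb hp i s) * g = g * (xb hp i s * xb hp i s) := by
  have hi0 : i ≠ 0 := by rintro rfl; rw [mul_zero] at hi; exact one_ne_zero (neg_eq_zero.1 hi.symm)
  intro s hs g hg
  by_contra hne
  have hnY : ∀ a ∈ YY hp i L, ∀ g ∈ R, a * g * a⁻¹ ∈ R := by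
    intro a ha
    unfold YY at ha
    induction ha using Subgroup.closure_induction with
    | mem x hx =>
      obtain ⟨s, hs, rfl⟩ := hx
      exact hn s hs
    | one => intro g hg; simpa using hg
    | mul x y _ _ h1 h2 =>
      intro g hg
      have h3 := h1 _ (h2 g hg)
      have e : x * y * g * (x * y)⁻¹ = x * (y * g * y⁻¹) * x⁻¹ := by group
      rw [e]; exact h3
    | inv x _ h1 =>
      intro g hg
      -- conjugation by `x` is a bijection of the finite group `R`
      let f : R → R := fun r => ⟨x * r * x⁻¹, h1 r r.2⟩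
      have hf : Function.Injective f := by
        intro a b hab
        have h3 : x * (a : ↥(D.group k)) * x⁻¹ = x * b * x⁻¹ := congrArg Subtype.val hab
        exact Subtype.ext (mul_left_cancel (mul_right_cancel h3))
      obtain ⟨⟨g', hg'⟩, h3⟩ := (Finite.injective_iff_surjective.1 hf) ⟨g, hg⟩
      have h4 : x * g' * x⁻¹ = g := congrArg Subtype.val h3
      rw [← h4]
      have e : x⁻¹ * (x * g' * x⁻¹) * x⁻¹⁻¹ = g' := by group
      rw [e]; exact hg'
  obtain ⟨y, v, hC⟩ := exists_conf (YY_comm hp hi0 L) (YY_four hp hi L) (Nat.card R) R le_rfl hodd hnY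
    (xb_mem_YY hp i hs) hg hne
  exact conf_false hp p hp5 hk hD T hi hodd hpR hC

end Main

end Cfsg.Agent.H563.RV.LemA
end

-- part: H563/RV/LemATab
section
/-!
# TEAM RV, NRow for the exceptional groups: the tables for LEMMA A (helper563)
-/

set_option autoImplicit false

namespace Cfsg.Agent.H563.RV.LemA

open Cfsg Cfsg.Lie Cfsg.Lie.ChevalleyDatum Cfsg.Agent.ChevalleyStructure

/-! ### the functionals, row by row (cheap kernel checks) -/

/-- the rows of the Cartan table -/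
def rowsL (D : ChevalleyDatum) : List (List ℤ) := D.cartanSR.toList.map Array.toList

theorem car_eq_rows (D : ChevalleyDatum) (i r : ℕ) : Columns.car D i r = ((rowsL D).getD i []).getD r 0 := by
  have e : D.cartanSR.getD i #[] = (D.cartanSR[i]?).getD #[] := Array.getD_eq_getD_getElem?
  unfold Columns.car rowsL
  rw [e, List.getD_eq_getElem?_getD (l := D.cartanSR.toList.map Array.toList), List.getElem?_map, Array.getElem?_toList]
  rcases D.cartanSR[i]? with _ | a
  · show (#[] : Array ℤ).getD r 0 = ([] : List ℤ).getD r 0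
    rw [Array.getD_eq_getD_getElem?]
    simp
  · show a.getD r 0 = a.toList.getD r 0
    rw [Array.getD_eq_getD_getElem?, List.getD_eq_getElem?_getD, Array.getElem?_toList]

/-- one more row -/
def zc (acc : List ℕ) (row : List ℤ) : List ℕ := List.zipWith (fun x c => (x + 2).toNat + 5 * c) row acc

/-- the codes of all roots -/
def codes (D : ChevalleyDatum) : List ℕ := (rowsL D).foldl zc (List.replicate D.nroots 0)

/-- the boolean check of the rows -/
def rowsB (D : ChevalleyDatum) : Bool :=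
  decide ((rowsL D).length = D.rank) && (rowsL D).all fun row =>
    decide (row.length = D.nroots) && row.all fun x => decide (-2 ≤ x) && decide (x ≤ 2)

/-- the code of the zero functional -/
def zcode : ℕ → ℕ
  | 0 => 0
  | n + 1 => 2 + 5 * zcode n

theorem cd_zero {D : ChevalleyDatum} {r : ℕ} : ∀ {n : ℕ}, (∀ i < n, Columns.car D i r = 0) → cd D n r = zcode n
  | 0, _ => rfl
  | n + 1, h => by
    show (Columns.car D n r + 2).toNat + 5 * cd D n r = 2 + 5 * zcode n
    rw [h n (Nat.lt_succ_self n), cd_zero fun i hi => h i (Nat.lt_succ_of_lt hi)]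
    rfl

theorem take_codes (D : ChevalleyDatum) (hl : ∀ row ∈ rowsL D, row.length = D.nroots) :
    ∀ k ≤ (rowsL D).length, ((rowsL D).take k).foldl zc (List.replicate D.nroots 0) =
      (List.range D.nroots).map (cd D k)
  | 0, _ => by
    rw [List.take_zero, List.foldl_nil]
    refine List.ext_getElem (by simp) fun n h1 h2 => ?_
    rw [List.getElem_replicate, List.getElem_map]
    rfl
  | k + 1, hk => by
    have hk' : k < (rowsL D).length := hk
    rw [List.take_succ_eq_append_getElem hk', List.foldl_append, take_codes D hl k hk'.le, List.foldl_cons,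
      List.foldl_nil]
    have h1 := hl _ (List.getElem_mem hk')
    refine List.ext_getElem (by simp [zc, h1]) fun n h2 h3 => ?_
    have hn : n < D.nroots := by simpa using h3
    simp only [zc, List.getElem_zipWith, List.getElem_map, List.getElem_range]
    show _ = (Columns.car D k n + 2).toNat + 5 * cd D k n
    rw [car_eq_rows, List.getD_eq_getElem _ _ hk', List.getD_eq_getElem _ _ (by rw [h1]; exact hn)]

/-- `Dist` from the rows -/
theorem dist_of_rows {D : ChevalleyDatum} (h : rowsB D = true) {L : List ℕ} (hL : codes D = L) (hz : zcode D.rank ∉ L)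
    (hnd : L.Nodup) : Dist D := by
  unfold rowsB at h
  rw [Bool.and_eq_true, decide_eq_true_iff] at h
  obtain ⟨hr, h⟩ := h
  have h' : ∀ row ∈ rowsL D, row.length = D.nroots ∧ ∀ x ∈ row, -2 ≤ x ∧ x ≤ 2 := by
    intro row hrow
    have h1 := List.all_eq_true.1 h row hrow
    rw [Bool.and_eq_true, decide_eq_true_iff] at h1
    refine ⟨h1.1, fun x hx => ?_⟩
    have h2 := List.all_eq_true.1 h1.2 x hx
    rw [Bool.and_eq_true, decide_eq_true_iff, decide_eq_true_iff] at h2
    exact h2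
  have hcodes : L = (List.range D.nroots).map (cd D D.rank) := by
    have h1 := take_codes D (fun row hrow => (h' row hrow).1) _ le_rfl
    rw [List.take_length] at h1
    rw [← hL, ← hr]
    exact h1
  have hb : ∀ i < D.rank, ∀ r < D.nroots, -2 ≤ Columns.car D i r ∧ Columns.car D i r ≤ 2 := by
    intro i hi r hr'
    have hi' : i < (rowsL D).length := by rw [hr]; exact hi
    have h1 := h' _ (List.getElem_mem hi')
    rw [car_eq_rows, List.getD_eq_getElem _ _ hi', List.getD_eq_getElem _ _ (by rw [h1.1]; exact hr')]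
    exact h1.2 _ (List.getElem_mem _)
  rw [hcodes] at hnd hz
  refine ⟨fun i hi r hr => ?_, fun r hr => ?_, fun r hr r' hr' hne => ?_⟩
  · have := hb i hi r hr
    omega
  · by_contra hcon
    push Not at hcon
    exact hz (List.mem_map.2 ⟨r, List.mem_range.2 hr, cd_zero hcon⟩)
  · obtain ⟨i, hi, h3⟩ : ∃ i < D.rank, Columns.car D i r ≠ Columns.car D i r' := by
      by_contra hcon
      push Not at hcon
      exact hne (List.inj_on_of_nodup_map hnd (List.mem_range.2 hr) (List.mem_range.2 hr') (cd_eq hcon))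
    have h4 := hb i hi r hr
    have h5 := hb i hi r' hr'
    exact ⟨i, hi, by omega, by omega, by omega⟩

/-- the codes of the roots of `E8` -/
def cdE8 : List ℕ := [195311, 195308, 195292, 195212, 194812, 177187, 104687, 207812, 135312, 117687, 117287, 117207,
  117191, 117188, 257812, 288437, 270812, 270412, 270332, 270316, 270313, 198312, 197912, 197832, 197816, 197813,
  180287, 180207, 180191, 180188, 179807, 179791, 179788, 179711, 179708, 179692, 210912, 210832, 210816, 210813,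
  210432, 210416, 210413, 210336, 210333, 210317, 192807, 192791, 192788, 192711, 192708, 192692, 192311, 192308,
  192292, 192212, 120307, 120291, 120288, 120211, 120208, 120192, 119811, 119808, 119792, 119712, 102186, 102183,
  102167, 102087, 101687, 132811, 132808, 132792, 132712, 132312, 114687, 42187, 273432, 273416, 273413, 273336,
  273333, 273317, 272936, 272933, 272917, 272837, 255311, 255308, 255292, 255212, 254812, 182811, 182808, 182792,
  182712, 182312, 164687, 285936, 285933, 285917, 285837, 285437, 267812, 213436, 213433, 213417, 213337, 212937,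
  195811, 195808, 195792, 195712, 195411, 195408, 195392, 195331, 195328, 195315, 195309, 195296, 195293, 195232,
  195216, 195213, 194912, 194832, 194816, 194813, 177687, 177287, 177207, 177191, 177188, 122812, 105187, 104787,
  104707, 104691, 104688, 225937, 208312, 207912, 207832, 207816, 207813, 135812, 135412, 135332, 135316, 135313,
  117787, 117707, 117691, 117688, 117307, 117291, 117288, 117211, 117208, 117192, 348437, 275937, 258312, 257912,
  257832, 257816, 257813, 288937, 288537, 288457, 288441, 288438, 270912, 270832, 270816, 270813, 270432, 270416,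
  270413, 270336, 270333, 270317, 198412, 198332, 198316, 198313, 197932, 197916, 197913, 197836, 197833, 197817,
  180307, 180291, 180288, 180211, 180208, 180192, 179811, 179808, 179792, 179712, 210932, 210916, 210913, 210836,
  210833, 210817, 210436, 210433, 210417, 210337, 192811, 192808, 192792, 192712, 192312, 120311, 120308, 120292,
  120212, 119812, 102187, 132812, 273436, 273433, 273417, 273337, 272937, 255312, 182812, 285937, 213437, 195812,
  195412, 195332, 195316, 195313]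

/-- the codes of the roots of `E7` -/
def cdE7 : List ℕ := [23437, 54062, 39562, 36037, 35957, 35941, 35938, 42162, 42082, 42066, 42063, 38557, 38541,
  38538, 38461, 38458, 38442, 24057, 24041, 24038, 23961, 23958, 23942, 20436, 20433, 20417, 20337, 26561, 26558,
  26542, 26462, 22937, 8437, 54682, 54666, 54663, 54586, 54583, 54567, 51061, 51058, 51042, 50962, 36561, 36558,
  36542, 36462, 32937, 57186, 57183, 57167, 57087, 53562, 42686, 42683, 42667, 42587, 39161, 39158, 39142, 39081,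
  39078, 39065, 39059, 39046, 39043, 38982, 38966, 38963, 35537, 35457, 35441, 35438, 24562, 21037, 20957, 20941,
  20938, 45187, 41662, 41582, 41566, 41563, 27162, 27082, 27066, 27063, 23557, 23541, 23538, 23461, 23458, 23442,
  69687, 55187, 51662, 51582, 51566, 51563, 57787, 57707, 57691, 57688, 54182, 54166, 54163, 54086, 54083, 54067,
  39682, 39666, 39663, 39586, 39583, 39567, 36061, 36058, 36042, 35962, 42186, 42183, 42167, 42087, 38562, 24062,
  54687]

theorem codes_E7 : codes chevE7 = cdE7 := by decide +kernel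
theorem nodup_E7 : cdE7.Nodup := by decide +kernel
theorem codes_E8 : codes chevE8 = cdE8 := by decide +kernel
theorem nodup_E8 : cdE8.Nodup := by decide +kernel

theorem dist_F4 : Dist chevF4 := dist_of (by (delta Cfsg.Agent.ChevalleyStructure.Columns.car Cfsg.Agent.H563.RV.LemA.bdB; (try set_option simprocs false in simp -zeta only [Cfsg.Agent.ChevFast.F4.cartanR]); decide +kernel)) (by (delta Cfsg.Agent.ChevalleyStructure.Columns.car Cfsg.Agent.H563.RV.LemA.cd Cfsg.Agent.H563.RV.LemA.cd._f; (try set_option simprocs false in simp -zeta only [Cfsg.Agent.ChevFast.F4.cartanR]); decide +kernel))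
theorem dist_E6 : Dist chevE6 := dist_of (by (delta Cfsg.Agent.ChevalleyStructure.Columns.car Cfsg.Agent.H563.RV.LemA.bdB; (try set_option simprocs false in simp -zeta only [Cfsg.Agent.ChevFast.E6.cartanR]); decide +kernel)) (by (delta Cfsg.Agent.ChevalleyStructure.Columns.car Cfsg.Agent.H563.RV.LemA.cd Cfsg.Agent.H563.RV.LemA.cd._f; (try set_option simprocs false in simp -zeta only [Cfsg.Agent.ChevFast.E6.cartanR]); decide +kernel))
theorem dist_E7 : Dist chevE7 := dist_of_rows (by decide +kernel) codes_E7 (by decide +kernel) nodup_E7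
theorem dist_E8 : Dist chevE8 := dist_of_rows (by decide +kernel) codes_E8 (by decide +kernel) nodup_E8
/-- the check of one root -/
def frR (D : ChevalleyDatum) (L : List (List ℕ)) (r : ℕ) : Bool :=
  decide (2 ≤ (L.filter fun s => decide (ex D s r % 2 ≠ 0)).length) ||
    ((L.all fun s => decide (ex D s r % 2 = 0)) &&
      decide ((L.filter fun s => decide (ex D s r % 4 ≠ 0)).length = 1))

/-- `Tab` in four pieces -/
theorem tab_of_four {D : ChevalleyDatum} {L : List (List ℕ)} (m : ℕ)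
    (h : (L.all fun s => s.all fun a => decide (a < D.nroots)) = true)
    (h0 : (List.range' 0 m).all (frR D L) = true) (h1 : (List.range' m m).all (frR D L) = true)
    (h2 : (List.range' (2 * m) m).all (frR D L) = true)
    (h3 : (List.range' (3 * m) (D.nroots - 3 * m)).all (frR D L) = true) : Tab D L := by
  refine tab_of ?_
  unfold frB
  rw [Bool.and_eq_true]
  refine ⟨h, List.all_eq_true.2 fun r hr => ?_⟩
  rw [List.mem_range] at hr
  show frR D L r = true
  rcases lt_or_ge r m with a | a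
  · exact List.all_eq_true.1 h0 r (List.mem_range'_1.2 ⟨Nat.zero_le _, by omega⟩)
  rcases lt_or_ge r (2 * m) with b | b
  · exact List.all_eq_true.1 h1 r (List.mem_range'_1.2 ⟨a, by omega⟩)
  rcases lt_or_ge r (3 * m) with c | c
  · exact List.all_eq_true.1 h2 r (List.mem_range'_1.2 ⟨b, by omega⟩)
  · exact List.all_eq_true.1 h3 r (List.mem_range'_1.2 ⟨c, by omega⟩)

theorem fr_E8_0 : (List.range' 0 60).all (frR chevE8 [[0], [13], [80], [87], [98], [104], [113], [118]]) = true := by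
  (delta Cfsg.Agent.ChevalleyStructure.HMatDiagAll.expo Cfsg.Agent.H563.RV.LemA.ex Cfsg.Agent.H563.RV.LemA.frR; rewrite [Cfsg.Agent.ChevFast.E8.chainEntry, Cfsg.Agent.ChevFast.E8.neg]; decide +kernel)
theorem fr_E8_1 : (List.range' 60 60).all (frR chevE8 [[0], [13], [80], [87], [98], [104], [113], [118]]) = true := by
  (delta Cfsg.Agent.ChevalleyStructure.HMatDiagAll.expo Cfsg.Agent.H563.RV.LemA.ex Cfsg.Agent.H563.RV.LemA.frR; rewrite [Cfsg.Agent.ChevFast.E8.chainEntry, Cfsg.Agent.ChevFast.E8.neg]; decide +kernel)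
theorem fr_E8_2 : (List.range' (2 * 60) 60).all (frR chevE8 [[0], [13], [80], [87], [98], [104], [113], [118]]) = true := by
  (delta Cfsg.Agent.ChevalleyStructure.HMatDiagAll.expo Cfsg.Agent.H563.RV.LemA.ex Cfsg.Agent.H563.RV.LemA.frR; rewrite [Cfsg.Agent.ChevFast.E8.chainEntry, Cfsg.Agent.ChevFast.E8.neg]; decide +kernel)
theorem fr_E8_3 : (List.range' (3 * 60) (chevE8.nroots - 3 * 60)).all
    (frR chevE8 [[0], [13], [80], [87], [98], [104], [113], [118]]) = true := by (delta Cfsg.Agent.ChevalleyStructure.HMatDiagAll.expo Cfsg.Agent.H563.RV.LemA.ex Cfsg.Agent.H563.RV.LemA.frR; rewrite [Cfsg.Agent.ChevFast.E8.chainEntry, Cfsg.Agent.ChevFast.E8.neg]; decide +kernel)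

theorem tab_F4 : Tab chevF4 [[0], [6], [17], [22]] := tab_of (by (delta Cfsg.Agent.ChevalleyStructure.HMatDiagAll.expo Cfsg.Agent.H563.RV.LemA.ex Cfsg.Agent.H563.RV.LemA.frB; rewrite [Cfsg.Agent.ChevFast.F4.chainEntry, Cfsg.Agent.ChevFast.F4.neg]; decide +kernel))
theorem tab_E6 : Tab chevE6 [[0], [11], [27], [32]] := tab_of (by (delta Cfsg.Agent.ChevalleyStructure.HMatDiagAll.expo Cfsg.Agent.H563.RV.LemA.ex Cfsg.Agent.H563.RV.LemA.frB; rewrite [Cfsg.Agent.ChevFast.E6.chainEntry, Cfsg.Agent.ChevFast.E6.neg]; decide +kernel))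
theorem tab_E7 : Tab chevE7 [[0], [33], [38], [47], [52], [59], [62]] := tab_of (by (delta Cfsg.Agent.ChevalleyStructure.HMatDiagAll.expo Cfsg.Agent.H563.RV.LemA.ex Cfsg.Agent.H563.RV.LemA.frB; rewrite [Cfsg.Agent.ChevFast.E7.chainEntry, Cfsg.Agent.ChevFast.E7.neg]; decide +kernel))
theorem tab_E8 : Tab chevE8 [[0], [13], [80], [87], [98], [104], [113], [118]] :=
  tab_of_four 60 (by decide +kernel) fr_E8_0 fr_E8_1 fr_E8_2 fr_E8_3
end Cfsg.Agent.H563.RV.LemA
end

-- part: H563/RV/LemAC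
section
/-!
# TEAM RV, NRow for the exceptional groups: LEMMA A, the conjugate form (helper563)

`lemA_conj` : the elements `g * (∏ ph_s (A s)) * g⁻¹` (blocks; `A s` arbitrary with `A s ^ 2 = -1`) normalise `R`; then
their squares centralise `R`.  `lemA_single` : blocks of length one.
-/

set_option autoImplicit false
set_option linter.unusedSectionVars false
set_option linter.unnecessarySeqFocus false

namespace Cfsg.Agent.H563.RV.LemA

open CoxeterSystem Cfsg Cfsg.Lie Cfsg.Lie.ChevalleyDatum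
open Cfsg.Agent.ChevalleyStructure Cfsg.Agent.ChevalleyStructure.Elts Cfsg.Agent.ChevalleyStructure.CoxeterGeom
  Cfsg.Agent.ChevalleyStructure.CoxeterGeomTypes Cfsg.Agent.ChevalleyStructure.NPerm
open Cfsg.Agent.Tits.Roots Cfsg.Agent.Tits.Core Cfsg.Agent.Nodes Cfsg.Agent.Nodes.Reps Cfsg.Agent.Nodes.BNOf
  Cfsg.Agent.Nodes.RGDChev Cfsg.Agent.Nodes.Bruhat Cfsg.Agent.Nodes.NormalForm
open Cfsg.Agent.KFacts.RgdField Cfsg.Agent.KFacts.RgdChevCoord
open Cfsg.Agent.BpExc Cfsg.Agent.BpExc.TorCent Cfsg.Agent.BpExc.TorChev Cfsg.Agent.BpExc.Tow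
  Cfsg.Agent.BpExc.TowChev Cfsg.Agent.BpExc.Fr Cfsg.Agent.BpExc.Pair Cfsg.Agent.BpExc.LangFr Cfsg.Agent.GpExc.Field
  Cfsg.Agent.BpExc.TorAll
open Cfsg.Agent.H469.Exc Cfsg.Agent.H469.Exc.SigFr
open Cfsg.Agent.Nodes.RGDFoldSL
open Cfsg.Agent.H167.EX Cfsg.Agent.H971.RV

universe u v

/-! ### elements of `SL₂` with square `-1` -/

theorem inv_i {k : Type u} [Field k] {i : k} (hi : i * i = -1) : i⁻¹ = -i := by
  have hi0 : i ≠ 0 := by rintro rfl; rw [mul_zero] at hi; exact one_ne_zero (neg_eq_zero.1 hi.symm)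
  rw [inv_eq_iff_eq_inv, ← neg_inv]
  exact eq_neg_of_add_eq_zero_left (by
    field_simp
    linear_combination hi)

theorem sl_conj {k : Type u} [Field k] (h2 : (2 : k) ≠ 0) {i : k} (hi : i * i = -1) {A : SL k}
    (hA : A * A = hS (-1)) : ∃ P : SL k, A = P * hS i * P⁻¹ := by
  have hi0 : i ≠ 0 := by rintro rfl; rw [mul_zero] at hi; exact one_ne_zero (neg_eq_zero.1 hi.symm)
  have hii := inv_i hi
  obtain ⟨e1, e2, e3, e4⟩ := hS_entries (neg_ne_zero.2 (one_ne_zero (α := k)))
  have m1 := congrArg (fun B : SL k => B.1 0 0) hA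
  have m2 := congrArg (fun B : SL k => B.1 0 1) hA
  have m3 := congrArg (fun B : SL k => B.1 1 0) hA
  have m4 := congrArg (fun B : SL k => B.1 1 1) hA
  simp only [mul00, mul01, mul10, mul11, e1, e2, e3, e4, inv_neg, inv_one] at m1 m2 m3 m4
  have hd := A.det_coe
  rw [Matrix.det_fin_two] at hd
  suffices H : ∃ P : SL k, (A : Matrix (Fin 2) (Fin 2) k) * P = P * !![i, 0; 0, i⁻¹] by
    obtain ⟨P, h6⟩ := H
    refine ⟨P, eq_mul_inv_of_mul_eq (Subtype.ext ?_)⟩
    rw [Matrix.SpecialLinearGroup.coe_mul, Matrix.SpecialLinearGroup.coe_mul, coe_hS hi0, h6]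
  obtain ⟨a, ha⟩ : ∃ a, a = A.1 0 0 := ⟨_, rfl⟩
  obtain ⟨b, hb⟩ : ∃ b, b = A.1 0 1 := ⟨_, rfl⟩
  obtain ⟨c, hc⟩ : ∃ c, c = A.1 1 0 := ⟨_, rfl⟩
  obtain ⟨d, hdd⟩ : ∃ d, d = A.1 1 1 := ⟨_, rfl⟩
  have hAm : (A : Matrix (Fin 2) (Fin 2) k) = !![a, b; c, d] := by
    ext x y
    fin_cases x <;> fin_cases y
    · exact ha.symm
    · exact hb.symm
    · exact hc.symm
    · exact hdd.symm
  have hd' : a * d - b * c = 1 := by rw [ha, hb, hc, hdd]; exact hd
  clear hd
  have hd := hd'
  simp only [← ha, ← hb, ← hc, ← hdd] at m1 m2 m3 m4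
  have htr : d = -a := by
    linear_combination d * m1 - c * m2 - a * hd
  subst htr
  rw [hAm]
  by_cases hc0 : c = 0
  · have haa : (a - i) * (a + i) = 0 := by
      rw [hc0] at m1
      linear_combination m1 - hi
    rcases mul_eq_zero.1 haa with h | h
    · have hai : a = i := sub_eq_zero.1 h
      refine ⟨⟨!![1, -b / (2 * i); 0, 1], by rw [Matrix.det_fin_two_of]; ring⟩, ?_⟩
      show !![a, b; c, -a] * !![1, -b / (2 * i); 0, 1] = !![1, -b / (2 * i); 0, 1] * !![i, 0; 0, i⁻¹]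
      rw [hii, hai, hc0]
      ext x y
      (revert x y; simp only [Matrix.mul_apply, Fin.sum_univ_two, _root_.Fin.forall_fin_succ, _root_.Matrix.of_apply, _root_.Matrix.cons_val', _root_.Matrix.cons_val_fin_one, Fin.isValue, _root_.Matrix.cons_val_zero, _root_.Matrix.cons_val_one, _root_.mul_one, _root_.MulZeroClass.mul_zero, _root_.add_zero, _root_.Matrix.cons_val_succ, _root_.mul_neg, _root_.zero_add, _root_.forall_const, _root_.one_mul, _root_.true_and, _root_.MulZeroClass.zero_mul, _root_.and_self, _root_.implies_true, _root_.and_true]) <;> (repeat' with_reducible apply And.intro) <;> field_simp <;> ring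
    · have hai : a = -i := eq_neg_of_add_eq_zero_left h
      refine ⟨⟨!![b / (2 * i), -1; 1, 0], by rw [Matrix.det_fin_two_of]; ring⟩, ?_⟩
      show !![a, b; c, -a] * !![b / (2 * i), -1; 1, 0] = !![b / (2 * i), -1; 1, 0] * !![i, 0; 0, i⁻¹]
      rw [hii, hai, hc0]
      ext x y
      (revert x y; simp only [Matrix.mul_apply, Fin.sum_univ_two, _root_.Fin.forall_fin_succ, _root_.neg_neg, _root_.Matrix.of_apply, _root_.Matrix.cons_val', _root_.Matrix.cons_val_fin_one, Fin.isValue, _root_.Matrix.cons_val_zero, _root_.Matrix.cons_val_one, _root_.mul_one, _root_.MulZeroClass.mul_zero, _root_.add_zero, _root_.Matrix.cons_val_succ, _root_.mul_neg, _root_.zero_add, _root_.neg_inj, _root_.forall_const, _root_.neg_mul, _root_.one_mul, _root_.and_true, _root_.MulZeroClass.zero_mul, _root_.and_self, _root_.implies_true]) <;> (repeat' with_reducible apply And.intro) <;> field_simp <;> ring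
  · refine ⟨⟨!![a + i, (a - i) / (2 * i * c); c, 1 / (2 * i)], by
      rw [Matrix.det_fin_two_of]; field_simp; ring⟩, ?_⟩
    show !![a, b; c, -a] * !![a + i, (a - i) / (2 * i * c); c, 1 / (2 * i)] =
      !![a + i, (a - i) / (2 * i * c); c, 1 / (2 * i)] * !![i, 0; 0, i⁻¹]
    rw [hii]
    ext x y
    (revert x y; simp only [Matrix.mul_apply, Fin.sum_univ_two, _root_.Fin.forall_fin_succ, _root_.one_div, _root_.mul_inv_rev, _root_.Matrix.of_apply, _root_.Matrix.cons_val', _root_.Matrix.cons_val_fin_one, Fin.isValue, _root_.Matrix.cons_val_zero, _root_.Matrix.cons_val_one, _root_.MulZeroClass.mul_zero, _root_.add_zero, _root_.Matrix.cons_val_succ, _root_.mul_neg, _root_.zero_add, _root_.forall_const, _root_.neg_mul, _root_.and_true, _root_.true_and]) <;> (repeat' with_reducible apply And.intro) <;> field_simp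
    · linear_combination m1 - hi
    · linear_combination m1 - hi
    · ring
    · ring

/-! ### commuting root subgroups -/

variable {D : ChevalleyDatum} {l : ℕ} {M : CoxeterMatrix (Fin l)} (hp : IsType D l M) {k : Type u} [Field k]

/-- `ph`, without the bound -/
noncomputable def pz (a : ℕ) (B : SL k) : ↥(D.group k) := if h : a < D.nroots then ph hp k h B else 1

theorem pz_lt {a : ℕ} (h : a < D.nroots) (B : SL k) : pz hp a B = ph hp k h B := dif_pos h

/-- the roots of the frame are strongly orthogonal -/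
def ortB (D : ChevalleyDatum) (F : List ℕ) : Bool :=
  (F.all fun b => F.all fun c => decide (c = b) || (decide (c ≠ D.neg b) && (D.commTerms b c).isEmpty &&
    (D.commTerms (D.neg b) c).isEmpty && (D.commTerms b (D.neg c)).isEmpty &&
    (D.commTerms (D.neg b) (D.neg c)).isEmpty)) && decide F.Nodup && F.all fun b => decide (b < D.nroots)

/-- the roots of the frame are strongly orthogonal -/
structure Ort (F : List ℕ) : Prop where
  lt : ∀ a ∈ F, a < D.nroots
  nodup : F.Nodup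
  comm : ∀ a ∈ F, ∀ b ∈ F, b ≠ a → ∀ (A B : SL k), Commute (pz hp b B) (pz hp a A)

theorem ort_of {F : List ℕ} (h : ortB D F = true) : Ort hp (k := k) F := by
  unfold ortB at h
  rw [Bool.and_eq_true, Bool.and_eq_true, decide_eq_true_iff] at h
  have hlt : ∀ a ∈ F, a < D.nroots := fun a ha => of_decide_eq_true (List.all_eq_true.1 h.2 a ha)
  refine ⟨hlt, h.1.2, fun a ha b hb hne A B => ?_⟩
  have h1 := List.all_eq_true.1 (List.all_eq_true.1 h.1.1 a ha) b hb
  simp only [Bool.or_eq_true, Bool.and_eq_true, decide_eq_true_iff] at h1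
  rcases h1 with h1 | ⟨⟨⟨⟨h2, h3⟩, h4⟩, h5⟩, h6⟩
  · exact absurd h1 hne
  · rw [pz_lt hp (hlt a ha), pz_lt hp (hlt b hb)]
    have h7 := ph_comm hp (k := k) (hlt a ha) (hlt b hb) hne h2 h3 h4 h5 h6 ⟨B, rfl⟩
    exact ((Subgroup.mem_centralizer_iff.1 h7) _ ⟨A, rfl⟩).symm

theorem pz_mul (a : ℕ) (A B : SL k) : pz hp a (A * B) = pz hp a A * pz hp a B := by
  unfold pz
  split_ifs
  · rw [map_mul]
  · rw [mul_one]

theorem pz_inv (a : ℕ) (A : SL k) : pz hp a A⁻¹ = (pz hp a A)⁻¹ := by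
  unfold pz
  split_ifs
  · rw [map_inv]
  · rw [inv_one]

theorem exists_h {F : List ℕ} (hF : Ort hp (k := k) F) (P : ℕ → SL k) : ∀ F' : List ℕ, F' ⊆ F → F'.Nodup →
    ∃ h : ↥(D.group k), (∀ a ∈ F', ∀ B : SL k, h * pz hp a B * h⁻¹ = pz hp a (P a * B * (P a)⁻¹)) ∧
      ∀ x : ↥(D.group k), (∀ a ∈ F', ∀ B : SL k, Commute x (pz hp a B)) → Commute x h := by
  intro F'
  induction F' with
  | nil => exact fun _ _ => ⟨1, fun a ha => absurd ha List.not_mem_nil, fun x _ => Commute.one_right x⟩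
  | cons s F' ih =>
    intro hsub hnd
    obtain ⟨h', h1, h2⟩ := ih (fun a ha => hsub (List.mem_cons_of_mem _ ha)) (List.nodup_cons.1 hnd).2
    have hsn := (List.nodup_cons.1 hnd).1
    refine ⟨pz hp s (P s) * h', fun a ha B => ?_, fun x hx => ?_⟩
    · rcases List.mem_cons.1 ha with rfl | ha
      · have h3 : Commute (pz hp a B) h' := h2 _ fun b hb C => by
          have hne : a ≠ b := by rintro rfl; exact hsn hb
          exact hF.comm b (hsub (List.mem_cons_of_mem _ hb)) a (hsub List.mem_cons_self) hne C B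
        rw [pz_mul, pz_mul, pz_inv]
        calc pz hp a (P a) * h' * pz hp a B * (pz hp a (P a) * h')⁻¹
            = pz hp a (P a) * (h' * pz hp a B) * h'⁻¹ * (pz hp a (P a))⁻¹ := by group
          _ = _ := by rw [← h3.eq]; group
      · have hne : s ≠ a := by rintro rfl; exact hsn ha
        have h3 : Commute (pz hp s (P s)) (pz hp a (P a * B * (P a)⁻¹)) :=
          hF.comm a (hsub (List.mem_cons_of_mem _ ha)) s (hsub List.mem_cons_self) hne _ _
        calc pz hp s (P s) * h' * pz hp a B * (pz hp s (P s) * h')⁻¹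
            = pz hp s (P s) * (h' * pz hp a B * h'⁻¹) * (pz hp s (P s))⁻¹ := by group
          _ = _ := by rw [h1 a ha, h3.eq]; group
    · exact (hx s List.mem_cons_self _).mul_right (h2 x fun a ha B => hx a (List.mem_cons_of_mem _ ha) B)

/-- the product over a block -/
noncomputable def blk (A : ℕ → SL k) (s : List ℕ) : ↥(D.group k) := (s.map fun a => pz hp a (A a)).prod

theorem blk_cons (A : ℕ → SL k) (a : ℕ) (s : List ℕ) : blk hp A (a :: s) = pz hp a (A a) * blk hp A s := by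
  unfold blk; rw [List.map_cons, List.prod_cons]

theorem blk_single (A : ℕ → SL k) (a : ℕ) : blk hp A [a] = pz hp a (A a) := by
  rw [blk_cons]; exact mul_one _

theorem blk_conj {h : ↥(D.group k)} {A : ℕ → SL k} {C : ℕ → SL k} : ∀ {s : List ℕ},
    (∀ a ∈ s, h * pz hp a (A a) * h⁻¹ = pz hp a (C a)) → h * blk hp A s * h⁻¹ = blk hp C s
  | [], _ => by show h * 1 * h⁻¹ = 1; group
  | a :: s, hs => by
    rw [blk_cons, blk_cons, ← hs a List.mem_cons_self, ← blk_conj (A := A) (C := C) (s := s)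
      fun b hb => hs b (List.mem_cons_of_mem _ hb)]
    group

/-! ### the theorems -/

/-- **LEMMA A for subgroups of a group embedded in `D.group k`**, blocks. -/
theorem lemA_hom [IsAlgClosed k] (p : ℕ) [Fact p.Prime] [CharP k p] (hp5 : 5 ≤ p) (hk : LocFin k) (hD : Dist D)
    {L : List (List ℕ)} (T : Tab D L) (hF : Ort hp (k := k) L.flatten) {A : ℕ → SL k}
    (hA : ∀ a ∈ L.flatten, A a * A a = hS (-1)) {S : Type v} [Group S] {φ : S →* ↥(D.group k)}
    (hφ : Function.Injective φ) {g : ↥(D.group k)} {y : List ℕ → S} (hy : ∀ s ∈ L, φ (y s) = g * blk hp A s * g⁻¹)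
    {R : Subgroup S} [Finite R] (hodd : Odd (Nat.card R)) (hpR : ¬ p ∣ Nat.card R)
    (hn : ∀ s ∈ L, ∀ x ∈ R, y s * x * (y s)⁻¹ ∈ R) : ∀ s ∈ L, ∀ x ∈ R, (y s * y s) * x = x * (y s * y s) := by
  have h2 : (2 : k) ≠ 0 := by
    have := cast_ne (k := k) p hp5 (m := 2) (by norm_num) ⟨by norm_num, by norm_num⟩ ⟨by norm_num, by norm_num⟩
    exact_mod_cast this
  obtain ⟨i, hi⟩ := IsAlgClosed.exists_pow_nat_eq (-1 : k) (show 0 < 2 by norm_num)
  rw [pow_two] at hi
  have hP : ∀ a : ℕ, ∃ P : SL k, a ∈ L.flatten → A a = P * hS i * P⁻¹ := by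
    intro a
    by_cases ha : a ∈ L.flatten
    · obtain ⟨P, hP⟩ := sl_conj h2 hi (hA a ha)
      exact ⟨P, fun _ => hP⟩
    · exact ⟨1, fun h => absurd h ha⟩
  choose P hP using hP
  obtain ⟨h, h1, -⟩ := exists_h hp hF P L.flatten (fun _ h => h) hF.nodup
  have h3 : ∀ s ∈ L, φ (y s) = (g * h) * xb hp i s * (g * h)⁻¹ := by
    intro s hs
    have h4 : h * xb hp i s * h⁻¹ = blk hp A s := by
      show h * blk hp (fun _ => hS i) s * h⁻¹ = _
      refine blk_conj hp fun a ha => ?_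
      have ha' : a ∈ L.flatten := List.mem_flatten.2 ⟨s, hs, ha⟩
      rw [h1 a ha', ← hP a ha']
    rw [hy s hs, ← h4]
    group
  -- the conjugate of the image of `R`
  set! ψ : S →* ↥(D.group k) := (MulAut.conj (g * h)⁻¹).toMonoidHom.comp φ with hψ
  have hψa : ∀ x, ψ x = (g * h)⁻¹ * φ x * (g * h)⁻¹⁻¹ := fun x => rfl
  have hψi : Function.Injective ψ := (MulAut.conj (g * h)⁻¹).injective.comp hφ
  have hψy : ∀ s ∈ L, ψ (y s) = xb hp i s := by
    intro s hs
    rw [hψa, h3 s hs]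
    group
  have hcard : Nat.card (R.map ψ) = Nat.card R := Subgroup.card_map_of_injective hψi
  have hfin : Finite (R.map ψ) := Nat.finite_of_card_ne_zero (by rw [hcard]; exact Nat.card_pos.ne')
  have key := lemA hp p hp5 hk hD T hi (R := R.map ψ) (by rw [hcard]; exact hodd) (by rw [hcard]; exact hpR) (by
    rintro s hs _ ⟨x, hx, rfl⟩
    rw [← hψy s hs]
    exact ⟨_, hn s hs x hx, by rw [map_mul, map_mul, map_inv]⟩)
  intro s hs x hx
  apply hψi
  have := key s hs (ψ x) ⟨x, hx, rfl⟩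
  rw [← hψy s hs] at this
  simp only [map_mul]
  exact this

theorem flat_single : ∀ L : List ℕ, (L.map fun a => [a]).flatten = L
  | [] => rfl
  | a :: L => by rw [List.map_cons, List.flatten_cons, flat_single L]; rfl

theorem lemA_hom_single [IsAlgClosed k] (p : ℕ) [Fact p.Prime] [CharP k p] (hp5 : 5 ≤ p) (hk : LocFin k) (hD : Dist D)
    {L : List ℕ} (T : Tab D (L.map fun a => [a])) (hF : Ort hp (k := k) L) {A : ℕ → SL k}
    (hA : ∀ a ∈ L, A a * A a = hS (-1)) {S : Type v} [Group S] {φ : S →* ↥(D.group k)}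
    (hφ : Function.Injective φ) {g : ↥(D.group k)} {y : ℕ → S} (hy : ∀ a ∈ L, φ (y a) = g * pz hp a (A a) * g⁻¹)
    {R : Subgroup S} [Finite R] (hodd : Odd (Nat.card R)) (hpR : ¬ p ∣ Nat.card R)
    (hn : ∀ a ∈ L, ∀ x ∈ R, y a * x * (y a)⁻¹ ∈ R) : ∀ a ∈ L, ∀ x ∈ R, (y a * y a) * x = x * (y a * y a) := by
  have hfl : (L.map fun a => [a]).flatten = L := flat_single L
  have hm : ∀ s ∈ L.map (fun a => [a]), ∃ a ∈ L, s = [a] := by
    intro s hs
    obtain ⟨a, ha, rfl⟩ := List.mem_map.1 hs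
    exact ⟨a, ha, rfl⟩
  have key := lemA_hom hp p hp5 hk hD T (by rw [hfl]; exact hF) (A := A) (by rw [hfl]; exact hA) hφ (g := g)
    (y := fun s => y (s.headD 0)) (by
      intro s hs
      obtain ⟨a, ha, rfl⟩ := hm s hs
      rw [blk_single]
      exact hy a ha) (R := R) hodd hpR (by
      intro s hs
      obtain ⟨a, ha, rfl⟩ := hm s hs
      exact hn a ha)
  intro a ha
  exact key [a] (List.mem_map.2 ⟨a, ha, rfl⟩)

theorem ort_F4 (hp : IsType chevF4 l M) : Ort hp (k := k) [0, 6, 17, 22] := ort_of hp (by decide +kernel)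
theorem ort_E6 (hp : IsType chevE6 l M) : Ort hp (k := k) [0, 11, 27, 32] := ort_of hp (by decide +kernel)
theorem ort_E7 (hp : IsType chevE7 l M) : Ort hp (k := k) [0, 33, 38, 47, 52, 59, 62] := ort_of hp (by (delta Cfsg.Agent.H563.RV.LemA.ortB; rewrite [Cfsg.Agent.ChevFast.E7.commTerms, Cfsg.Agent.ChevFast.E7.neg]; decide +kernel))
theorem ort_E8 (hp : IsType chevE8 l M) : Ort hp (k := k) [0, 13, 80, 87, 98, 104, 113, 118] :=
  ort_of hp (by (delta Cfsg.Agent.H563.RV.LemA.ortB; rewrite [Cfsg.Agent.ChevFast.E8.commTerms, Cfsg.Agent.ChevFast.E8.neg]; decide +kernel))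
end Cfsg.Agent.H563.RV.LemA
end

private theorem dce_b5734d57ef1e : _root_.True := by
  try have : _root_.True := by simp only [_root_.Cfsg.Agent.H563.RV.LemA.pz.congr_simp]
  try have : _root_.True := by simp only [_root_.Cfsg.Agent.H563.RV.LemA.xb.congr_simp]
  try have : _root_.True := by simp only [_root_.Cfsg.Agent.H563.RV.LemA.blk.congr_simp]
  try have : _root_.True := by simp only [_root_.Cfsg.Agent.H563.RV.LemA.zc.eq_1]
  try have : _root_.True := by simp only [_root_.Cfsg.Agent.ChevalleyStructure.JacMain.adH.eq_1]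
  exact _root_.True.intro
end

-- part: H89/RV/Psl_mg
section
set_option linter.all false
open scoped Cfsg.Agent.FastGrp

-- part: H89/RV/Arith
section
/-!
# `2`-parts of the orders of general linear groups (helper89, S4311 / S3851)

* `fac_pow` : `(x ^ m - 1)_2 = (x - 1)_2` for `x` and `m` odd;
* `fac_add` : `(x ^ (b + j) - 1)_2 = (x ^ j - 1)_2` if `1 ≤ j ≤ 2 ^ k` and `2 ^ (k + 1) ∣ b`;
* `fac_card_GL` : the `2`-part of `|GL_n(F)|`, `|F|` odd;
* `fac_blocks` : `|GL_{a + b}(F)|_2 = |GL_a(F₀)|_2 |GL_b(F₀)|_2` if `a = 2 ^ k`, `2 ^ (k + 1) ∣ b` and `|F| = |F₀| ^ m`, `m` odd.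
-/

set_option autoImplicit false

namespace Cfsg.Agent.H89.RV

open Finset Matrix

/-- `(x ^ m - 1)_2 = (x - 1)_2` for `x`, `m` odd -/
theorem fac_pow {x m : ℕ} (hx : Odd x) (hx1 : 1 < x) (hm : Odd m) :
    (x ^ m - 1).factorization 2 = (x - 1).factorization 2 := by
  have h1 : (∑ i ∈ range m, x ^ i) * (x - 1) = x ^ m - 1 := geom_sum_mul_of_one_le hx1.le m
  have h2 : Odd (∑ i ∈ range m, x ^ i) := by
    rw [Finset.odd_sum_iff_odd_card_odd, Finset.filter_true_of_mem fun i _ => hx.pow, card_range]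
    exact hm
  rw [← h1, Nat.factorization_mul h2.pos.ne' (by omega), Finsupp.add_apply,
    Nat.factorization_eq_zero_of_not_dvd fun h => (Nat.not_even_iff_odd.2 h2) (even_iff_two_dvd.2 h), zero_add]

theorem fac_add {x : ℕ} (hx : Odd x) (hx1 : 1 < x) {k b j : ℕ} (hb : 2 ^ (k + 1) ∣ b) (hj : 1 ≤ j) (hj' : j ≤ 2 ^ k) :
    (x ^ (b + j) - 1).factorization 2 = (x ^ j - 1).factorization 2 := by
  obtain ⟨v, m, hm, hv⟩ := Nat.exists_eq_two_pow_mul_odd (n := j) (by omega)
  have hvk : v ≤ k := by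
    by_contra h
    have h1 : 2 ^ (k + 1) ≤ 2 ^ v := Nat.pow_le_pow_right (by norm_num) (by omega)
    have h2 : 2 ^ v ≤ j := by rw [hv]; exact Nat.le_mul_of_pos_right _ hm.pos
    have h3 : 2 ^ (k + 1) = 2 * 2 ^ k := by ring
    have h4 : 0 < 2 ^ k := by positivity
    omega
  obtain ⟨c, hc⟩ : 2 ^ (v + 1) ∣ b := (Nat.pow_dvd_pow 2 (by omega)).trans hb
  have e1 : b + j = 2 ^ v * (2 * c + m) := by rw [hc, hv]; ring
  have hodd : Odd (x ^ 2 ^ v) := hx.pow
  have h1 : 1 < x ^ 2 ^ v := Nat.one_lt_pow (by positivity) hx1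
  rw [e1, hv, pow_mul, pow_mul, fac_pow hodd h1 hm, fac_pow hodd h1 ((even_two_mul c).add_odd hm)]

/-- the exponent of `2` in `|GL_n(q)|` -/
def vs (q n : ℕ) : ℕ := ∑ j ∈ range n, (q ^ (j + 1) - 1).factorization 2

theorem fac_card_GL {F : Type*} [Field F] [Fintype F] (hodd : Odd (Fintype.card F)) (n : ℕ) :
    (Nat.card (GL (Fin n) F)).factorization 2 = vs (Fintype.card F) n := by
  have h1 : 1 < Fintype.card F := Fintype.one_lt_card
  rw [Matrix.card_GL_field, Fin.prod_univ_eq_prod_range (fun i => Fintype.card F ^ n - Fintype.card F ^ i),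
    Nat.factorization_prod]
  · rw [Finsupp.finsetSum_apply, vs, ← Finset.sum_range_reflect]
    refine Finset.sum_congr rfl fun i hi => ?_
    have hi' := Finset.mem_range.1 hi
    have h2 : Fintype.card F ^ n - Fintype.card F ^ (n - 1 - i) =
        Fintype.card F ^ (n - 1 - i) * (Fintype.card F ^ (i + 1) - 1) := by
      rw [Nat.mul_sub, mul_one, ← pow_add]
      congr 2
      omega
    rw [h2, Nat.factorization_mul (pow_ne_zero _ (by omega))
      (Nat.sub_ne_zero_of_lt (Nat.one_lt_pow (by omega) h1)), Finsupp.add_apply,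
      Nat.factorization_eq_zero_of_not_dvd (fun h => (Nat.not_even_iff_odd.2 (hodd.pow : Odd _)) (even_iff_two_dvd.2 h)),
      zero_add]
  · intro i hi
    have hi' := Finset.mem_range.1 hi
    exact Nat.sub_ne_zero_of_lt (Nat.pow_lt_pow_right h1 hi')

theorem vs_pow {q m : ℕ} (hq : Odd q) (h1 : 1 < q) (hm : Odd m) (n : ℕ) : vs (q ^ m) n = vs q n := by
  refine Finset.sum_congr rfl fun j _ => ?_
  rw [← pow_mul, mul_comm, pow_mul]
  exact fac_pow hq.pow (Nat.one_lt_pow (by omega) h1) hm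

theorem vs_add {q : ℕ} (hq : Odd q) (h1 : 1 < q) {k b : ℕ} (hb : 2 ^ (k + 1) ∣ b) :
    vs q (2 ^ k + b) = vs q (2 ^ k) + vs q b := by
  rw [add_comm (2 ^ k) b, vs, Finset.sum_range_add, ← vs, add_comm]
  congr 1
  refine Finset.sum_congr rfl fun j hj => ?_
  have hj' := Finset.mem_range.1 hj
  rw [add_assoc]
  exact fac_add hq h1 hb (by omega) (by omega)

/-- **`|GL_{a + b}(F)|_2 = |GL_a(F₀)|_2 |GL_b(F₀)|_2`**, `a = 2 ^ k`, `2 ^ (k + 1) ∣ b`, `|F| = |F₀| ^ m`, `m` odd -/
theorem fac_blocks {F F₀ : Type*} [Field F] [Fintype F] [Field F₀] [Fintype F₀] {m : ℕ} (hm : Odd m)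
    (hodd : Odd (Fintype.card F)) (hF : Fintype.card F = Fintype.card F₀ ^ m) {k b : ℕ} (hb : 2 ^ (k + 1) ∣ b) :
    (Nat.card (GL (Fin (2 ^ k + b)) F)).factorization 2 =
      (Nat.card (GL (Fin (2 ^ k)) F₀ × GL (Fin b) F₀)).factorization 2 := by
  have h0 : Odd (Fintype.card F₀) := by
    rw [hF] at hodd
    exact (Nat.odd_pow_iff hm.pos.ne').1 hodd
  have h1 : 1 < Fintype.card F₀ := Fintype.one_lt_card
  rw [Nat.card_prod, Nat.factorization_mul Nat.card_pos.ne' Nat.card_pos.ne', Finsupp.add_apply, fac_card_GL hodd,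
    fac_card_GL h0, fac_card_GL h0, hF, vs_pow h0 h1 hm, vs_add h0 h1 hb]

/-- `n = 2 ^ k + b` with `2 ^ (k + 1) ∣ b` -/
theorem exists_digit {n : ℕ} (hn : n ≠ 0) : ∃ k b : ℕ, n = 2 ^ k + b ∧ 2 ^ (k + 1) ∣ b := by
  obtain ⟨k, m, ⟨c, rfl⟩, h⟩ := Nat.exists_eq_two_pow_mul_odd hn
  exact ⟨k, 2 ^ (k + 1) * c, by rw [h]; ring, dvd_mul_right _ _⟩

end Cfsg.Agent.H89.RV
end

-- part: H89/RV/Blocks
section
/-!
# The group of block matrices over the fixed field of the odd automorphisms (helper89, S4311 / S3851)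

`F` a finite field of odd order, `F₀ = fixF F` the fixed field of the automorphisms of odd order, `n = 2 ^ k + b` with
`2 ^ (k + 1) ∣ b`: the subgroup `blkG F k b` of the block matrices `diag(A, B)` over `F₀` has odd index in `GL_n(F)`; it is
fixed by the automorphisms of odd order and centralised by the block scalars `bs d = diag(d, 1)`.
-/

set_option autoImplicit false

namespace Cfsg.Agent.H89.RV

open Matrix Subgroup

section field

variable (F : Type*) [Field F] [Finite F]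

theorem ringEquiv_comm (σ τ : F ≃+* F) : σ * τ = τ * σ := by
  have := Fintype.ofFinite F
  obtain ⟨p, hp⟩ := CharP.exists F
  have hpp : p.Prime := CharP.char_is_prime F p
  have : Fact p.Prime := ⟨hpp⟩
  let : Algebra (ZMod p) F := ZMod.algebra F p
  have key : ∀ f g : Gal(F/ZMod p), f * g = g * f := fun f g => by
    have hc : IsCyclic Gal(F/ZMod p) := inferInstance
    exact hc.isMulCommutative.is_comm.comm f g
  let e : (F ≃+* F) → Gal(F/ZMod p) := fun f => AlgEquiv.ofRingEquiv (f := f) fun x => by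
    have : (f : F →+* F).comp (algebraMap (ZMod p) F) = algebraMap (ZMod p) F := Subsingleton.elim _ _
    exact RingHom.congr_fun this x
  have h := key (e σ) (e τ)
  ext x
  exact DFunLike.congr_fun h x

/-- the automorphisms of odd order -/
def oddAut : Subgroup (F ≃+* F) where
  carrier := {σ | Odd (orderOf σ)}
  one_mem' := by simp
  mul_mem' := by
    intro σ τ hσ hτ
    have h := (show Commute σ τ from ringEquiv_comm F σ τ).orderOf_mul_dvd_mul_orderOf
    exact Odd.of_dvd_nat (hσ.mul hτ) h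
  inv_mem' := by
    intro σ hσ
    show Odd (orderOf σ⁻¹)
    rw [orderOf_inv]
    exact hσ

instance : Finite (F ≃+* F) := Finite.of_injective (fun f : F ≃+* F => (f : F → F)) DFunLike.coe_injective

theorem odd_card_oddAut : Odd (Nat.card (oddAut F)) := by
  rw [← Nat.not_even_iff_odd]
  intro h
  have : Fact (Nat.Prime 2) := ⟨Nat.prime_two⟩
  obtain ⟨x, hx⟩ := exists_prime_orderOf_dvd_card' 2 (even_iff_two_dvd.1 h)
  have h1 : Odd (orderOf (x : F ≃+* F)) := x.2
  rw [orderOf_coe, hx] at h1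
  exact absurd h1 (by decide)

/-- the fixed field of the automorphisms of odd order -/
def fixF : Subfield F := FixedPoints.subfield (oddAut F) F

theorem mem_fixF {x : F} : x ∈ fixF F ↔ ∀ σ : F ≃+* F, Odd (orderOf σ) → σ x = x := by
  constructor
  · intro h σ hσ
    exact h ⟨σ, hσ⟩
  · intro h σ
    exact h σ.1 σ.2

end field

section field2

variable (F : Type*) [Field F] [Fintype F]

theorem exists_odd_pow [Fintype (fixF F)] : ∃ m : ℕ, Odd m ∧ Fintype.card F = Fintype.card (fixF F) ^ m := by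
  have := Fintype.ofFinite (oddAut F)
  have h : Module.finrank (FixedPoints.subfield (oddAut F) F) F = Fintype.card (oddAut F) :=
    FixedPoints.finrank_eq_card (oddAut F) F
  refine ⟨Module.finrank (fixF F) F, ?_, Module.card_eq_pow_finrank⟩
  change Odd (Module.finrank (FixedPoints.subfield (oddAut F) F) F)
  rw [h, ← Nat.card_eq_fintype_card]
  exact odd_card_oddAut F

end field2

section blocks

variable {F : Type*} [Field F] {a b : ℕ}

/-- block diagonal matrices -/
def bl (a b : ℕ) (F : Type*) [Field F] : GL (Fin a) F × GL (Fin b) F →* GL (Fin a ⊕ Fin b) F where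
  toFun x := ⟨fromBlocks x.1 0 0 x.2, fromBlocks ((x.1⁻¹ : GL (Fin a) F) : Matrix (Fin a) (Fin a) F) 0 0
      ((x.2⁻¹ : GL (Fin b) F) : Matrix (Fin b) (Fin b) F), by
      rw [fromBlocks_multiply]
      rw [Matrix.mul_zero, Matrix.zero_mul, Matrix.mul_zero, Matrix.zero_mul, Matrix.mul_zero, Matrix.mul_zero, ← Units.val_mul,
        ← Units.val_mul, mul_inv_cancel, mul_inv_cancel]
      simp only [add_zero, zero_add, Units.val_one]
      exact fromBlocks_one, by
      rw [fromBlocks_multiply]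
      rw [Matrix.mul_zero, Matrix.zero_mul, Matrix.mul_zero, Matrix.zero_mul, Matrix.mul_zero, Matrix.mul_zero, ← Units.val_mul,
        ← Units.val_mul, inv_mul_cancel, inv_mul_cancel]
      simp only [add_zero, zero_add, Units.val_one]
      exact fromBlocks_one⟩
  map_one' := by
    apply Units.ext
    exact fromBlocks_one
  map_mul' x y := by
    apply Units.ext
    show fromBlocks ((x.1 * y.1 : GL (Fin a) F) : Matrix (Fin a) (Fin a) F) 0 0
      ((x.2 * y.2 : GL (Fin b) F) : Matrix (Fin b) (Fin b) F) =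
        fromBlocks (x.1 : Matrix (Fin a) (Fin a) F) 0 0 (x.2 : Matrix (Fin b) (Fin b) F) *
          fromBlocks (y.1 : Matrix (Fin a) (Fin a) F) 0 0 (y.2 : Matrix (Fin b) (Fin b) F)
    rw [fromBlocks_multiply, Matrix.mul_zero, Matrix.zero_mul, Matrix.mul_zero, Matrix.zero_mul, Matrix.mul_zero,
      Matrix.mul_zero, add_zero, add_zero, add_zero, zero_add, Units.val_mul, Units.val_mul]

theorem coe_bl (x : GL (Fin a) F × GL (Fin b) F) :
    (bl a b F x : Matrix (Fin a ⊕ Fin b) (Fin a ⊕ Fin b) F) = fromBlocks x.1 0 0 x.2 := rfl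

/-- reindexing -/
noncomputable def ri (a b : ℕ) (F : Type*) [Field F] : GL (Fin a ⊕ Fin b) F ≃* GL (Fin (a + b)) F :=
  Units.mapEquiv (reindexAlgEquiv F F finSumFinEquiv).toMulEquiv

theorem coe_ri (x : GL (Fin a ⊕ Fin b) F) :
    (ri a b F x : Matrix (Fin (a + b)) (Fin (a + b)) F) =
      reindex finSumFinEquiv finSumFinEquiv (x : Matrix (Fin a ⊕ Fin b) (Fin a ⊕ Fin b) F) := rfl

theorem bl_injective : Function.Injective (bl a b F) := by
  intro x y h
  have h1 := congrArg (fun u : GL (Fin a ⊕ Fin b) F => (u : Matrix (Fin a ⊕ Fin b) (Fin a ⊕ Fin b) F)) h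
  simp only [coe_bl] at h1
  rw [fromBlocks_inj] at h1
  exact Prod.ext (Units.ext h1.1) (Units.ext h1.2.2.2)

theorem bl_comm (d : Fˣ) (x : GL (Fin a) F × GL (Fin b) F) :
    bl a b F (GeneralLinearGroup.scalar (Fin a) d, 1) * bl a b F x =
      bl a b F x * bl a b F (GeneralLinearGroup.scalar (Fin a) d, 1) := by
  rw [← map_mul, ← map_mul]
  congr 1
  refine Prod.ext ?_ ?_
  · apply Units.ext
    show scalar (Fin a) (d : F) * (x.1 : Matrix (Fin a) (Fin a) F) = (x.1 : Matrix (Fin a) (Fin a) F) * scalar (Fin a) (d : F)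
    exact (scalar_commute (d : F) (fun r' => Commute.all _ _) _).eq
  · simp

/-- the block scalars `diag(d, 1)` -/
noncomputable def bs (a b : ℕ) {F : Type*} [Field F] (d : Fˣ) : GL (Fin (a + b)) F :=
  ri a b F (bl a b F (GeneralLinearGroup.scalar (Fin a) d, 1))

theorem det_bs (d : Fˣ) : (bs a b d : Matrix (Fin (a + b)) (Fin (a + b)) F).det = (d : F) ^ a := by
  rw [bs, coe_ri, det_reindex_self, coe_bl, det_fromBlocks_zero₂₁]
  show (scalar (Fin a) (d : F)).det * (1 : Matrix (Fin b) (Fin b) F).det = _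
  rw [det_one, mul_one, scalar_apply, det_diagonal, Finset.prod_const, Finset.card_univ, Fintype.card_fin]

variable (F a b)

/-- `GL_a(F₀) × GL_b(F₀) → GL_{a + b}(F)` -/
noncomputable def jj [Finite F] : GL (Fin a) (fixF F) × GL (Fin b) (fixF F) →* GL (Fin (a + b)) F :=
  ((ri a b F).toMonoidHom.comp (bl a b F)).comp
    (MonoidHom.prodMap (GeneralLinearGroup.map (fixF F).subtype) (GeneralLinearGroup.map (fixF F).subtype))

variable {F}

theorem jj_injective [Finite F] : Function.Injective (jj F a b) := by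
  refine ((ri a b F).injective.comp bl_injective).comp ?_
  have h : ∀ n : ℕ, Function.Injective (GeneralLinearGroup.map (n := Fin n) (fixF F).subtype) := by
    intro n x y h
    apply Units.ext
    ext i j
    have h1 := congrArg (fun u : GL (Fin n) F => (u : Matrix (Fin n) (Fin n) F) i j) h
    exact h1
  exact Prod.map_injective.2 ⟨h a, h b⟩

theorem jj_fix [Finite F] (x : GL (Fin a) (fixF F) × GL (Fin b) (fixF F)) {σ : F ≃+* F} (hσ : Odd (orderOf σ))
    (i j : Fin (a + b)) : σ ((jj F a b x : Matrix (Fin (a + b)) (Fin (a + b)) F) i j) =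
      (jj F a b x : Matrix (Fin (a + b)) (Fin (a + b)) F) i j := by
  refine (mem_fixF F).1 ?_ σ hσ
  show (fromBlocks (((x.1 : Matrix (Fin a) (Fin a) (fixF F)).map (fixF F).subtype)) 0 0
    ((x.2 : Matrix (Fin b) (Fin b) (fixF F)).map (fixF F).subtype) (finSumFinEquiv.symm i) (finSumFinEquiv.symm j)) ∈ fixF F
  rcases finSumFinEquiv.symm i with i | i <;> rcases finSumFinEquiv.symm j with j | j
  · exact (x.1 i j).2
  · exact (fixF F).zero_mem
  · exact (fixF F).zero_mem
  · exact (x.2 i j).2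

theorem jj_comm [Finite F] (x : GL (Fin a) (fixF F) × GL (Fin b) (fixF F)) (d : Fˣ) :
    bs a b d * jj F a b x = jj F a b x * bs a b d := by
  have h := congrArg (ri a b F) (bl_comm (a := a) (b := b) d (MonoidHom.prodMap
    (GeneralLinearGroup.map (fixF F).subtype) (GeneralLinearGroup.map (fixF F).subtype) x))
  rw [map_mul (ri a b F), map_mul (ri a b F)] at h
  exact h

end blocks

/-- **the block matrices over the fixed field contain a Sylow `2`-subgroup** -/
theorem jj_index {F : Type*} [Field F] [Fintype F] (hodd : Odd (Fintype.card F)) {k b : ℕ} (hb : 2 ^ (k + 1) ∣ b) :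
    ¬ 2 ∣ (jj F (2 ^ k) b).range.index := by
  have := Fintype.ofFinite (fixF F)
  obtain ⟨m, hm, hF⟩ := exists_odd_pow F
  have h1 := fac_blocks hm hodd hF hb
  have h2 : Nat.card (jj F (2 ^ k) b).range = Nat.card (GL (Fin (2 ^ k)) (fixF F) × GL (Fin b) (fixF F)) :=
    (Nat.card_congr (MonoidHom.ofInjective (jj_injective (2 ^ k) b)).toEquiv).symm
  have h3 := (jj F (2 ^ k) b).range.card_mul_index
  have h4 : (jj F (2 ^ k) b).range.index ≠ 0 := index_ne_zero_of_finite
  rw [← h3, ← h2, Nat.factorization_mul Nat.card_pos.ne' h4, Finsupp.add_apply] at h1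
  intro h
  have := (Nat.prime_two.dvd_iff_one_le_factorization h4).1 h
  omega

end Cfsg.Agent.H89.RV
end

-- part: H89/RV/Psl
section
/-!
# `AutOdd` for `PSL_n(q)`, `q` odd (helper89, S4311 / S3851)
-/

set_option autoImplicit false

namespace Cfsg.Agent.H89.RV

open Matrix Subgroup Cfsg.Agent.H199.PslAut Cfsg.Agent.H561.RV
open Cfsg.Agent.ClassicalGeometry.AutPSL.Root Cfsg.Agent.ClassicalGeometry.AutPSL.Auto

variable {F : Type*} [Field F] [Fintype F] {n : ℕ}

/-- modulo the inner-diagonal automorphisms: a field automorphism times a power of the inverse transpose -/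
theorem exists_mod (hn : 2 ≤ n) (α : MulAut (ProjectiveSpecialLinearGroup (Fin n) F)) :
    ∃ δ ∈ inndiagPSL n F, ∃ σ : F ≃+* F, α = δ * phi n F σ ∨ α = δ * phi n F σ * iot n F := by
  rcases exists_form hn α with ⟨g, σ, h⟩ | ⟨-, g, σ, h⟩
  · exact ⟨_, Psi_mem g, σ, Or.inl h⟩
  · exact ⟨_, Psi_mem g, σ, Or.inr h⟩

theorem phi_comm (σ τ : F ≃+* F) : phi n F σ * phi n F τ = phi n F τ * phi n F σ := by
  rw [← map_mul, ringEquiv_comm, map_mul]

/-- `Aut / Inndiag` is abelian -/
theorem comm_mem (hn : 2 ≤ n) (α β : MulAut (ProjectiveSpecialLinearGroup (Fin n) F)) :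
    α * β * α⁻¹ * β⁻¹ ∈ inndiagPSL n F := by
  have hN := inndiag_normal (F := F) hn
  set mk := QuotientGroup.mk' (inndiagPSL n F) with hmk
  have h1 : ∀ α : MulAut (ProjectiveSpecialLinearGroup (Fin n) F), ∃ σ : F ≃+* F,
      mk α = mk (phi n F σ) ∨ mk α = mk (phi n F σ) * mk (iot n F) := by
    intro α
    have hob_ := exists_mod hn α
    obtain ⟨δ, hδ, σ, h | h⟩ := hob_
    · refine ⟨σ, Or.inl ?_⟩
      rw [h, map_mul, (QuotientGroup.eq_one_iff δ).2 hδ |> fun h => (show mk δ = 1 from h), one_mul]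
    · refine ⟨σ, Or.inr ?_⟩
      rw [h, map_mul, map_mul, (QuotientGroup.eq_one_iff δ).2 hδ |> fun h => (show mk δ = 1 from h), one_mul]
  have h2 : ∀ σ τ : F ≃+* F, mk (phi n F σ) * mk (phi n F τ) = mk (phi n F τ) * mk (phi n F σ) := fun σ τ => by
    rw [← map_mul, phi_comm, map_mul]
  have h3 : ∀ σ : F ≃+* F, mk (iot n F) * mk (phi n F σ) = mk (phi n F σ) * mk (iot n F) := fun σ => by
    rw [← map_mul, iot_mul_phi, map_mul]
  have h4 : mk α * mk β = mk β * mk α := by
    have hob_ := h1 α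
    obtain ⟨σ, hσ⟩ := hob_
    have hob_ := h1 β
    obtain ⟨τ, hτ⟩ := hob_
    rcases hσ with hσ | hσ <;> rcases hτ with hτ | hτ <;> rw [hσ, hτ]
    · exact h2 σ τ
    · rw [← mul_assoc, h2, mul_assoc, mul_assoc, h3]
    · rw [mul_assoc, h3, ← mul_assoc, h2, mul_assoc]
    · simp only [mul_assoc (mk ((phi n F) σ)) (mk (iot n F)) (mk ((phi n F) τ) * mk (iot n F)), ← mul_assoc (mk (iot n F)) (mk ((phi n F) τ)) (mk (iot n F)), h3 τ, mul_assoc (mk ((phi n F) τ)) (mk (iot n F)) (mk (iot n F)), mul_assoc (mk ((phi n F) τ)) (mk (iot n F)) (mk ((phi n F) σ) * mk (iot n F)), ← mul_assoc (mk (iot n F)) (mk (phi n F σ)) (mk (iot n F)), h3 σ,         ← mul_assoc (mk ((phi n F) σ)) (mk ((phi n F) τ)) (mk (iot n F) * mk (iot n F)), ← mul_assoc (mk ((phi n F) σ) * mk ((phi n F) τ)) (mk (iot n F)) (mk (iot n F)), h2 σ τ, mul_assoc (mk ((phi n F) τ) * mk ((phi n F) σ)) (mk (iot n F)) (mk (iot n F)), mul_assoc (mk ((phi n F) τ)) (mk ((phi n F) σ)) (mk (iot n F) * mk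 (iot n F)), mul_assoc (mk ((phi n F) σ)) (mk (iot n F)) (mk (iot n F))]
  have h5 : mk (α * β * α⁻¹ * β⁻¹) = 1 := by
    rw [map_mul, map_mul, map_mul, map_inv, map_inv, h4, mul_inv_cancel_right, mul_inv_cancel]
  exact (QuotientGroup.eq_one_iff _).1 h5

/-- every automorphism is, modulo inner-diagonal automorphisms and up to a power of two, a field automorphism of odd order -/
theorem exists_two_pow (hn : 2 ≤ n) (α : MulAut (ProjectiveSpecialLinearGroup (Fin n) F)) :
    ∃ (k : ℕ) (δ : MulAut (ProjectiveSpecialLinearGroup (Fin n) F)) (σ : F ≃+* F), δ ∈ inndiagPSL n F ∧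
      Odd (orderOf σ) ∧ α ^ 2 ^ k = δ * phi n F σ := by
  have hN := inndiag_normal (F := F) hn
  set mk := QuotientGroup.mk' (inndiagPSL n F) with hmk
  obtain ⟨δ, hδ, σ, h⟩ := exists_mod hn α
  have hδ1 : mk δ = 1 := (QuotientGroup.eq_one_iff δ).2 hδ
  have h1 : mk α ^ 2 = mk (phi n F (σ ^ 2)) := by
    rcases h with h | h
    · rw [h, map_mul, hδ1, one_mul, map_pow, map_pow]
    · rw [h, map_mul, map_mul, hδ1, one_mul, ← map_mul, ← map_pow]
      congr 1
      rw [pow_two, mul_assoc, ← mul_assoc (iot n F), iot_mul_phi, mul_assoc, iot_mul_iot, mul_one, ← map_mul, pow_two]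
  obtain ⟨j, m, hm, ho⟩ := Nat.exists_eq_two_pow_mul_odd (n := orderOf σ) (orderOf_pos σ).ne'
  have h2 : orderOf (σ ^ 2 ^ (j + 1)) ∣ m := by
    refine orderOf_dvd_of_pow_eq_one ?_
    rw [← pow_mul, pow_succ, mul_assoc, mul_comm 2 m, ← mul_assoc, ← ho, pow_mul, pow_orderOf_eq_one, one_pow]
  refine ⟨j + 1, α ^ 2 ^ (j + 1) * (phi n F (σ ^ 2 ^ (j + 1)))⁻¹, σ ^ 2 ^ (j + 1), ?_, Odd.of_dvd_nat hm h2, ?_⟩
  · refine (QuotientGroup.eq_one_iff _).1 ?_
    show mk _ = 1
    rw [map_mul, map_inv, map_pow, pow_succ', pow_mul, h1, ← map_pow, ← map_pow, ← pow_mul, mul_inv_cancel]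
  · rw [inv_mul_cancel_right]

omit [Fintype F] in
/-- an automorphism induced by a matrix of determinant `1` is inner -/
theorem Psi_mem_Inn {g : GL (Fin n) F} (h : (g : Matrix (Fin n) (Fin n) F).det = 1) :
    Psi n F g ∈ Inn (ProjectiveSpecialLinearGroup (Fin n) F) := by
  rw [Inn_eq]
  exact ⟨g, ⟨⟨(g : Matrix (Fin n) (Fin n) F), h⟩, Units.ext rfl⟩, rfl⟩

omit [Fintype F] in
theorem inndiag_comm (φ : MulAut (ProjectiveSpecialLinearGroup (Fin n) F)) (hφ : φ ∈ inndiagPSL n F)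
    (ψ : MulAut (ProjectiveSpecialLinearGroup (Fin n) F)) (hψ : ψ ∈ inndiagPSL n F) :
    φ * ψ * φ⁻¹ * ψ⁻¹ ∈ Inn (ProjectiveSpecialLinearGroup (Fin n) F) := by
  obtain ⟨g, rfl⟩ := mem_inndiag.1 hφ
  obtain ⟨h, rfl⟩ := mem_inndiag.1 hψ
  rw [← map_mul, ← map_inv, ← map_inv, ← map_mul, ← map_mul]
  refine Psi_mem_Inn ?_
  have h1 : (GeneralLinearGroup.det (g * h * g⁻¹ * h⁻¹) : Fˣ) = 1 := by
    rw [map_mul, map_mul, map_mul, map_inv, map_inv, mul_comm (GeneralLinearGroup.det g), mul_inv_cancel_right,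
      mul_inv_cancel]
  have h2 := congrArg Units.val h1
  exact h2

omit [Fintype F] in
theorem Inn_le : Inn (ProjectiveSpecialLinearGroup (Fin n) F) ≤ inndiagPSL n F := by
  rw [Inn_eq, inndiag_eq]
  rintro _ ⟨g, -, rfl⟩
  exact ⟨g, rfl⟩

theorem out_solvable (hn : 2 ≤ n) : Group.IsSolvable (Out (ProjectiveSpecialLinearGroup (Fin n) F)) := by
  have hN := inndiag_normal (F := F) hn
  set mk := QuotientGroup.mk' (Inn (ProjectiveSpecialLinearGroup (Fin n) F)) with hmk
  have hN' : ((inndiagPSL n F).map mk).Normal := hN.map _ (QuotientGroup.mk'_surjective _)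
  rw [Group.isSolvable_iff_subgroup_quotient ((inndiagPSL n F).map mk)]
  constructor
  · refine Group.isSolvable_of_comm ?_
    rintro ⟨_, a, ha, rfl⟩ ⟨_, b, hb, rfl⟩
    apply Subtype.ext
    show mk a * mk b = mk b * mk a
    have h1 : mk (a * b * a⁻¹ * b⁻¹) = 1 := (QuotientGroup.eq_one_iff _).2 (inndiag_comm a ha b hb)
    rw [map_mul, map_mul, map_mul, map_inv, map_inv, mul_inv_eq_one, mul_inv_eq_iff_eq_mul] at h1
    exact h1
  · refine Group.isSolvable_of_comm ?_
    intro x y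
    have hob_ := QuotientGroup.mk'_surjective _ x
    obtain ⟨x, rfl⟩ := hob_
    have hob_ := QuotientGroup.mk'_surjective _ y
    obtain ⟨y, rfl⟩ := hob_
    have hob_ := QuotientGroup.mk'_surjective _ x
    obtain ⟨a, rfl⟩ := hob_
    have hob_ := QuotientGroup.mk'_surjective _ y
    obtain ⟨b, rfl⟩ := hob_
    have h1 : (QuotientGroup.mk' ((inndiagPSL n F).map mk)) (mk (a * b * a⁻¹ * b⁻¹)) = 1 :=
      (QuotientGroup.eq_one_iff _).2 ⟨_, comm_mem hn a b, rfl⟩
    simp_rw [map_mul mk (a * b * a⁻¹) (b⁻¹), map_mul (QuotientGroup.mk' (Subgroup.map mk (inndiagPSL n F))) (mk (a * b * a⁻¹)) (mk b⁻¹), map_mul mk (a * b) (a⁻¹), map_inv mk a, map_inv mk b, map_mul (QuotientGroup.mk' (Subgroup.map mk (inndiagPSL n F))) (mk (a * b)) ((mk a)⁻¹), map_mul mk a b, map_mul (QuotientGroup.mk' (Subgroup.map mk (inndiagPSL n F))) (mk a) (mk b), map_inv (QuotientGroup.mk' (Subgroup.map mk (inndiagPSL n F))) (mk a), map_inv (QuotientGroup.mk' (Subgroup.map mk (inndiagPSL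 n F))) (mk b), mul_inv_eq_one,       mul_inv_eq_iff_eq_mul] at h1
    exact h1

/-- a subgroup of odd index contains a Sylow `2`-subgroup -/
theorem exists_sylow_le {S : Type*} [Group S] [Finite S] {K : Subgroup S} (h : ¬ 2 ∣ K.index) :
    ∃ P : Sylow 2 S, (P : Subgroup S) ≤ K := by
  have : Fact (Nat.Prime 2) := ⟨Nat.prime_two⟩
  obtain ⟨Q⟩ : Nonempty (Sylow 2 K) := inferInstance
  have h1 : ¬ 2 ∣ ((Q : Subgroup K).map K.subtype).index := by
    rw [index_map_subtype]
    intro hd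
    rcases (Nat.prime_two.dvd_mul).1 hd with h' | h'
    · exact Q.not_dvd_index h'
    · exact h h'
  exact ⟨(Q.isPGroup'.map K.subtype).toSylow h1, map_subtype_le _⟩

/-- **`AutOdd` for `PSL_n(q)`, `q` odd** -/
theorem autOdd_psl' (hodd : Odd (Fintype.card F)) (hn : 2 ≤ n) : AutOdd (ProjectiveSpecialLinearGroup (Fin n) F) := by
  obtain ⟨k, b, rfl, hb⟩ := exists_digit (n := n) (by omega)
  set S := ProjectiveSpecialLinearGroup (Fin (2 ^ k + b)) F with hS
  have hN := inndiag_normal (F := F) hn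
  -- a subgroup of odd index of `SL`
  let J : Subgroup (GL (Fin (2 ^ k + b)) F) := (jj F (2 ^ k) b).range
  have hJ : ¬ 2 ∣ J.index := jj_index hodd hb
  let tg : _root_.Matrix.SpecialLinearGroup (Fin (2 ^ k + b)) F →* GL (Fin (2 ^ k + b)) F := SpecialLinearGroup.toGL
  have hker : (GeneralLinearGroup.det : GL (Fin (2 ^ k + b)) F →* Fˣ).ker = tg.range := by
    ext g
    constructor
    · intro h
      have h1 : (g : Matrix (Fin (2 ^ k + b)) (Fin (2 ^ k + b)) F).det = 1 := congrArg Units.val h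
      exact ⟨⟨(g : Matrix _ _ F), h1⟩, Units.ext rfl⟩
    · rintro ⟨s, rfl⟩
      exact Units.ext s.2
  have hn2 : tg.range.Normal := hker ▸ inferInstance
  have h1 : ¬ 2 ∣ (J.comap tg).index := by
    rw [index_comap]
    intro h
    refine hJ ?_
    rw [← Cfsg.Agent.H988.CPi.relIndex_mul_sup_index J tg.range]
    exact h.mul_right _
  have h2 : ¬ 2 ∣ ((J.comap tg).map (pr : _root_.Matrix.SpecialLinearGroup (Fin (2 ^ k + b)) F →* S)).index :=
    fun h => h1 (h.trans (index_map_dvd _ pr_surjective))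
  obtain ⟨P₀, hP₀⟩ := exists_sylow_le h2
  -- the automorphisms centralising `P₀`
  let C : Subgroup (MulAut S) :=
    { carrier := {φ | ∀ x ∈ P₀, φ x = x}
      one_mem' := fun x _ => rfl
      mul_mem' := fun {φ ψ} hφ hψ x hx => by rw [MulAut.mul_apply, hψ x hx, hφ x hx]
      inv_mem' := fun {φ} hφ x hx => by
        show φ⁻¹ x = x
        rw [MulAut.inv_def, MulEquiv.symm_apply_eq, hφ x hx] }
  have hCf : ∀ σ : F ≃+* F, Odd (orderOf σ) → phi (2 ^ k + b) F σ ∈ C := by
    intro σ hσ x hx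
    obtain ⟨s, ⟨y, hy⟩, rfl⟩ := hP₀ hx
    show phi (2 ^ k + b) F σ (pr s) = pr s
    rw [phi_pr]
    congr 1
    apply Subtype.ext
    ext i j
    have h3 : (jj F (2 ^ k) b y : Matrix (Fin (2 ^ k + b)) (Fin (2 ^ k + b)) F) i j =
        (s : Matrix (Fin (2 ^ k + b)) (Fin (2 ^ k + b)) F) i j :=
      congrArg (fun u : GL (Fin (2 ^ k + b)) F => (u : Matrix (Fin (2 ^ k + b)) (Fin (2 ^ k + b)) F) i j) hy
    show σ ((s : Matrix (Fin (2 ^ k + b)) (Fin (2 ^ k + b)) F) i j) = (s : Matrix (Fin (2 ^ k + b)) (Fin (2 ^ k + b)) F) i j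
    rw [← h3]
    exact jj_fix (2 ^ k) b y hσ i j
  have hCb : ∀ d : Fˣ, Psi (2 ^ k + b) F (bs (2 ^ k) b d) ∈ C := by
    intro d x hx
    obtain ⟨s, ⟨y, hy⟩, rfl⟩ := hP₀ hx
    show Psi (2 ^ k + b) F (bs (2 ^ k) b d) (pr s) = pr s
    rw [Psi_pr]
    congr 1
    apply Subtype.ext
    have h3 := jj_comm (2 ^ k) b y d
    rw [hy] at h3
    have h4 : bs (2 ^ k) b d * tg s * (bs (2 ^ k) b d)⁻¹ = tg s := by rw [h3, mul_inv_cancel_right]
    exact congrArg (fun u : GL (Fin (2 ^ k + b)) F => (u : Matrix (Fin (2 ^ k + b)) (Fin (2 ^ k + b)) F)) h4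
  refine autOdd_of_layers (out_solvable hn) P₀ C (inndiagPSL (2 ^ k + b) F) (fun φ hφ => hφ) Inn_le (comm_mem hn) ?_
    (Or.inr ⟨inndiag_comm, ?_⟩)
  · intro α
    obtain ⟨j, δ, σ, hδ, hσ, h⟩ := exists_two_pow hn α
    refine ⟨j, ?_⟩
    rw [h]
    exact mul_mem (mem_sup_right hδ) (mem_sup_left (hCf σ hσ))
  · intro δ hδ
    obtain ⟨g, rfl⟩ := mem_inndiag.1 hδ
    refine ⟨k, ?_⟩
    set d : Fˣ := GeneralLinearGroup.det g with hd
    have h5 : GeneralLinearGroup.det (g ^ 2 ^ k * (bs (2 ^ k) b d)⁻¹) = 1 := by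
      have h6 : GeneralLinearGroup.det (bs (2 ^ k) b d) = d ^ 2 ^ k := by
        apply Units.ext
        rw [Units.val_pow_eq_pow_val]
        exact det_bs d
      rw [map_mul, map_pow, map_inv, h6, ← hd, mul_inv_cancel]
    have h7 : Psi (2 ^ k + b) F g ^ 2 ^ k =
        Psi (2 ^ k + b) F (g ^ 2 ^ k * (bs (2 ^ k) b d)⁻¹) * Psi (2 ^ k + b) F (bs (2 ^ k) b d) := by
      simp only [← map_pow, ← map_mul, inv_mul_cancel_right]
    rw [h7]
    exact mul_mem (mem_sup_right (Psi_mem_Inn (congrArg Units.val h5))) (mem_sup_left (hCb d))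

end Cfsg.Agent.H89.RV
end

-- part: H269/AO/Crit
section
/-!
# `AutOdd` for `POmega F Q` when all automorphisms are induced by semisimilarities (helper269)

* `solvable_out` : `Out S` is solvable if `D / Inn S` is a `2`-group and `Aut S / D` is abelian;
* `autOdd_of_good`.
-/

set_option autoImplicit false
set_option linter.unusedSectionVars false

namespace Cfsg.Agent.H269.AO

open Subgroup Cfsg Matrix QuadraticMap Cfsg.Agent.H185.OrthCent Cfsg.Agent.H198.Carriers Cfsg.Agent.H198.OrthFrame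
  Cfsg.Agent.LieClassical.OrthCore Cfsg.Agent.LieClassical.OrthTrans
  Cfsg.Agent.ClassicalGeometry.OrthSemi Cfsg.Agent.H205.Gen Cfsg.Agent.H561.RV
open Cfsg.Agent.H198.ClassesPlus (mu mu_spec)

universe u

theorem solvable_out {S : Type*} [Group S] [Finite S] (D : Subgroup (MulAut S)) [D.Normal]
    (hAD : ∀ φ ψ : MulAut S, φ * ψ * φ⁻¹ * ψ⁻¹ ∈ D) (hD : ∀ δ ∈ D, ∃ n : ℕ, δ ^ 2 ^ n ∈ Inn S) :
    Group.IsSolvable (Out S) := by
  have hfin : Finite (MulAut S) := Finite.of_injective (fun f : MulAut S => (f : S → S)) DFunLike.coe_injective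
  set mk := QuotientGroup.mk' (Inn S) with hmk
  have hmks : Function.Surjective mk := QuotientGroup.mk'_surjective _
  have hn : (D.map mk).Normal := Normal.map inferInstance mk hmks
  have h1 : IsPGroup 2 (D.map mk) := by
    rintro ⟨_, δ, hδ, rfl⟩
    obtain ⟨n, hn⟩ := hD δ hδ
    refine ⟨n, Subtype.ext ?_⟩
    rw [SubmonoidClass.coe_pow, OneMemClass.coe_one, ← map_pow]
    exact (QuotientGroup.eq_one_iff _).2 hn
  have h2 : Group.IsNilpotent (D.map mk) := h1.isNilpotent
  have h3 : Group.IsSolvable (D.map mk) := inferInstance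
  have h4 : Group.IsSolvable (Out S ⧸ D.map mk) := by
    refine Group.isSolvable_of_comm fun a b => ?_
    obtain ⟨a, rfl⟩ := QuotientGroup.mk'_surjective (D.map mk) a
    obtain ⟨b, rfl⟩ := QuotientGroup.mk'_surjective (D.map mk) b
    obtain ⟨a, rfl⟩ := hmks a
    obtain ⟨b, rfl⟩ := hmks b
    rw [← map_mul, ← map_mul]
    refine (QuotientGroup.eq_iff_div_mem).2 ?_
    rw [div_eq_mul_inv, _root_.mul_inv_rev, ← mul_assoc, ← map_inv, ← map_inv, ← map_mul, ← map_mul]
    exact ⟨_, hAD a b, rfl⟩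
  refine Group.isSolvable_of_ker_le_range (D.map mk).subtype (QuotientGroup.mk' (D.map mk)) ?_
  rw [QuotientGroup.ker_mk', range_subtype]

variable {F : Type u} [Field F] {ι : Type} [Fintype ι] [DecidableEq ι] {Q : QuadraticForm F (ι → F)}

theorem isSS_pow {σ : F ≃+* F} {c : F} {M : Equiv.Perm (ι → F)} (h : IsSS Q σ c M) (k : ℕ) :
    ∃ e, IsSS Q (σ ^ k) e (M ^ k) := by
  induction k with
  | zero => exact ⟨1, one_ne_zero, fun _ _ => rfl, fun _ _ => rfl, fun _ => by rw [one_mul]; rfl⟩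
  | succ k ih =>
    obtain ⟨e, ih⟩ := ih
    have h' := ih.mul h
    rw [← pow_succ] at h'
    rw [pow_succ σ k]
    exact ⟨_, h'⟩

/-- a product of two semisimilarities with inverse field automorphisms -/
theorem mem_range_of_refl (hG : Good Q) {M : Gam Q} {σ : F ≃+* F} {c : F} (h : IsSS Q σ c M.1) (h1 : σ = RingEquiv.refl F) :
    Phi hG M ∈ (S hG).range := by
  subst h1
  have hob_ := exists_sim_of_refl h
  obtain ⟨g, hg⟩ := hob_
  exact ⟨g, by rw [← hg]; rfl⟩

/-- **similarities modulo inner automorphisms** -/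
theorem S_pow_four (hG : Good Q) (h4 : Fintype.card ι ≠ 4) (g : Sim Q) : S hG g ^ 2 ^ 2 ∈ Inn (POmega F ⇑Q) := by
  have h1 : mu hG ((scS Q (mu hG g))⁻¹ * (g * g)) = 1 := by
    rw [map_mul, map_inv, mu_scS, map_mul]
    group
  have hob_ : ∃ s : isometryGroup F ⇑Q, incI Q s = (scS Q (mu hG g))⁻¹ * (g * g) :=
    ⟨⟨_, mem_iso_of_mu hG h1⟩, rfl⟩
  obtain ⟨s, h3⟩ := hob_
  have h5 : S hG (incI Q s) = S hG g * S hG g := by
    ((conv => enter [@2, @6]; rw [h3]); (conv => enter [@2]; rw [map_mul]); (conv => enter [@2, @5]; rw [map_inv]); (conv => enter [@2, @5, @3]; rw [S_scS]); (conv => enter [@2, @5]; rw [inv_one]); (conv => enter [@2]; rw [one_mul]); (conv => enter [@2]; rw [map_mul]))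
  have h6 : S hG g ^ 2 ^ 2 = S hG (incI Q (s ^ 2)) := by
    ((conv => enter [@3, @6]; rw [map_pow]); (conv => enter [@3]; rw [map_pow]); (conv => enter [@3, @5]; rw [h5]); (conv => enter [@2, @6]; rw [show (2 : ℕ) ^ 2 = 2 * 2 from rfl]); (conv => enter [@2]; rw [pow_mul]); (conv => enter [@2, @5]; rw [pow_two (S hG g)]))
  rw [h6, inn_eq hG]
  have h7 : s ^ 2 ∈ Omega F ⇑Q := H182.Orth.sq_mem_Omega Q (nondeg_bilin hG) h4 s
  revert h7
  generalize s ^ 2 = t
  intro h7
  exact ⟨incI Q t, mem_omGL.2 ⟨t.2, h7⟩, rfl⟩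

/-- **The criterion for orthogonal groups.** -/
theorem autOdd_of_good [Finite F] (hG : Good Q) (h4 : Fintype.card ι ≠ 4) (hs : Function.Surjective (Phi hG))
    (hfix : ∀ σ : F ≃+* F, _root_.Cfsg.Agent.H185.OrthCent.Fix σ Q)
    (hP : ∃ P0 : Sylow 2 (POmega F ⇑Q), ∀ σ : F ≃+* F, Odd (orderOf σ) →
      ∀ β : POmega F ⇑Q ≃* POmega F ⇑Q, IsFieldAutPOmegaOf ⇑Q σ β → ∀ x ∈ P0, β x = x) :
    AutOdd (POmega F ⇑Q) := by
  obtain ⟨P0, hP0⟩ := hP
  have hfinA : Finite (F ≃+* F) := Finite.of_injective (fun f : F ≃+* F => (f : F → F)) DFunLike.coe_injective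
  have hcyc : IsCyclic (F ≃+* F) := H477.isCyclic_ringAut F
  have hcomm : ∀ σ τ : F ≃+* F, σ * τ = τ * σ := by
    obtain ⟨γ, hγ⟩ := hcyc.exists_generator
    intro σ τ
    obtain ⟨a, rfl⟩ := hγ σ
    obtain ⟨b, rfl⟩ := hγ τ
    exact ((Commute.refl γ).zpow_zpow a b).eq
  have hDn : (S hG).range.Normal := ⟨fun β hβ α => by
    have hob_ := hs α
    obtain ⟨M, rfl⟩ := hob_
    exact conj_mem_range_S hG M hβ⟩
  have hID : Inn (POmega F ⇑Q) ≤ (S hG).range := by
    rw [inn_eq hG, MonoidHom.range_eq_map]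
    exact map_mono le_top
  have hAD : ∀ φ ψ : MulAut (POmega F ⇑Q), φ * ψ * φ⁻¹ * ψ⁻¹ ∈ (S hG).range := by
    intro φ ψ
    have hob_ := hs φ
    obtain ⟨M, rfl⟩ := hob_
    have hob_ := hs ψ
    obtain ⟨N, rfl⟩ := hob_
    have hob_ := M.2
    obtain ⟨σ, c, hM⟩ := hob_
    have hob_ := N.2
    obtain ⟨τ, e, hN⟩ := hob_
    ((conv => enter [@5, @5, @6]; rw [← map_inv]); (conv => enter [@5, @6]; rw [← map_inv]); (conv => enter [@5, @5, @5]; rw [← map_mul]); (conv => enter [@5, @5]; rw [← map_mul]); (conv => enter [@5]; rw [← map_mul]))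
    refine mem_range_of_refl hG (((hM.mul hN).mul hM.inv).mul hN.inv) ?_
    ext x
    change σ (τ (σ.symm (τ.symm x))) = x
    have h1 : σ (τ (σ.symm (τ.symm x))) = τ (σ (σ.symm (τ.symm x))) := DFunLike.congr_fun (hcomm σ τ) _
    rw [h1, RingEquiv.apply_symm_apply, RingEquiv.apply_symm_apply]
  have hD : ∀ δ ∈ (S hG).range, ∃ n : ℕ, δ ^ 2 ^ n ∈ Inn (POmega F ⇑Q) := by
    rintro _ ⟨g, rfl⟩
    exact ⟨2, S_pow_four hG h4 g⟩
  -- the automorphisms centralising `P0`
  let C : Subgroup (MulAut (POmega F ⇑Q)) :=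
    { carrier := {φ | ∀ x ∈ P0, φ x = x}
      one_mem' := fun x _ => rfl
      mul_mem' := fun {a b} ha hb x hx => by
        rw [MulAut.mul_apply, hb x hx, ha x hx]
      inv_mem' := fun {a} ha x hx => by
        have h := ha x hx
        nth_rw 1 [← h]
        exact MulAut.inv_apply_self _ a x }
  refine autOdd_of_layers (solvable_out (S hG).range hAD hD) P0 C (S hG).range (fun φ hφ => hφ) hID hAD ?_ (Or.inl hD)
  intro φ
  have hob_ := hs φ
  obtain ⟨M, rfl⟩ := hob_
  have hob_ := M.2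
  obtain ⟨σ, c, hM⟩ := hob_
  have hob_ := Nat.exists_eq_two_pow_mul_odd (n := orderOf σ) (orderOf_pos σ).ne'
  obtain ⟨a, d, hd, ho⟩ := hob_
  have hτ : Odd (orderOf (σ ^ 2 ^ a)) := by
    rw [orderOf_pow_of_dvd (pow_ne_zero _ two_ne_zero) (ho ▸ dvd_mul_right _ _), ho,
      Nat.mul_div_cancel_left d (Nat.two_pow_pos a)]
    exact hd
  refine ⟨a, ?_⟩
  have h1 : Phi hG M ^ 2 ^ a = Phi hG (frobG (hfix (σ ^ 2 ^ a))) * Phi hG ((frobG (hfix (σ ^ 2 ^ a)))⁻¹ * M ^ 2 ^ a) := by
    ((conv => enter [@3]; rw [← map_mul]); (conv => enter [@2]; rw [← map_pow]); (conv => enter [@3, @6]; rw [mul_inv_cancel_left]))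
  rw [h1]
  refine mul_mem_sup ?_ ?_
  · exact fun x hx => hP0 _ hτ _ ((isFieldAut_iff hG (hfix _) _).2 rfl) x hx
  · have hob_ := isSS_pow hM (2 ^ a)
    obtain ⟨e, h2⟩ := hob_
    have h3 : IsSS Q (σ ^ 2 ^ a) 1 (frobG (hfix (σ ^ 2 ^ a))).1 := by
      refine ⟨one_ne_zero, fun u v => ?_, fun b v => ?_, fun v => ?_⟩
      · rw [frobG_apply, frobG_apply, frobG_apply]
        funext i
        exact map_add _ _ _
      · rw [frobG_apply, frobG_apply]
        funext i
        exact map_mul _ _ _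
      · rw [frobG_apply, one_mul]
        exact hfix _ v
    refine mem_range_of_refl hG (h3.inv.mul h2) ?_
    ext x
    change (σ ^ 2 ^ a).symm ((σ ^ 2 ^ a) x) = x
    rw [RingEquiv.symm_apply_apply]

end Cfsg.Agent.H269.AO
end

-- part: H269/AO/Plus
section
/-!
# `PΩ⁺_{2m}(F)`, `|F|` odd: a Sylow `2`-subgroup centralised by the field automorphisms of odd order (helper269)
-/

set_option autoImplicit false

namespace Cfsg.Agent.H269.AO

open Subgroup Cfsg Matrix QuadraticMap Cfsg.Agent.H185.OrthCent Cfsg.Agent.H198.Carriers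

universe u

theorem fac_prod {n : ℕ} {f g : ℕ → ℕ} (hf : ∀ i < n, f i ≠ 0) (hg : ∀ i < n, g i ≠ 0)
    (h : ∀ i < n, (f i).factorization 2 = (g i).factorization 2) :
    (∏ i ∈ Finset.range n, f i).factorization 2 = (∏ i ∈ Finset.range n, g i).factorization 2 := by
  induction n with
  | zero => rfl
  | succ n ih =>
    rw [Finset.prod_range_succ, Finset.prod_range_succ]
    exact fac_mul (Finset.prod_ne_zero_iff.2 fun i hi => hf i (by have := Finset.mem_range.1 hi; omega)) (hf n (by omega))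
      (Finset.prod_ne_zero_iff.2 fun i hi => hg i (by have := Finset.mem_range.1 hi; omega)) (hg n (by omega))
      (ih (fun i hi => hf i (by omega)) (fun i hi => hg i (by omega)) (fun i hi => h i (by omega))) (h n (by omega))

/-- the `2`-parts of the orders -/
theorem fac_card_plus {F : Type u} [Field F] [Finite F] {E : Subfield F} {d : ℕ} (hd : Odd d)
    (hc : Nat.card F = Nat.card E ^ d) (hodd : Odd (Nat.card F)) {m : ℕ} (hm : 1 ≤ m) :
    (Nat.card (isometryGroup E (quadFormPlus m E))).factorization 2 =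
      (Nat.card (isometryGroup F (quadFormPlus m F))).factorization 2 := by
  have := Fintype.ofFinite F
  have := Fintype.ofFinite E
  have hd0 : d ≠ 0 := by rintro rfl; exact absurd hd (by decide)
  have hE1 : 1 < Nat.card E := Finite.one_lt_card
  have hEo : Odd (Nat.card E) := by
    rw [hc] at hodd
    exact Nat.Odd.of_mul_left (n := Nat.card E ^ (d - 1)) (by rwa [← pow_succ', Nat.sub_add_cancel (by omega)])
  rw [S0287.result (F := E) rfl m hm, S0287.result (F := F) rfl m hm, ← Nat.card_eq_fintype_card,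
    ← Nat.card_eq_fintype_card, hc]
  generalize Nat.card E = q at *
  have hq : ∀ k, 0 < k → q ^ k - 1 ≠ 0 := fun k hk => by
    have : 1 < q ^ k := Nat.one_lt_pow hk.ne' hE1
    omega
  have hqd : ∀ k, 0 < k → (q ^ d) ^ k - 1 ≠ 0 := fun k hk => by
    rw [← pow_mul]
    exact hq _ (Nat.mul_pos (Nat.pos_of_ne_zero hd0) hk)
  have hp : ∀ k, q ^ k ≠ 0 := fun k => pow_ne_zero _ (by omega)
  have hpd : ∀ k, (q ^ d) ^ k ≠ 0 := fun k => pow_ne_zero _ (hp _)
  refine fac_mul (mul_ne_zero (mul_ne_zero two_ne_zero (hp _)) (hq _ hm))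
    (Finset.prod_ne_zero_iff.2 fun i _ => hq _ (by omega))
    (mul_ne_zero (mul_ne_zero two_ne_zero (hpd _)) (hqd _ hm)) (Finset.prod_ne_zero_iff.2 fun i _ => hqd _ (by omega)) ?_ ?_
  · refine fac_mul (mul_ne_zero two_ne_zero (hp _)) (hq _ hm) (mul_ne_zero two_ne_zero (hpd _)) (hqd _ hm) ?_ ?_
    · exact fac_mul two_ne_zero (hp _) two_ne_zero (hpd _) rfl (fac_odd hEo.pow hEo.pow.pow)
    · exact (fac_pow_sub_one hEo hE1 hd hm).symm
  · exact fac_prod (fun i _ => hq _ (by omega)) (fun i _ => hqd _ (by omega))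
      (fun i _ => (fac_pow_sub_one hEo hE1 hd (by omega)).symm)

theorem ext_plusQ {F : Type u} [Field F] (E : Subfield F) (m : ℕ) : _root_.Cfsg.Agent.H185.OrthCent.Ext E.subtype (plusQ m E) (plusQ m F) :=
  ⟨fun v => by
    change quadFormPlus m F (fun i => E.subtype (v i)) = E.subtype (quadFormPlus m E v)
    simp only [quadFormPlus, map_sum, map_mul]⟩

theorem fix_plusQ {F : Type u} [Field F] (σ : F ≃+* F) (m : ℕ) : _root_.Cfsg.Agent.H185.OrthCent.Fix σ (plusQ m F) := by
  intro v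
  change quadFormPlus m F (fun i => σ (v i)) = σ (quadFormPlus m F v)
  simp only [quadFormPlus, map_sum, map_mul]

/-- **The standard field automorphisms of odd order of `PΩ⁺_{2m}(F)`, `|F|` odd, centralise a common Sylow
`2`-subgroup.** -/
theorem exists_sylow_plus {F : Type u} [Field F] [Finite F] (hodd : Odd (Nat.card F)) {m : ℕ} (hm : 1 ≤ m) :
    ∃ P0 : Sylow 2 (POmega F (quadFormPlus m F)), ∀ σ : F ≃+* F, Odd (orderOf σ) →
      ∀ β : POmega F (quadFormPlus m F) ≃* POmega F (quadFormPlus m F),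
        IsFieldAutPOmegaOf (quadFormPlus m F) σ β → ∀ x ∈ P0, β x = x := by
  have hob_ := exists_subfield F
  obtain ⟨E, d, hd, hc, hE⟩ := hob_
  have hob_ := exists_sylow_fixed (ext_plusQ E m) (fac_card_plus hd hc hodd hm)
  obtain ⟨P0, h⟩ := hob_
  exact ⟨P0, fun σ hσ β hβ => h σ (fun b => hE σ hσ b) β hβ⟩

end Cfsg.Agent.H269.AO
end

-- part: H269/AO/Main
section
/-!
# `AutOdd` for `PΩ⁺_{2m}(F)`, `m ≥ 5`, `|F|` odd (helper269)
-/

set_option autoImplicit false

namespace Cfsg.Agent.H269.AO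

open Cfsg Cfsg.Agent.H198.Carriers Cfsg.Agent.H561.RV

universe u

/-- **`AutOdd` for `PΩ⁺_{2m}(F)`, `m ≥ 5`.** -/
theorem autOdd_oPlus {F : Type u} [Field F] [Fintype F] (hodd : Odd (Fintype.card F)) {m : ℕ} (hm : 5 ≤ m) :
    AutOdd (POmega F (quadFormPlus m F)) := by
  have hodd' : Odd (Nat.card F) := by rwa [Nat.card_eq_fintype_card]
  refine autOdd_of_good (Q := plusQ m F) (good_plusQ (by omega)) ?_ (surj_plusQ hm) (fun σ => fix_plusQ σ m)
    (exists_sylow_plus hodd' (by omega))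
  rw [Fintype.card_sum, Fintype.card_fin]
  omega

/-- **The field automorphisms of odd order of `PΩ⁺_{2m}(F)` centralise a common Sylow `2`-subgroup.** -/
theorem exists_sylow_oPlus {F : Type u} [Field F] [Fintype F] (hodd : Odd (Fintype.card F)) {m : ℕ} (hm : 1 ≤ m) :
    ∃ P0 : Sylow 2 (POmega F (quadFormPlus m F)), ∀ σ : F ≃+* F, Odd (orderOf σ) →
      ∀ β : POmega F (quadFormPlus m F) ≃* POmega F (quadFormPlus m F),
        IsFieldAutPOmegaOf (quadFormPlus m F) σ β → ∀ x ∈ P0, β x = x :=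
  exists_sylow_plus (by rwa [Nat.card_eq_fintype_card]) hm

end Cfsg.Agent.H269.AO
end

-- part: H241/AO/Good
section
/-!
# `AutOdd` for the orthogonal groups over finite fields (helper241)

* `exists_sigma` : the automorphism generating the odd part of the group of automorphisms of a finite field;
* `autOdd_P` : `Q` good over `F`, `Q₀` the same form over a subfield `F₀` of odd degree, `|P Q| / |P Q₀|` odd, all
  automorphisms of `P Q` induced by semisimilitudes: `AutOdd (P Q)`;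
* `autOdd_POmega` : the same for `POmega F Q`.
-/

set_option autoImplicit false
set_option linter.unusedSectionVars false

namespace Cfsg.Agent.H241.AO

open Cfsg Matrix QuadraticMap Cfsg.Agent.LieClassical.OrthCore Cfsg.Agent.LieClassical.OrthTrans
  Cfsg.Agent.ClassicalGeometry.OrthSemi Cfsg.Agent.ClassicalGeometry.OrthAut1
  Cfsg.Agent.AutOrth.SemiSim Cfsg.Agent.H198.OrthFrame Cfsg.Agent.H185.OrthCent Cfsg.Agent.H185.ExtKappa
  Cfsg.Agent.H208.ExtE Cfsg.Agent.H208.FixPt Cfsg.Agent.AutOrth.Main Cfsg.Agent.H208.FixGood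
open Cfsg.Agent.H561.RV

universe u v

/-- a generator of the odd part of the group of automorphisms of a finite field -/
theorem exists_sigma (F : Type*) [Field F] [Finite F] :
    ∃ σ₀ : F ≃+* F, Odd (orderOf σ₀) ∧ ∀ σ : F ≃+* F, ∃ n : ℕ, σ ^ 2 ^ n ∈ Subgroup.zpowers σ₀ := by
  have hc : IsCyclic (F ≃+* F) := LieRecognition.FieldSemilinear.isCyclic_ringAut F
  have hfin : Finite (F ≃+* F) :=
    Finite.of_injective (fun e : F ≃+* F => (e : F → F)) (fun a b h => RingEquiv.ext (congrFun h))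
  obtain ⟨γ, hγ⟩ := hc.exists_generator
  obtain ⟨a, m, hm, ho⟩ := Nat.exists_eq_two_pow_mul_odd (n := orderOf γ) (orderOf_pos γ).ne'
  refine ⟨γ ^ 2 ^ a, ?_, fun σ => ⟨a, ?_⟩⟩
  · rw [orderOf_pow_of_dvd (pow_ne_zero _ two_ne_zero) (ho ▸ dvd_mul_right _ _), ho,
      Nat.mul_div_cancel_left m (Nat.two_pow_pos a)]
    exact hm
  · obtain ⟨i, rfl⟩ := Subgroup.mem_zpowers_iff.1 (hγ σ)
    refine Subgroup.mem_zpowers_iff.2 ⟨i, ?_⟩
    rw [← zpow_natCast, ← zpow_natCast, ← _root_.zpow_mul, ← _root_.zpow_mul, mul_comm]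

theorem ringAut_comm {F : Type*} [Field F] [Finite F] (σ τ : F ≃+* F) : σ * τ = τ * σ := by
  have hc : IsCyclic (F ≃+* F) := LieRecognition.FieldSemilinear.isCyclic_ringAut F
  let _ : CommGroup (F ≃+* F) := IsCyclic.commGroup
  exact mul_comm σ τ

section Lin

variable {F V : Type*} [Field F] [AddCommGroup V] [Module F V] {Q : QuadraticForm F V}

theorem ss_mul {σ τ : F ≃+* F} {M N : Gam Q} (hM : ∃ c, IsSS Q σ c M.1) (hN : ∃ c, IsSS Q τ c N.1) :
    ∃ c, IsSS Q (σ * τ) c (M * N).1 := by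
  obtain ⟨c, hc⟩ := hM
  obtain ⟨d, hd⟩ := hN
  exact ⟨_, hc.mul hd⟩

theorem ss_inv {σ : F ≃+* F} {M : Gam Q} (hM : ∃ c, IsSS Q σ c M.1) : ∃ c, IsSS Q σ⁻¹ c (M⁻¹).1 := by
  obtain ⟨c, hc⟩ := hM
  exact ⟨_, hc.inv⟩

theorem ss_one : ∃ c, IsSS Q (1 : F ≃+* F) c (1 : Gam Q).1 :=
  ⟨1, one_ne_zero, fun _ _ => rfl, fun _ _ => rfl, fun _ => by rw [one_mul]; rfl⟩

theorem ss_pow {σ : F ≃+* F} {M : Gam Q} (hM : ∃ c, IsSS Q σ c M.1) (n : ℕ) : ∃ c, IsSS Q (σ ^ n) c (M ^ n).1 := by
  induction n with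
  | zero => rw [pow_zero, pow_zero]; exact ss_one
  | succ n ih => rw [pow_succ, pow_succ]; exact ss_mul ih hM

/-- the group of similitudes -/
def lin (Q : QuadraticForm F V) : Subgroup (Gam Q) where
  carrier := {M | ∃ c, IsSS Q (1 : F ≃+* F) c M.1}
  one_mem' := ss_one
  mul_mem' := fun {M N} hM hN => by
    have := ss_mul hM hN
    rwa [one_mul] at this
  inv_mem' := fun {M} hM => by
    have := ss_inv hM
    rwa [inv_one] at this

instance lin_normal : (lin Q).Normal where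
  conj_mem := by
    intro M hM N
    obtain ⟨σ, hσ⟩ := N.2
    have h := ss_mul (ss_mul (M := N) hσ hM) (ss_inv hσ)
    rw [mul_one, mul_inv_cancel] at h
    exact h

theorem comm_mem_lin [Finite F] (M N : Gam Q) : M * N * M⁻¹ * N⁻¹ ∈ lin Q := by
  obtain ⟨σ, hσ⟩ := M.2
  obtain ⟨τ, hτ⟩ := N.2
  have h := ss_mul (ss_mul (ss_mul (M := M) hσ (N := N) hτ) (ss_inv (M := M) hσ)) (ss_inv (M := N) hτ)
  have h1 : σ * τ * σ⁻¹ * τ⁻¹ = 1 := by rw [ringAut_comm σ τ]; group
  rw [h1] at h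
  exact h

end Lin

/-- a group with a normal subgroup of exponent dividing `4` and abelian factor group -/
theorem solvable_of {A : Type*} [Group A] [Finite A] (D : Subgroup A) [D.Normal]
    (h4 : ∀ d ∈ D, d ^ 4 = 1) (hc : ∀ a b : A, a * b * a⁻¹ * b⁻¹ ∈ D) : Group.IsSolvable A := by
  have h2 : IsPGroup 2 D := by
    intro d
    refine ⟨2, ?_⟩
    apply Subtype.ext
    exact h4 d d.2
  have : Fact (Nat.Prime 2) := ⟨Nat.prime_two⟩
  have hn : Group.IsNilpotent D := h2.isNilpotent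
  have hD : Group.IsSolvable D := inferInstance
  have hq : Group.IsSolvable (A ⧸ D) := by
    refine Group.isSolvable_of_comm fun x y => ?_
    obtain ⟨a, rfl⟩ := QuotientGroup.mk'_surjective D x
    obtain ⟨b, rfl⟩ := QuotientGroup.mk'_surjective D y
    have h1 : (QuotientGroup.mk' D (a * b * a⁻¹ * b⁻¹)) = 1 := (QuotientGroup.eq_one_iff _).2 (hc a b)
    rw [map_mul, map_mul, map_mul, map_inv, map_inv, mul_inv_eq_one, mul_inv_eq_iff_eq_mul] at h1
    exact h1
  exact Group.isSolvable_of_ker_le_range D.subtype (QuotientGroup.mk' D) (by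
    rw [QuotientGroup.ker_mk', Subgroup.range_subtype])

/-- a Sylow `2`-subgroup inside a subgroup of odd index -/
theorem exists_sylow_le {A : Type*} [Group A] [Finite A] (R : Subgroup A) (h : ¬ 2 ∣ R.index) :
    ∃ P : Sylow 2 A, (P : Subgroup A) ≤ R := by
  have : Fact (Nat.Prime 2) := ⟨Nat.prime_two⟩
  obtain ⟨Q⟩ : Nonempty (Sylow 2 R) := inferInstance
  have h1 : ¬ 2 ∣ ((Q : Subgroup R).map R.subtype).index := by
    rw [Subgroup.index_map_subtype]
    intro hd
    rcases (Nat.prime_two.dvd_mul).1 hd with h2 | h2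
    · exact Q.not_dvd_index h2
    · exact h h2
  exact ⟨(Q.isPGroup'.map R.subtype).toSylow h1, Subgroup.map_subtype_le _⟩

section Main

variable {ι : Type} [Fintype ι] [DecidableEq ι] {F : Type u} [Field F] {F₀ : Type v} [Field F₀]
  {j : F₀ →+* F} {Q₀ : QuadraticForm F₀ (ι → F₀)} {Q : QuadraticForm F (ι → F)}

/-- **`AutOdd` for orthogonal groups** -/
theorem autOdd_P [Finite F] (hx : _root_.Cfsg.Agent.H185.OrthCent.Ext j Q₀ Q) (hG₀ : Good Q₀) (hG : Good Q)
    (hsurj : ∀ φ : MulAut (P Q), ∃ M : Gam Q, Psi Q M = φ)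
    (hgal : ∀ σ : F ≃+* F, ∃ n : ℕ, ∀ b, (σ ^ 2 ^ n) (j b) = j b)
    (hfix : ∀ σ : F ≃+* F, (∀ b, σ (j b) = j b) → _root_.Cfsg.Agent.H185.OrthCent.Fix σ Q)
    (hcard : (Nat.card (P Q)).factorization 2 = (Nat.card (P Q₀)).factorization 2) : AutOdd (P Q) := by
  have hfin : Finite (P Q) := Finite.of_equiv _ (pe hG).toEquiv
  have hfin0 : Finite (P Q₀) := Finite.of_equiv _ (embEquiv hx hG₀ hG).symm.toEquiv
  have hfinA : Finite (MulAut (P Q)) :=
    Finite.of_injective (fun f : MulAut (P Q) => (f : P Q → P Q)) DFunLike.coe_injective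
  have hR : Nat.card (emb hx).range = Nat.card (P Q₀) := Nat.card_congr (embEquiv hx hG₀ hG).symm.toEquiv
  have hidx : ¬ 2 ∣ (emb hx).range.index := by
    intro hd
    have h1 := (emb hx).range.card_mul_index
    rw [hR] at h1
    have h2 : Nat.card (P Q₀) ≠ 0 := Nat.card_pos.ne'
    have h3 : (emb hx).range.index ≠ 0 := Subgroup.index_ne_zero_of_finite
    have h4 : (Nat.card (P Q)).factorization 2 =
        (Nat.card (P Q₀)).factorization 2 + ((emb hx).range.index).factorization 2 := by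
      rw [← h1, Nat.factorization_mul h2 h3]; rfl
    have h5 := (Nat.prime_two.dvd_iff_one_le_factorization h3).1 hd
    omega
  obtain ⟨P₀, hP₀⟩ := exists_sylow_le (emb hx).range hidx
  -- the layers
  set! D : Subgroup (MulAut (P Q)) := (lin Q).map (Psi Q) with hD
  have hPsi : Function.Surjective (Psi Q) := hsurj
  have hDn : D.Normal := Subgroup.Normal.map inferInstance _ hPsi
  have hID : Inn (P Q) ≤ D := by
    rintro _ ⟨x, rfl⟩
    have hob_ := QuotientGroup.mk_surjective x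
    obtain ⟨h, rfl⟩ := hob_
    refine ⟨H208.Parity.ofO h.1 (E_le_O h.2), ?_, H628.ZOutOrth.psi_ofO_E (E_le_O h.2) h.2⟩
    exact H208.ConjSS.lin_ofO
  have hAD : ∀ φ ψ : MulAut (P Q), φ * ψ * φ⁻¹ * ψ⁻¹ ∈ D := by
    intro φ ψ
    have hob_ := hPsi φ
    obtain ⟨M, rfl⟩ := hob_
    have hob_ := hPsi ψ
    obtain ⟨N, rfl⟩ := hob_
    exact ⟨M * N * M⁻¹ * N⁻¹, comm_mem_lin M N, by simp only [_root_.map_mul, _root_.map_inv]⟩
  have hD4 : ∀ δ ∈ D, δ ^ 4 ∈ Inn (P Q) := by
    rintro _ ⟨M, ⟨c, hc⟩, rfl⟩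
    have hob_ := H628.ZOutOrth.inner_gam hG (M := M) hc
    obtain ⟨g, hg⟩ := hob_
    exact ⟨g, hg.symm⟩
  have hsol : Group.IsSolvable (Out (P Q)) := by
    have hn : (D.map (QuotientGroup.mk' (Inn (P Q)))).Normal :=
      Subgroup.Normal.map hDn _ (QuotientGroup.mk'_surjective _)
    refine solvable_of (D.map (QuotientGroup.mk' (Inn (P Q)))) ?_ ?_
    · rintro _ ⟨δ, hδ, rfl⟩
      rw [← map_pow]
      exact (QuotientGroup.eq_one_iff _).2 (hD4 δ hδ)
    · intro a b
      have hob_ := QuotientGroup.mk'_surjective _ a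
      obtain ⟨a, rfl⟩ := hob_
      have hob_ := QuotientGroup.mk'_surjective _ b
      obtain ⟨b, rfl⟩ := hob_
      exact ⟨a * b * a⁻¹ * b⁻¹, hAD a b, by simp only [_root_.QuotientGroup.mk'_apply, _root_.QuotientGroup.mk_mul, _root_.QuotientGroup.mk_inv]⟩
  refine autOdd_of_layers hsol P₀ (fixingSubgroup (MulAut (P Q)) (P₀ : Set (P Q))) D
    (fun φ hφ x hx => (mem_fixingSubgroup_iff _).1 hφ x hx) hID hAD ?_
    (Or.inl fun δ hδ => ⟨2, hD4 δ hδ⟩)
  intro φ
  have hob_ := hPsi φ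
  obtain ⟨M, rfl⟩ := hob_
  have hob_ := M.2
  obtain ⟨σ, hσ⟩ := hob_
  have hob_ := hgal σ
  obtain ⟨n, hn⟩ := hob_
  refine ⟨n, ?_⟩
  have hF := hfix _ hn
  have h1 : M ^ 2 ^ n = (M ^ 2 ^ n * (frobG hF)⁻¹) * frobG hF := by group
  (simp only [← map_pow]; simp +singlePass only [h1]; simp +singlePass only [map_mul])
  refine mul_mem (le_sup_right (α := Subgroup (MulAut (P Q))) ⟨_, ?_, rfl⟩)
    (le_sup_left (α := Subgroup (MulAut (P Q))) ?_)
  · have h2 : ∃ c, IsSS Q (σ ^ 2 ^ n) c (frobG hF).1 := by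
      refine ⟨1, one_ne_zero, fun u v => ?_, fun a v => ?_, fun v => ?_⟩
      · simp only [frobG_apply]
        funext i
        exact map_add _ _ _
      · simp only [frobG_apply]
        funext i
        exact map_mul _ _ _
      · rw [frobG_apply, one_mul]
        exact hF v
    have h3 := ss_mul (ss_pow (M := M) hσ (2 ^ n)) (ss_inv h2)
    rw [mul_inv_cancel] at h3
    exact h3
  · rw [mem_fixingSubgroup_iff]
    intro x hx'
    have hob_ := hP₀ hx'
    obtain ⟨a, rfl⟩ := hob_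
    exact Psi_frob_emb hx hF hn a

theorem autOdd_POmega [Finite F] (hx : _root_.Cfsg.Agent.H185.OrthCent.Ext j Q₀ Q) (hG₀ : Good Q₀) (hG : Good Q)
    (hI : ∀ α : MulAut (POmega F ⇑Q), Ind ⇑Q α)
    (hgal : ∀ σ : F ≃+* F, ∃ n : ℕ, ∀ b, (σ ^ 2 ^ n) (j b) = j b)
    (hfix : ∀ σ : F ≃+* F, (∀ b, σ (j b) = j b) → _root_.Cfsg.Agent.H185.OrthCent.Fix σ Q)
    (hcard : (Nat.card (POmega F ⇑Q)).factorization 2 = (Nat.card (POmega F₀ ⇑Q₀)).factorization 2) :
    AutOdd (POmega F ⇑Q) := by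
  refine (autOdd_P hx hG₀ hG (fun φ => ?_) hgal hfix ?_).of_equiv (pe hG)
  · have hob_ := H198.OrthGamma.exists_pair (hI ((MulAut.congr (pe hG)).symm φ))
    obtain ⟨g, σ, hpair, hi⟩ := hob_
    have hob_ := H208.Dict.exists_isSS hpair
    obtain ⟨c, hc⟩ := hob_
    refine ⟨⟨H208.Dict.perm g σ, σ, c, hc⟩, ?_⟩
    rw [← (H208.Dict.induced_iff hG rfl).1 hi]
    exact (MulAut.congr (pe hG)).apply_symm_apply φ
  · rw [← Nat.card_congr (pe hG).toEquiv, hcard, Nat.card_congr (pe hG₀).toEquiv]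

end Main

end Cfsg.Agent.H241.AO
end

-- part: H241/AO/Num
section
/-!
# The `2`-parts of the orders of the orthogonal groups over `F` and `F₀`, `|F| = |F₀| ^ k`, `k` odd (helper241)

`card_odd`, `card_plus`, `card_minus`.
-/

set_option autoImplicit false

namespace Cfsg.Agent.H241.AO

open Cfsg

/-- `x` and `y` have the same `2`-part -/
def E2 (x y : ℕ) : Prop := ∃ u v : ℕ, Odd u ∧ Odd v ∧ x * u = y * v

theorem E2.refl (x : ℕ) : E2 x x := ⟨1, 1, odd_one, odd_one, rfl⟩

theorem E2.mul {x y x' y' : ℕ} (h : E2 x y) (h' : E2 x' y') : E2 (x * x') (y * y') := by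
  obtain ⟨u, v, hu, hv, e⟩ := h
  obtain ⟨u', v', hu', hv', e'⟩ := h'
  refine ⟨u * u', v * v', hu.mul hu', hv.mul hv', ?_⟩
  calc x * x' * (u * u') = (x * u) * (x' * u') := by ring
    _ = (y * v) * (y' * v') := by rw [e, e']
    _ = y * y' * (v * v') := by ring

theorem E2.prod {κ : Type*} (S : Finset κ) {f g : κ → ℕ} (h : ∀ i ∈ S, E2 (f i) (g i)) :
    E2 (∏ i ∈ S, f i) (∏ i ∈ S, g i) := by
  classical
  induction S using Finset.induction_on with
  | empty => simpa using E2.refl 1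
  | insert i S hi ih =>
    rw [Finset.prod_insert hi, Finset.prod_insert hi]
    exact (h i (Finset.mem_insert_self i S)).mul (ih fun k hk => h k (Finset.mem_insert_of_mem hk))

theorem fac_odd {x : ℕ} (h : Odd x) : x.factorization 2 = 0 :=
  Nat.factorization_eq_zero_of_not_dvd fun h2 => (Nat.not_even_iff_odd.2 h) (even_iff_two_dvd.2 h2)

theorem E2.fac {x y : ℕ} (h : E2 x y) (hx : x ≠ 0) (hy : y ≠ 0) : x.factorization 2 = y.factorization 2 := by
  obtain ⟨u, v, hu, hv, e⟩ := h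
  have h1 : (x * u).factorization 2 = (y * v).factorization 2 := by rw [e]
  rw [Nat.factorization_mul hx hu.pos.ne', Nat.factorization_mul hy hv.pos.ne', Finsupp.add_apply, Finsupp.add_apply,
    fac_odd hu, fac_odd hv, add_zero, add_zero] at h1
  exact h1

theorem pow_sub_aux (c : ℕ) (hc : Even c) (l : ℕ) : ∃ s : ℕ, Odd s ∧ (c + 1) ^ (2 * l + 1) = c * s + 1 := by
  induction l with
  | zero => exact ⟨1, odd_one, by ring⟩
  | succ l ih =>
    obtain ⟨s, hs, e⟩ := ih
    refine ⟨(c + 1) ^ 2 * s + (c + 2), ?_, ?_⟩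
    · exact ((hc.add_one.pow).mul hs).add_even (hc.add even_two)
    · have h1 : (c + 1) ^ (2 * (l + 1) + 1) = (c + 1) ^ 2 * (c + 1) ^ (2 * l + 1) := by ring
      rw [h1, e]
      ring

theorem pow_add_aux (c : ℕ) (hc : Even c) (l : ℕ) : ∃ s : ℕ, Odd s ∧ (c + 1) ^ (2 * l + 1) + 1 = (c + 2) * s := by
  induction l with
  | zero => exact ⟨1, odd_one, by ring⟩
  | succ l ih =>
    obtain ⟨s, hs, e⟩ := ih
    have hs1 : 1 ≤ s := hs.pos
    have hle : c ≤ (c + 1) ^ 2 * s := by nlinarith only [hs1]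
    have h2 : (c + 1) ^ 2 * s - c + c = (c + 1) ^ 2 * s := Nat.sub_add_cancel hle
    refine ⟨(c + 1) ^ 2 * s - c, ?_, ?_⟩
    · have h3 : Odd ((c + 1) ^ 2 * s - c + c) := by rw [h2]; exact (hc.add_one.pow).mul hs
      exact (Nat.odd_add.1 h3).2 hc
    · have h1 : (c + 1) ^ (2 * (l + 1) + 1) + 1 + (c + 2) * c = (c + 1) ^ 2 * ((c + 1) ^ (2 * l + 1) + 1) := by ring
      have h3 : (c + 2) * ((c + 1) ^ 2 * s - c) + (c + 2) * c = (c + 1) ^ 2 * ((c + 1) ^ (2 * l + 1) + 1) := by
        rw [← mul_add, h2, e]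
        ring
      omega

theorem e2_sub {q k : ℕ} (hq : Odd q) (hk : Odd k) (i : ℕ) : E2 ((q ^ k) ^ i - 1) (q ^ i - 1) := by
  obtain ⟨l, rfl⟩ := hk
  obtain ⟨c, hc⟩ := Nat.exists_eq_add_of_le' (hq.pow (n := i)).pos
  have hce : Even c := by
    have h1 : Odd (c + 1) := hc ▸ hq.pow
    exact Nat.not_odd_iff_even.1 fun h2 => (Nat.not_even_iff_odd.2 h1) h2.add_one
  obtain ⟨s, hs, e⟩ := pow_sub_aux c hce l
  refine ⟨1, s, odd_one, hs, ?_⟩
  rw [← pow_mul, mul_comm _ i, pow_mul, hc, e, mul_one, Nat.add_sub_cancel, Nat.add_sub_cancel]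

theorem e2_add {q k : ℕ} (hq : Odd q) (hk : Odd k) (i : ℕ) : E2 ((q ^ k) ^ i + 1) (q ^ i + 1) := by
  obtain ⟨l, rfl⟩ := hk
  obtain ⟨c, hc⟩ := Nat.exists_eq_add_of_le' (hq.pow (n := i)).pos
  have hce : Even c := by
    have h1 : Odd (c + 1) := hc ▸ hq.pow
    exact Nat.not_odd_iff_even.1 fun h2 => (Nat.not_even_iff_odd.2 h1) h2.add_one
  obtain ⟨s, hs, e⟩ := pow_add_aux c hce l
  refine ⟨1, s, odd_one, hs, ?_⟩
  rw [← pow_mul, mul_comm _ i, pow_mul, hc, e, mul_one]

theorem e2_prod {q k : ℕ} (hq : Odd q) (hk : Odd k) (n : ℕ) :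
    E2 (∏ i ∈ Finset.range n, ((q ^ k) ^ (2 * (i + 1)) - 1)) (∏ i ∈ Finset.range n, (q ^ (2 * (i + 1)) - 1)) :=
  E2.prod _ fun i _ => e2_sub hq hk _

/-- odd powers modulo `4` -/
theorem pow_mod_four {q k : ℕ} (hq : Odd q) (hk : Odd k) (m : ℕ) : (q ^ k) ^ m ≡ q ^ m [MOD 4] := by
  obtain ⟨l, rfl⟩ := hk
  have h1 : q ^ 2 ≡ 1 [MOD 4] := by
    obtain ⟨c, rfl⟩ := hq
    have : (2 * c + 1) ^ 2 = 1 + 4 * (c ^ 2 + c) := by ring
    rw [this]
    exact (Nat.modEq_iff_dvd' (Nat.le_add_right _ _)).2 ⟨c ^ 2 + c, by omega⟩ |>.symm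
  refine Nat.ModEq.pow m ?_
  rw [pow_succ, pow_mul]
  have h2 := (h1.pow l).mul_right q
  rwa [one_pow, one_mul] at h2

theorem gcd_add {q k : ℕ} (hq : Odd q) (hk : Odd k) (m : ℕ) :
    Nat.gcd 4 ((q ^ k) ^ m + 1) = Nat.gcd 4 (q ^ m + 1) := by
  rw [Nat.gcd_comm, Nat.gcd_comm 4]
  exact ((pow_mod_four hq hk m).add_right 1).gcd_eq

theorem num2 {q q' N D c c₀ P P' : ℕ} (hq : Odd q) (hq' : Odd q') (hP : E2 P' P) (hP0 : P ≠ 0) (hP0' : P' ≠ 0)
    (hD : D ≠ 0) (h : D * c = q' ^ N * P') (h₀ : D * c₀ = q ^ N * P) : c.factorization 2 = c₀.factorization 2 := by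
  have e1 : q' ^ N ≠ 0 := (hq'.pow).pos.ne'
  have e2 : q ^ N ≠ 0 := (hq.pow).pos.ne'
  have hc : c ≠ 0 := by
    rintro rfl
    rw [mul_zero] at h
    exact mul_ne_zero e1 hP0' h.symm
  have hc₀ : c₀ ≠ 0 := by
    rintro rfl
    rw [mul_zero] at h₀
    exact mul_ne_zero e2 hP0 h₀.symm
  have h1 : (D * c).factorization 2 = (q' ^ N * P').factorization 2 := by rw [h]
  have h2 : (D * c₀).factorization 2 = (q ^ N * P).factorization 2 := by rw [h₀]
  rw [Nat.factorization_mul hD hc, Nat.factorization_mul e1 hP0', Finsupp.add_apply, Finsupp.add_apply,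
    fac_odd hq'.pow, hP.fac hP0' hP0] at h1
  rw [Nat.factorization_mul hD hc₀, Nat.factorization_mul e2 hP0, Finsupp.add_apply, Finsupp.add_apply,
    fac_odd hq.pow] at h2
  omega

theorem prod_ne {q : ℕ} (hq : 3 ≤ q) (n : ℕ) : ∏ i ∈ Finset.range n, (q ^ (2 * (i + 1)) - 1) ≠ 0 := by
  refine Finset.prod_ne_zero_iff.2 fun i _ => ?_
  have : 1 < q ^ (2 * (i + 1)) := Nat.one_lt_pow (by omega) (by omega)
  omega

section

variable {F F₀ : Type*} [Field F] [Fintype F] [Field F₀] [Fintype F₀] {k : ℕ}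

theorem three_le (h : Odd (Fintype.card F₀)) : 3 ≤ Fintype.card F₀ := by
  have h1 : 1 < Fintype.card F₀ := Fintype.one_lt_card
  obtain ⟨c, hc⟩ := h
  omega

theorem card_minus (hq : Odd (Fintype.card F₀)) (hk : Odd k) (hF : Fintype.card F = Fintype.card F₀ ^ k) {m : ℕ}
    (hm : 3 ≤ m) {a b : F} {a₀ b₀ : F₀}
    (hab : ∀ z₁ z₂ : F, z₁ ^ 2 + a * z₁ * z₂ + b * z₂ ^ 2 = 0 → z₁ = 0 ∧ z₂ = 0)
    (hab₀ : ∀ z₁ z₂ : F₀, z₁ ^ 2 + a₀ * z₁ * z₂ + b₀ * z₂ ^ 2 = 0 → z₁ = 0 ∧ z₂ = 0) :
    (Nat.card (POmega F (quadFormMinus m F a b))).factorization 2 =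
      (Nat.card (POmega F₀ (quadFormMinus m F₀ a₀ b₀))).factorization 2 := by
  have hq' : Odd (Fintype.card F) := hF ▸ hq.pow
  have h1 := Cfsg.Agent.S0294.result (F := F) rfl (m + 1) (by omega) a b hab
  have h2 := Cfsg.Agent.S0294.result (F := F₀) rfl (m + 1) (by omega) a₀ b₀ hab₀
  rw [mul_assoc (_ ^ _), Nat.add_sub_cancel] at h1 h2
  refine num2 hq hq' ?_ (mul_ne_zero (Nat.succ_ne_zero (Fintype.card F₀ ^ (m + 1))) (prod_ne (three_le hq) m))
    (mul_ne_zero (Nat.succ_ne_zero (Fintype.card F ^ (m + 1))) (prod_ne (three_le hq') m)) ?_ h1 ?_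
  · rw [hF]
    exact (e2_add hq hk (m + 1)).mul (e2_prod hq hk _)
  · exact Nat.gcd_ne_zero_left (by norm_num)
  · rw [hF, gcd_add hq hk]
    exact h2

end

end Cfsg.Agent.H241.AO
end

-- part: H241/AO/Minus
section
/-!
# `AutOdd` for the orthogonal groups of minus type (helper241)

`autOdd_oMinus`.
-/

set_option autoImplicit false
set_option linter.unusedSectionVars false

namespace Cfsg.Agent.H241.AO

open Cfsg Matrix QuadraticMap Cfsg.Agent.LieClassical.OrthCore Cfsg.Agent.LieClassical.OrthTrans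
  Cfsg.Agent.ClassicalGeometry.OrthSemi Cfsg.Agent.ClassicalGeometry.OrthAut1
  Cfsg.Agent.AutOrth.SemiSim Cfsg.Agent.H198.OrthFrame Cfsg.Agent.H185.OrthCent Cfsg.Agent.H185.ExtKappa
  Cfsg.Agent.H208.ExtE Cfsg.Agent.H208.FixPt Cfsg.Agent.AutOrth.Main Cfsg.Agent.H208.FixGood
open Cfsg.Agent.H561.RV
open Cfsg.Agent.H966.Frob Cfsg.Agent.H208.Frame
open Cfsg.Agent.LieClassical.QuadForms

section Field

variable {F : Type*} [Field F] [Fintype F]

/-- automorphisms in `⟨σ₀⟩` fix the elements of `fix σ₀` -/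
theorem fix_of_mem {σ₀ τ : F ≃+* F} (h : τ ∈ Subgroup.zpowers σ₀) {a : F} (ha : σ₀ a = a) : τ a = a := by
  have hfin : Finite (F ≃+* F) :=
    Finite.of_injective (fun e : F ≃+* F => (e : F → F)) (fun a b h => RingEquiv.ext (congrFun h))
  obtain ⟨n, rfl⟩ := mem_powers_iff_mem_zpowers.2 h
  clear h
  dsimp only
  induction n with
  | zero => rfl
  | succ n ih =>
    rw [pow_succ, RingAut.mul_apply, ha]
    exact ih

theorem hgal_of {σ₀ : F ≃+* F} (h : ∀ σ : F ≃+* F, ∃ n : ℕ, σ ^ 2 ^ n ∈ Subgroup.zpowers σ₀) (σ : F ≃+* F) :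
    ∃ n : ℕ, ∀ b : fix σ₀, (σ ^ 2 ^ n) ((fix σ₀).subtype b) = (fix σ₀).subtype b := by
  obtain ⟨n, hn⟩ := h σ
  exact ⟨n, fun b => fix_of_mem hn b.2⟩

theorem card_of {σ₀ : F ≃+* F} [Fintype (fix σ₀)] : Fintype.card F = Fintype.card (fix σ₀) ^ orderOf σ₀ := by
  have h := H202.Descent.card_fixed (F := F) (σ := σ₀) rfl
  rw [← Nat.card_eq_fintype_card, ← Nat.card_eq_fintype_card]
  exact h

theorem odd_of {σ₀ : F ≃+* F} [Fintype (fix σ₀)] (hodd : Odd (Fintype.card F)) : Odd (Fintype.card (fix σ₀)) := by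
  have hfin : Finite (F ≃+* F) :=
    Finite.of_injective (fun e : F ≃+* F => (e : F → F)) (fun a b h => RingEquiv.ext (congrFun h))
  rw [card_of (σ₀ := σ₀)] at hodd
  exact Odd.of_dvd_nat hodd (dvd_pow_self _ (orderOf_pos σ₀).ne')

theorem exists_aniso {K : Type*} [Field K] [Fintype K] (hodd : Odd (Fintype.card K)) :
    ∃ a b : K, ∀ z₁ z₂ : K, z₁ ^ 2 + a * z₁ * z₂ + b * z₂ ^ 2 = 0 → z₁ = 0 ∧ z₂ = 0 := by
  have h2 : ringChar K ≠ 2 := by
    intro h
    have := FiniteField.even_card_of_char_two h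
    rw [Nat.odd_iff] at hodd
    omega
  obtain ⟨s, hs⟩ := FiniteField.exists_nonsquare h2
  refine ⟨0, -s, fun z₁ z₂ h => ?_⟩
  have h0 : z₂ = 0 := by
    by_contra h0
    apply hs
    refine ⟨z₁ / z₂, ?_⟩
    field_simp
    linear_combination -h
  subst h0
  refine ⟨?_, rfl⟩
  have h1 : z₁ ^ 2 = 0 := by linear_combination h
  exact pow_eq_zero_iff (two_ne_zero) |>.1 h1

end Field

/-- the minus type with coefficients in the fixed field of the odd part of the Galois group -/
theorem autOdd_minus_fix {F : Type*} [Field F] [Fintype F] (hodd : Odd (Fintype.card F)) {m : ℕ} (hm : 3 ≤ m)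
    {σ₀ : F ≃+* F} (ho : Odd (orderOf σ₀)) (hσ : ∀ σ : F ≃+* F, ∃ n : ℕ, σ ^ 2 ^ n ∈ Subgroup.zpowers σ₀)
    {a₀ b₀ : fix σ₀}
    (hab₀ : ∀ z₁ z₂ : fix σ₀, z₁ ^ 2 + a₀ * z₁ * z₂ + b₀ * z₂ ^ 2 = 0 → z₁ = 0 ∧ z₂ = 0)
    (hab : ∀ z₁ z₂ : F, z₁ ^ 2 + (a₀ : F) * z₁ * z₂ + (b₀ : F) * z₂ ^ 2 = 0 → z₁ = 0 ∧ z₂ = 0) :
    AutOdd (POmega F (quadFormMinus m F (a₀ : F) (b₀ : F))) := by
  classical
  have : Fintype (fix σ₀) := Fintype.ofFinite _
  have hx : _root_.Cfsg.Agent.H185.OrthCent.Ext (fix σ₀).subtype (minusForm m (fix σ₀) a₀ b₀) (minusForm m F (a₀ : F) (b₀ : F)) := ⟨fun v => by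
    rw [coe_minusForm, coe_minusForm]
    exact (coe_minus (fix σ₀) m a₀ b₀ v).symm⟩
  have hI := all_minus hm hab
  have hc := card_minus (odd_of (σ₀ := σ₀) hodd) ho (card_of (σ₀ := σ₀)) hm hab hab₀
  rw [← coe_minusForm] at hI hc ⊢
  rw [← coe_minusForm] at hc
  refine autOdd_POmega hx (good_minus (by omega) hab₀) (good_minus (by omega) hab) hI (hgal_of hσ) ?_ hc
  intro σ hb v
  have ha : σ (a₀ : F) = a₀ := hb a₀
  have hb' : σ (b₀ : F) = b₀ := hb b₀
  rw [coe_minusForm]
  unfold Cfsg.quadFormMinus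
  simp only [_root_.RingEquiv.map_add, _root_.RingEquiv.map_sum, _root_.RingEquiv.map_mul, _root_.RingEquiv.map_pow, ha, hb']

/-- **`AutOdd` for the orthogonal groups of minus type** -/
theorem autOdd_oMinus {F : Type*} [Field F] [Fintype F] (hodd : Odd (Fintype.card F)) {m : ℕ} (hm : 3 ≤ m) (a b : F)
    (hab : ∀ z₁ z₂ : F, z₁ ^ 2 + a * z₁ * z₂ + b * z₂ ^ 2 = 0 → z₁ = 0 ∧ z₂ = 0) :
    AutOdd (POmega F (quadFormMinus m F a b)) := by
  classical
  obtain ⟨σ₀, ho, hσ⟩ := exists_sigma F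
  have : Fintype (fix σ₀) := Fintype.ofFinite _
  obtain ⟨a₀, b₀, hab₀⟩ := exists_aniso (odd_of (σ₀ := σ₀) hodd)
  have han : ∀ z₁ z₂ : F, z₁ ^ 2 + (a₀ : F) * z₁ * z₂ + (b₀ : F) * z₂ ^ 2 = 0 → z₁ = 0 ∧ z₂ = 0 := by
    refine H885.FC.Orth.aniso_of_fix rfl ho a₀.2 b₀.2 fun z₁ z₂ h1 h2 h => ?_
    have h3 := hab₀ ⟨z₁, h1⟩ ⟨z₂, h2⟩ (Subtype.ext h)
    exact ⟨congrArg Subtype.val h3.1, congrArg Subtype.val h3.2⟩
  have h := autOdd_minus_fix hodd hm ho hσ hab₀ han
  obtain ⟨s, t, ht, h1, h2⟩ := H902.Binary.exists_change hab han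
  -- the change of coordinates
  have hdet : (Matrix.fromBlocks 1 0 0 !![1, s; 0, t] :
      Matrix ((Fin m ⊕ Fin m) ⊕ Fin 2) ((Fin m ⊕ Fin m) ⊕ Fin 2) F).det ≠ 0 := by
    rw [Matrix.det_fromBlocks_zero₂₁, Matrix.det_one, one_mul, Matrix.det_fin_two_of]
    simpa using ht
  have e := ClassicalGeometry.OddInvolutions.pomega_congr (quadFormMinus m F a b)
    (Matrix.GeneralLinearGroup.mkOfDetNeZero _ hdet)
  have h3 : (fun v => quadFormMinus m F a b
      ((Matrix.GeneralLinearGroup.mkOfDetNeZero (Matrix.fromBlocks 1 0 0 !![1, s; 0, t]) hdet :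
        GL ((Fin m ⊕ Fin m) ⊕ Fin 2) F) *ᵥ v)) = quadFormMinus m F (a₀ : F) (b₀ : F) := by
    funext v
    change quadFormMinus m F a b (Matrix.fromBlocks 1 0 0 !![1, s; 0, t] *ᵥ v) = _
    rw [Matrix.fromBlocks_mulVec]
    unfold quadFormMinus
    simp only [Sum.elim_inl, Sum.elim_inr, Matrix.one_mulVec, Matrix.zero_mulVec, add_zero,
      zero_add, Function.comp_apply, Matrix.mulVec, dotProduct, Fin.sum_univ_two, Matrix.of_apply, Matrix.cons_val_zero,
      Matrix.cons_val_one, Matrix.cons_val', Matrix.cons_val_fin_one]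
    rw [← h1, ← h2]
    ring
  rw [h3] at e
  obtain ⟨f⟩ := e
  exact AutOdd.of_equiv f.symm h

end Cfsg.Agent.H241.AO
end

private theorem dce_610b67f6241e : _root_.True := by
  try have : _root_.True := by simp only [_root_.Cfsg.Agent.H89.RV.bs.eq_1]
  try have : _root_.True := by simp only [_root_.Cfsg.Agent.H89.RV.vs.eq_1]
  exact _root_.True.intro
end

section
prune_inst 0xf3fdff9ff89fffffff7e7ffedcdffd9af4dfffefdff9cbbff8a1efa7df630a51c56b8d9de048fe0ee262b420b87813fdfffeffe86bfc7ffffd5ff45ffbee5fe5ffbd0851d280240fbc6fff93f077ce7f000000000000000000000000000000004200000000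

-- part: H808/RV/FEmb_mg
section
prune_inst 0x400000000000000000000002000000000000000000000000800000000000000000000001000008000040020000000000000000000000000000000000000000000000000000000000000000000000000000000000000000000000000000000000
set_option linter.all false
open scoped Cfsg.Agent.FastGrp

-- part: H808/RV/FEmb
section
/-!
# Frames of fundamental subgroups and Lemma A (helper808, TEAM RV)

`HasFrameA p S` : for every Sylow 2-subgroup `P` of `S` a frame such that the involutions of the frame centralise the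
`P`-invariant subgroups of odd order prime to `p`; `frameA_f4`, `frameA_e6`, `frameA_tw`, `frameA_e7`, `frameA_e8`.
-/

set_option autoImplicit false
set_option linter.unusedSectionVars false

namespace Cfsg.Agent.H808.RV

open Subgroup Cfsg Cfsg.Lie Cfsg.Lie.ChevalleyDatum Cfsg.Agent.ChevalleyStructure
  Cfsg.Agent.ChevalleyStructure.Elts Cfsg.Agent.ChevalleyStructure.CoxeterGeom Cfsg.Agent.Nodes.RGDChev
open Cfsg.Agent.Nodes.RGDFoldSL (wS hS coe_wS coe_hS psi psi_up psi_lo psi_hS map_up map_lo map_hS)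
open Cfsg.Agent.ChevalleyStructure.SL2Hom (up lo mem_closure_SL2)
open Cfsg.Agent.GpExc.Field (glMap glMap_xG glMap_mem glMap_injective)
open Cfsg.Agent.H167.EX (ph coe_ph SL)
open Cfsg.Agent.H563.RV.LemA (pz pz_lt Tab Ort Dist lemA_hom_single)
open Cfsg.Agent.BpExc.TowChev (LocFin)

universe u v w

theorem glMap_psi {D : ChevalleyDatum} (hD : InList D) {K : Type u} [Field K] {k : Type w} [Field k] (fK : K →+* k)
    {r : ℕ} (hr : r < D.nroots) (A : Matrix.SpecialLinearGroup (Fin 2) K) :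
    glMap D fK (psi hD K r A) = psi hD k r (Matrix.SpecialLinearGroup.map fK A) := by
  have h5 : A ∈ ((glMap D fK).comp (psi hD K r)).eqLocus ((psi hD k r).comp (Matrix.SpecialLinearGroup.map fK)) := by
    refine (Subgroup.closure_le _).2 ?_ (mem_closure_SL2 A)
    rintro _ (⟨t, rfl⟩ | ⟨t, rfl⟩)
    · show glMap D fK (psi hD K r (up t)) = psi hD k r (Matrix.SpecialLinearGroup.map fK (up t))
      rw [map_up, psi_up hD hr, psi_up hD hr, glMap_xG]
    · show glMap D fK (psi hD K r (lo t)) = psi hD k r (Matrix.SpecialLinearGroup.map fK (lo t))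
      rw [map_lo, psi_lo hD hr, psi_lo hD hr, glMap_xG]
  exact h5

/-- Frames for every Sylow 2-subgroup, with Lemma A -/
def HasFrameA (p : ℕ) (S : Type v) [Group S] : Prop :=
  ∀ P : Sylow 2 S, ∃ (ι : Type) (_ : Finite ι) (_ : Nonempty ι) (L : ι → Subgroup S) (z : ι → S),
    FrameD (P : Subgroup S) L z ∧ Rel z ∧ ∀ R : Subgroup S, Odd (Nat.card R) → ¬ p ∣ Nat.card R →
      (∀ x ∈ P, ∀ r ∈ R, x * r * x⁻¹ ∈ R) → ∀ i, ∀ r ∈ R, z i * r = r * z i

section Main

variable {D : ChevalleyDatum} {l : ℕ} {M : CoxeterMatrix (Fin l)} (hp : IsType D l M) {K : Type u} [Field K]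

theorem frame_emb [Finite K] {p : ℕ} [hpp : Fact p.Prime] [hpK : CharP K p] (hp5 : 5 ≤ p) {E : Subfield K} {F : List ℕ}
    {Sub : List (List ℕ)} (T : Tabs D l F Sub) (hF0 : F ≠ [])
    (hfix : ∀ n : ↥(D.monomialSubgroup K), (∀ r (hr : r ∈ F), NPerm.permHom hp.inList K n ⟨r, T.lt r hr⟩ = ⟨r, T.lt r hr⟩) →
      NPerm.permHom hp.inList K n = 1)
    {S : Type v} [Group S] [Finite S] {f : S →* GL D.Idx K} (hf : Function.Injective f) (hfG : ∀ x, f x ∈ D.group K)
    (hmem : ∀ r ∈ F, ∀ t ∈ E, xG hp.inList r t ∈ f.range ∧ xG hp.inList (D.neg r) t ∈ f.range)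
    (hE : ∀ r ∈ F, ∀ A, psi hp.inList K r A ∈ f.range → psi hp.inList K r A ∈ (jE hp.inList E r).range)
    (hDist : _root_.Cfsg.Agent.H563.RV.LemA.Dist D) (TA : Tab D (F.map fun a => [a])) (hO : Ort hp (k := AlgebraicClosure K) F) : HasFrameA p S := by
  intro P
  have := Fintype.ofFinite K
  have hD := hp.inList
  obtain ⟨p', e, hp', hpF', hpk', -, -, hk⟩ := Cfsg.Agent.H129.TorusUntw.exists_closure (F := K) rfl
  have hpe : p' = p := CharP.eq K hpF' hpK
  subst hpe
  have h2 : (2 : K) ≠ 0 := two_ne hp5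
  have hcE : 5 ≤ Nat.card E := by
    have : CharP E p' := RingHom.charP E.subtype E.subtype_injective p'
    exact hp5.trans (card_field hpp.out)
  have h4 : 4 ≤ Nat.card E := by omega
  obtain ⟨L, z, hfr, hrel, g, hg⟩ := main_frame' hp h2 hcE T hfix hf hfG hmem hE P
  refine ⟨{r // r ∈ F}, inferInstance, ?_, L, z, hfr, hrel, ?_⟩
  · obtain ⟨a, F', rfl⟩ := List.exists_cons_of_ne_nil hF0
    exact ⟨⟨a, List.mem_cons_self⟩⟩
  intro R hRodd hRp hPR
  let k := AlgebraicClosure K
  let fK : K →+* k := algebraMap K k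
  let φ : S →* ↥(D.group k) := ((glMap D fK).comp f).codRestrict (D.group k) fun x => glMap_mem hD fK (hfG x)
  have hφ : Function.Injective φ := fun a b h => hf (glMap_injective D fK (congrArg Subtype.val h))
  have hcoe : ∀ x, ((φ x : ↥(D.group k)) : GL D.Idx k) = glMap D fK (f x) := fun _ => rfl
  choose y hyP hyz using hfr.sq
  choose B hB using fun r : {r // r ∈ F} => hg r (y r) (hyP r).2
  have h2E : (2 : E) ≠ 0 := by
    intro h
    apply h2
    have h0 := congrArg E.subtype h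
    rwa [map_ofNat, map_zero] at h0
  have hj : ∀ r ∈ F, Function.Injective (jE hD E r) := by
    intro r hr
    obtain ⟨j, hj⟩ := tabZ_spec hp T.Z hr
    have h4K : 4 ≤ Nat.card K := h4.trans (Nat.card_le_card_of_injective _ E.subtype_injective)
    exact (psi_injective hD h2 h4K (T.lt r hr) (NPerm.simple_lt hD (Nodes.RGDChev.lt_rank hp j)) hj).comp
      (map_injective E)
  have hBB : ∀ r, B r * B r = hS (-1) := by
    intro r
    have e1 : f (z r) = f g * jE hD E r (B r * B r) * (f g)⁻¹ := by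
      rw [← hyz r, map_mul, hB r, map_mul]
      group
    have hz1 := (hfr.fund r).ne_one
    have hzz := (hfr.fund r).sq
    apply eq_hS h2E
    · apply hj r r.2
      have e2 : f (z r * z r) = f g * jE hD E r ((B r * B r) * (B r * B r)) * (f g)⁻¹ := by
        rw [map_mul, e1, map_mul (jE hD E r) (B r * B r)]
        group
      rw [hzz, map_one] at e2
      have e3 : jE hD E r (B r * B r * (B r * B r)) = (f g)⁻¹ * (f g * jE hD E r (B r * B r * (B r * B r)) * (f g)⁻¹) * f g := by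
        group
      rw [e3, ← e2, map_one]
      group
    · intro h
      apply hz1
      apply hf
      rw [e1, h, map_one, map_one]
      group
  classical
  let y' : ℕ → S := fun a => if h : a ∈ F then y ⟨a, h⟩ else 1
  let A : ℕ → SL k := fun a => if h : a ∈ F then
    Matrix.SpecialLinearGroup.map fK (Matrix.SpecialLinearGroup.map E.subtype (B ⟨a, h⟩)) else 1
  have hy' : ∀ a (h : a ∈ F), y' a = y ⟨a, h⟩ := fun a h => dif_pos h
  have hA' : ∀ a (h : a ∈ F), A a =
    Matrix.SpecialLinearGroup.map fK (Matrix.SpecialLinearGroup.map E.subtype (B ⟨a, h⟩)) := fun a h => dif_pos h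
  have key := lemA_hom_single hp (k := k) p' hp5 hk hDist TA hO (A := A) (by
      intro a ha
      rw [hA' a ha, ← map_mul, ← map_mul, hBB, map_hS, map_hS, map_neg, map_one, map_neg, map_one])
    hφ (g := φ g) (y := y') (by
      intro a ha
      rw [hy' a ha, hA' a ha, pz_lt hp (T.lt a ha)]
      apply Subtype.ext
      rw [hcoe, hB]
      rw [map_mul, map_mul, map_inv]
      show _ = glMap D fK (f g) * psi hD k a _ * (glMap D fK (f g))⁻¹
      rw [← glMap_psi hD fK (T.lt a ha)]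
      rfl) (R := R) hRodd hRp (by
      intro a ha x hx
      rw [hy' a ha]
      exact hPR _ (hyP ⟨a, ha⟩).1 x hx)
  intro i r hr
  have h6 := key i i.2 r hr
  rw [hy' i i.2, hyz] at h6
  exact h6

end Main

section Rows

variable {S : Type v} [Group S] [Finite S]

/-- the untwisted groups -/
theorem frameA_untw {D : ChevalleyDatum} {l : ℕ} {M : CoxeterMatrix (Fin l)} (hT : IsType D l M) {K : Type u} [Field K]
    [Finite K] {p : ℕ} [CharP K p] (hp : p.Prime) (h5 : 5 ≤ p) {F : List ℕ} {Sub : List (List ℕ)} (hF : F ≠ [])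
    (T : Tabs D l F Sub)
    (hfix : ∀ n : ↥(D.monomialSubgroup K), (∀ r (hr : r ∈ F), NPerm.permHom hT.inList K n ⟨r, T.lt r hr⟩ = ⟨r, T.lt r hr⟩) →
      NPerm.permHom hT.inList K n = 1)
    (hDist : _root_.Cfsg.Agent.H563.RV.LemA.Dist D) (TA : Tab D (F.map fun a => [a])) (hO : Ort hT (k := AlgebraicClosure K) F)
    (hS : Nonempty (S ≃* D.group K)) : HasFrameA p S := by
  have := Fact.mk hp
  obtain ⟨φ⟩ := hS
  have hf : Function.Injective ((D.group K).subtype.comp φ.toMonoidHom) :=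
    (D.group K).subtype_injective.comp φ.injective
  have hrange : ∀ x, x ∈ D.group K → x ∈ ((D.group K).subtype.comp φ.toMonoidHom).range := by
    intro x hx
    exact ⟨φ.symm ⟨x, hx⟩, by simp only [_root_.MulEquiv.toMonoidHom_eq_coe, _root_.MonoidHom.coe_comp, _root_.Subgroup.coe_subtype, _root_.MonoidHom.coe_coe, _root_.Function.comp_apply, _root_.MulEquiv.apply_symm_apply]⟩
  exact frame_emb hT h5 (E := ⊤) T hF hfix hf
    (fun x => (φ x).2) (fun r hr t _ => ⟨hrange _ (xG_mem_group _ _ _), hrange _ (xG_mem_group _ _ _)⟩)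
    (fun r hr A _ => by
      refine ⟨⟨A.1.map fun c => (⟨c, trivial⟩ : (⊤ : Subfield K)), ?_⟩, ?_⟩
      · apply (⊤ : Subfield K).subtype_injective
        have h3 := A.2
        rw [Matrix.det_fin_two] at h3 ⊢
        rw [map_one, map_sub, map_mul, map_mul]
        exact h3
      · show psi _ K r _ = _
        congr 1) hDist TA hO

variable {F : Type u} [Field F] [Finite F] {p : ℕ} [CharP F p]

theorem frameA_f4 (hp : p.Prime) (h5 : 5 ≤ p) (hS : Nonempty (S ≃* chevF4.group F)) : HasFrameA p S :=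
  frameA_untw f4T hp h5 (by decide) tabs_F4 (fix_of_tabR f4T lt_F4 tabR_F4) Cfsg.Agent.H563.RV.LemA.dist_F4
    Cfsg.Agent.H563.RV.LemA.tab_F4 (Cfsg.Agent.H563.RV.LemA.ort_F4 f4T) hS

theorem frameA_e6 (hp : p.Prime) (h5 : 5 ≤ p) (hS : Nonempty (S ≃* chevE6.group F)) : HasFrameA p S :=
  frameA_untw e6T hp h5 (by decide) tabs_E6 (fix_E6 e6T) Cfsg.Agent.H563.RV.LemA.dist_E6
    Cfsg.Agent.H563.RV.LemA.tab_E6 (Cfsg.Agent.H563.RV.LemA.ort_E6 e6T) hS

theorem frameA_e7 (hp : p.Prime) (h5 : 5 ≤ p) (hS : Nonempty (S ≃* chevE7.group F)) : HasFrameA p S :=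
  frameA_untw e7T hp h5 (by decide) tabs_E7 (fix_of_tabR e7T lt_E7 tabR_E7) Cfsg.Agent.H563.RV.LemA.dist_E7
    Cfsg.Agent.H563.RV.LemA.tab_E7 (Cfsg.Agent.H563.RV.LemA.ort_E7 e7T) hS

theorem frameA_e8 (hp : p.Prime) (h5 : 5 ≤ p) (hS : Nonempty (S ≃* chevE8.group F)) : HasFrameA p S :=
  frameA_untw e8T hp h5 (by decide) tabs_E8 (fix_of_tabR e8T lt_E8 tabR_E8) Cfsg.Agent.H563.RV.LemA.dist_E8
    Cfsg.Agent.H563.RV.LemA.tab_E8 (Cfsg.Agent.H563.RV.LemA.ort_E8 e8T) hS

theorem frameA_tw {K : Type u} [Field K] [Fintype K] {p : ℕ} [CharP K p] (hp : p.Prime) (h5 : 5 ≤ p) {q : ℕ}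
    (hq : IsPrimePow q) (hK : Fintype.card K = q ^ 2) (hS : Nonempty (S ≃* twistedE6 K q)) : HasFrameA p S := by
  have := Fact.mk hp
  obtain ⟨ψ⟩ := hS
  obtain ⟨φ, hφ, hqq⟩ := Cfsg.Agent.ChevalleyStructure.TwE6Basic.exists_frob (K := K) hq hK
  have hle : twistedE6 K q ≤ chevE6.group K := by
    rw [Cfsg.Agent.ChevalleyStructure.TwE6Basic.twisted_le_iff]
    exact ⟨fun t _ r _ => xG_mem_group _ _ _, fun t rs _ => mul_mem (xG_mem_group _ _ _) (xG_mem_group _ _ _)⟩
  have hf : Function.Injective ((twistedE6 K q).subtype.comp ψ.toMonoidHom) :=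
    (twistedE6 K q).subtype_injective.comp ψ.injective
  have hrange : ∀ x, x ∈ twistedE6 K q → x ∈ ((twistedE6 K q).subtype.comp ψ.toMonoidHom).range := by
    intro x hx
    exact ⟨ψ.symm ⟨x, hx⟩, by simp only [_root_.MulEquiv.toMonoidHom_eq_coe, _root_.MonoidHom.coe_comp, _root_.Subgroup.coe_subtype, _root_.MonoidHom.coe_coe, _root_.Function.comp_apply, _root_.MulEquiv.apply_symm_apply]⟩
  have hinj : ∀ r ∈ FE6, Function.Injective (psi e6T.inList K r) := by
    intro r hr
    obtain ⟨j, hj⟩ := tabZ_spec e6T tabs_E6.Z hr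
    exact psi_injective e6T.inList (two_ne h5) (by have := card_field (K := K) hp; omega) (lt_E6 r hr)
      (NPerm.simple_lt e6T.inList (Nodes.RGDChev.lt_rank e6T j)) hj
  exact frame_emb e6T h5 (E := Ef φ) tabs_E6 (by decide) (fix_E6 e6T) hf
    (fun x => hle (ψ x).2) (fun r hr t ht => ⟨hrange _ (tw_mem hφ hqq _ hr ht).1, hrange _ (tw_mem hφ hqq _ hr ht).2⟩)
    (fun r hr A hA => tw_fix hφ hqq _ hr (hinj r hr) (by
      obtain ⟨a, ha⟩ := hA
      rw [← ha]
      exact (ψ a).2)) Cfsg.Agent.H563.RV.LemA.dist_E6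
    Cfsg.Agent.H563.RV.LemA.tab_E6 (Cfsg.Agent.H563.RV.LemA.ort_E6 e6T)

end Rows

end Cfsg.Agent.H808.RV
end

-- part: H486/RV/Num
section
/-!
# TEAM RV, AO-PSU (helper486): numbers and field automorphisms of odd order

* `odd_choose` : `C(2^k N, 2^k)` is odd for `N` odd;
* `vv2_add` : the 2-part of `|GU_a × GU_(n-a)|` for `a = 2^(v_2 n)`;
* `card_fixF` : `|F| = |F^σ|^(o(σ))`;
* `exists_odd_aut` : the field automorphisms of odd order of a field with `q²` elements.
-/

set_option autoImplicit false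

namespace Cfsg.Agent.H486.RV

open Cfsg Cfsg.Agent.H751.Big

theorem odd_choose (k : ℕ) {N : ℕ} (hN : Odd N) : Odd ((2 ^ k * N).choose (2 ^ k)) := by
  have : Fact (Nat.Prime 2) := ⟨Nat.prime_two⟩
  induction k with
  | zero => simpa using hN
  | succ k ih =>
    have h := Choose.choose_modEq_choose_mod_mul_choose_div_nat (p := 2) (n := 2 ^ (k + 1) * N) (k := 2 ^ (k + 1))
    have e1 : 2 ^ (k + 1) * N % 2 = 0 := by
      rw [pow_succ, mul_right_comm]; exact Nat.mul_mod_left _ _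
    have e2 : 2 ^ (k + 1) % 2 = 0 := by rw [pow_succ]; exact Nat.mul_mod_left _ _
    have e3 : 2 ^ (k + 1) * N / 2 = 2 ^ k * N := by
      rw [pow_succ, mul_right_comm]; exact Nat.mul_div_cancel _ (by norm_num)
    have e4 : 2 ^ (k + 1) / 2 = 2 ^ k := by
      rw [pow_succ]; exact Nat.mul_div_cancel _ (by norm_num)
    rw [e1, e2, e3, e4, Nat.choose_zero_right, one_mul] at h
    rw [Nat.odd_iff] at ih ⊢
    exact Eq.trans h ih

theorem vv2_add (t : ℕ) {N : ℕ} (hN : Odd N) (x y : ℕ) :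
    vv2 (2 ^ t) x y + vv2 (2 ^ t * N - 2 ^ t) x y = vv2 (2 ^ t * N) x y := by
  have : Fact (Nat.Prime 2) := ⟨Nat.prime_two⟩
  obtain ⟨m, rfl⟩ := hN
  have e : 2 ^ t * (2 * m + 1) - 2 ^ t = 2 ^ t * (2 * m) := by
    rw [Nat.mul_add, mul_one, Nat.add_sub_cancel]
  rw [e]
  unfold vv2
  cases t with
  | zero =>
    have e1 : (2 ^ 0 : ℕ) / 2 = 0 := by norm_num
    have e2 : 2 ^ 0 * (2 * m) / 2 = m := by omega
    have e3 : 2 ^ 0 * (2 * m + 1) / 2 = m := by omega
    rw [e1, e2, e3]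
    simp only [_root_.pow_zero, _root_.one_mul, _root_.MulZeroClass.zero_mul, _root_.add_zero, _root_.Nat.factorial_zero, _root_.padicValNat_one_right]
    ring
  | succ t =>
    have e1 : 2 ^ (t + 1) / 2 = 2 ^ t := by
      rw [pow_succ]; exact Nat.mul_div_cancel _ (by norm_num)
    have e2 : 2 ^ (t + 1) * (2 * m) / 2 = 2 ^ t * (2 * m) := by
      rw [pow_succ, mul_right_comm]; exact Nat.mul_div_cancel _ (by norm_num)
    have e3 : 2 ^ (t + 1) * (2 * m + 1) / 2 = 2 ^ t * (2 * m + 1) := by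
      rw [pow_succ, mul_right_comm]; exact Nat.mul_div_cancel _ (by norm_num)
    rw [e1, e2, e3]
    have hc := odd_choose t (N := 2 * m + 1) ⟨m, rfl⟩
    have hle : 2 ^ t ≤ 2 ^ t * (2 * m + 1) := Nat.le_mul_of_pos_right _ (by omega)
    have h1 := Nat.choose_mul_factorial_mul_factorial hle
    have e4 : 2 ^ t * (2 * m + 1) - 2 ^ t = 2 ^ t * (2 * m) := by
      rw [Nat.mul_add, mul_one, Nat.add_sub_cancel]
    rw [e4] at h1
    have h2 := congrArg (padicValNat 2) h1
    have hcne : (2 ^ t * (2 * m + 1)).choose (2 ^ t) ≠ 0 := hc.pos.ne'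
    rw [padicValNat.mul (mul_ne_zero hcne (Nat.factorial_ne_zero _)) (Nat.factorial_ne_zero _),
      padicValNat.mul hcne (Nat.factorial_ne_zero _),
      padicValNat.eq_zero_of_not_dvd (n := (2 ^ t * (2 * m + 1)).choose (2 ^ t)) (by
        rw [← even_iff_two_dvd, Nat.not_even_iff_odd]; exact hc), zero_add] at h2
    rw [← h2]
    ring

section Field

variable {K : Type*} [Field K]

open Cfsg.Agent.S2677 (fixF mem_fixF)

/-- the degree of the fixed field of an automorphism -/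
theorem card_fixF [Finite K] {m : ℕ} (hm : m ≠ 0) {τ : K ≃+* K} (ho : orderOf τ = m) :
    Nat.card K = Nat.card ↥(fixF τ) ^ m := by
  classical
  let G : Subgroup (K ≃+* K) := Subgroup.zpowers τ
  have hGc : Nat.card ↥G = m := by rw [Nat.card_zpowers, ho]
  have hfin : Finite ↥G := Nat.finite_of_card_ne_zero (by rw [hGc]; exact hm)
  have : Fintype ↥G := Fintype.ofFinite _
  have hff : FaithfulSMul ↥G K := ⟨fun {a b} h => by
    apply Subtype.ext
    ext x
    exact h x⟩
  have h1 := FixedPoints.finrank_eq_card ↥G K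
  rw [← Nat.card_eq_fintype_card, hGc] at h1
  have h2 : FixedPoints.subfield ↥G K = fixF τ := by
    ext a
    rw [mem_fixF]
    constructor
    · intro ha
      exact ha ⟨τ, Subgroup.mem_zpowers τ⟩
    · rintro ha ⟨g, n, rfl⟩
      have h3 : τ ∈ MulAction.stabilizer (K ≃+* K) a := ha
      exact (MulAction.stabilizer (K ≃+* K) a).zpow_mem h3 n
  rw [h2] at h1
  rw [Module.natCard_eq_pow_finrank (K := ↥(fixF τ)) (V := K), h1]

theorem exists_sigma {G : Type*} [Group G] [IsCyclic G] {k m : ℕ} (hG : Nat.card G = 2 ^ k * m) :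
    ∃ σ : G, orderOf σ = m ∧ ∀ ρ : G, ρ ^ 2 ^ k ∈ Subgroup.zpowers σ := by
  obtain ⟨γ, hγ⟩ := IsCyclic.exists_generator (α := G)
  have h1 : orderOf γ = 2 ^ k * m := by
    rw [← hG, orderOf_eq_card_of_forall_mem_zpowers hγ]
  refine ⟨γ ^ 2 ^ k, ?_, fun ρ => ?_⟩
  · rw [orderOf_pow_of_dvd (by positivity) (h1 ▸ dvd_mul_right _ _), h1]
    exact Nat.mul_div_cancel_left m (by positivity)
  · obtain ⟨j, rfl⟩ := hγ ρ
    refine ⟨j, ?_⟩
    change (γ ^ 2 ^ k) ^ j = (γ ^ j) ^ 2 ^ k
    rw [← zpow_natCast, ← zpow_natCast, ← zpow_mul, ← zpow_mul, mul_comm]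

/-- the field automorphisms of odd order of a field with `q ^ 2` elements -/
theorem exists_odd_aut [Fintype K] {q : ℕ} (hK : Fintype.card K = q ^ 2) :
    (∀ ρ ρ' : K ≃+* K, ρ * ρ' = ρ' * ρ) ∧
    ∃ (σ : K ≃+* K) (q₀ m N : ℕ), Odd m ∧ q = q₀ ^ m ∧ Nat.card (fixF σ) = q₀ ^ 2 ∧
      ∀ ρ : K ≃+* K, ρ ^ 2 ^ N ∈ Subgroup.zpowers σ := by
  classical
  obtain ⟨p, hp⟩ := CharP.exists K
  have hpp : Fact p.Prime := ⟨CharP.char_is_prime K p⟩
  obtain ⟨k, -, hk⟩ := FiniteField.card K p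
  have hqd : q ∣ p ^ (k : ℕ) := by rw [← hk, hK]; exact dvd_pow_self q two_ne_zero
  obtain ⟨f, -, hq⟩ := (Nat.dvd_prime_pow hpp.out).1 hqd
  have hkf : (k : ℕ) = 2 * f := by
    rw [hK, hq, ← pow_mul] at hk
    have := Nat.pow_right_injective hpp.out.two_le hk
    omega
  have hf : 1 ≤ f := by have := k.pos; omega
  have hcard : Fintype.card K = p ^ (2 * f) := by rw [hk, hkf]
  obtain ⟨e⟩ := Cfsg.Agent.H183.OutAbs.exists_ringAut_equiv (F := K) (p := p) (f := 2 * f) (by omega) hcard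
  have hcyc : IsCyclic (K ≃+* K) := isCyclic_of_surjective e.symm e.symm.surjective
  refine ⟨fun ρ ρ' => ?_, ?_⟩
  · apply e.injective
    rw [map_mul, map_mul]
    exact mul_comm (e ρ) (e ρ')
  have hcA : Nat.card (K ≃+* K) = 2 * f := Cfsg.Agent.Lib.FieldAutCard.card_ringAut (by omega) hcard
  obtain ⟨s, m, hm, hfm⟩ := Nat.exists_eq_two_pow_mul_odd (n := f) (by omega)
  have hm0 : m ≠ 0 := by rcases hm with ⟨j, hj⟩; omega
  obtain ⟨σ, ho, hσ⟩ := exists_sigma (G := K ≃+* K) (k := s + 1) (m := m) (by rw [hcA, hfm, pow_succ]; ring)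
  refine ⟨σ, p ^ 2 ^ s, m, s + 1, hm, ?_, ?_, hσ⟩
  · rw [hq, hfm, pow_mul]
  · have h1 := card_fixF hm0 ho
    have : Fintype (fixF σ) := Fintype.ofFinite _
    have : CharP (fixF σ) p := (CharP.charP_iff_prime_eq_zero hpp.out).2 (by
      apply Subtype.ext
      push_cast
      exact CharP.cast_eq_zero K p)
    obtain ⟨j, -, hj⟩ := FiniteField.card (fixF σ) p
    rw [Nat.card_eq_fintype_card, Nat.card_eq_fintype_card, hj, hcard, ← pow_mul] at h1
    have h2 := Nat.pow_right_injective hpp.out.two_le h1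
    rw [Nat.card_eq_fintype_card, hj, ← pow_mul]
    congr 1
    have h3 : (j : ℕ) * m = 2 ^ s * 2 * m := by
      rw [← h2, hfm]; ring
    exact Nat.eq_of_mul_eq_mul_right (Nat.pos_of_ne_zero hm0) h3

end Field

end Cfsg.Agent.H486.RV
end

-- part: H486/RV/Blk
section
/-!
# TEAM RV, AO-PSU (helper486): block diagonal unitary matrices over the fixed field

* `blk` : `GU_a × GU_b → GU_n`, `a + b = n`;
* `exists_Y` : the subgroup of `GU_n(F)` of the matrices with entries in the fixed field commuting with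
  `diag(1,...,1,-1,...,-1)` has odd index, if `a = 2^t`, `n = a N`, `N` odd.
-/

set_option autoImplicit false

namespace Cfsg.Agent.H486.RV

open Cfsg Cfsg.Agent.H751.Big Matrix
open Cfsg.Agent.S2677 (fixF mem_fixF mem_GU mem_GU_map pow_fix)

section Blk

variable {K : Type*} [Field K] {q a b n : ℕ}

/-- the index of the blocks -/
def blkE (h : a + b = n) : Fin a ⊕ Fin b ≃ Fin n := finSumFinEquiv.trans (finCongr h)

theorem blkE_inl (h : a + b = n) (i : Fin a) : ((blkE h (Sum.inl i) : Fin n) : ℕ) = i := by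
  simp [blkE]

theorem blkE_inr (h : a + b = n) (i : Fin b) : ((blkE h (Sum.inr i) : Fin n) : ℕ) = a + i := by
  simp [blkE]

/-- block diagonal matrices -/
def blkM (h : a + b = n) (A : Matrix (Fin a) (Fin a) K) (B : Matrix (Fin b) (Fin b) K) : Matrix (Fin n) (Fin n) K :=
  (fromBlocks A 0 0 B).submatrix (blkE h).symm (blkE h).symm

theorem blkM_mul (h : a + b = n) (A A' : Matrix (Fin a) (Fin a) K) (B B' : Matrix (Fin b) (Fin b) K) :
    blkM h A B * blkM h A' B' = blkM h (A * A') (B * B') := by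
  rw [blkM, blkM, submatrix_mul_equiv, fromBlocks_multiply, blkM]
  simp only [_root_.Matrix.mul_zero, _root_.add_zero, _root_.Matrix.zero_mul, _root_.zero_add]

theorem blkM_one (h : a + b = n) : blkM h (1 : Matrix (Fin a) (Fin a) K) (1 : Matrix (Fin b) (Fin b) K) = 1 := by
  rw [blkM, fromBlocks_one, submatrix_one_equiv]

theorem blkM_transpose (h : a + b = n) (A : Matrix (Fin a) (Fin a) K) (B : Matrix (Fin b) (Fin b) K) :
    (blkM h A B)ᵀ = blkM h Aᵀ Bᵀ := by
  rw [blkM, transpose_submatrix, fromBlocks_transpose, transpose_zero, transpose_zero, blkM]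

theorem blkM_map (h : a + b = n) (A : Matrix (Fin a) (Fin a) K) (B : Matrix (Fin b) (Fin b) K) (f : K → K)
    (hf : f 0 = 0) : (blkM h A B).map f = blkM h (A.map f) (B.map f) := by
  rw [blkM, ← submatrix_map, fromBlocks_map, blkM]
  congr 2 <;> ext i j <;> simp [hf]

theorem blkM_injective (h : a + b = n) {A A' : Matrix (Fin a) (Fin a) K} {B B' : Matrix (Fin b) (Fin b) K}
    (hh : blkM h A B = blkM h A' B') : A = A' ∧ B = B' := by
  have h1 : fromBlocks A 0 0 B = fromBlocks A' 0 0 B' := by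
    ext i j
    have := congrFun (congrFun hh (blkE h i)) (blkE h j)
    simpa [blkM] using this
  have h2 := fromBlocks_inj.1 h1
  exact ⟨h2.1, h2.2.2.2⟩

/-- the diagonal matrix of a block scalar -/
theorem blkM_diagonal (h : a + b = n) (c d : K) :
    blkM h (diagonal fun _ => c) (diagonal fun _ => d) = diagonal fun i : Fin n => if (i : ℕ) < a then c else d := by
  ext i j
  obtain ⟨i, rfl⟩ := (blkE h).surjective i
  obtain ⟨j, rfl⟩ := (blkE h).surjective j
  rw [blkM, submatrix_apply, Equiv.symm_apply_apply, Equiv.symm_apply_apply, diagonal_apply]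
  rcases i with i | i <;> rcases j with j | j
  · rw [fromBlocks_apply₁₁, diagonal_apply, blkE_inl, if_pos i.2]
    simp
  · rw [fromBlocks_apply₁₂, if_neg (fun h0 => Sum.inl_ne_inr ((blkE h).injective h0))]
    rfl
  · rw [fromBlocks_apply₂₁, if_neg (fun h0 => Sum.inr_ne_inl ((blkE h).injective h0))]
    rfl
  · rw [fromBlocks_apply₂₂, diagonal_apply, blkE_inr, if_neg (show ¬ (a + (i : ℕ) < a) by omega)]
    simp

end Blk

section Main

variable {F : Type*} [Field F] [Fintype F] {q a b n : ℕ}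

/-- the block embedding -/
noncomputable def blk (hF : Fintype.card F = q ^ 2) (h : a + b = n) : GU a F q × GU b F q →* GU n F q :=
  MonoidHom.mk' (fun x => ⟨⟨blkM h ((x.1 : GL (Fin a) F) : Matrix (Fin a) (Fin a) F) ((x.2 : GL (Fin b) F) : Matrix _ _ F),
      blkM h ((x.1⁻¹ : GL (Fin a) F) : Matrix (Fin a) (Fin a) F) ((x.2⁻¹ : GL (Fin b) F) : Matrix _ _ F),
      by
        rw [blkM_mul, ← Units.val_mul, ← Units.val_mul, mul_inv_cancel, mul_inv_cancel]
        exact blkM_one h,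
      by
        rw [blkM_mul, ← Units.val_mul, ← Units.val_mul, inv_mul_cancel, inv_mul_cancel]
        exact blkM_one h⟩, by
      have hq : q ≠ 0 := by
        rintro rfl
        have : 0 < Fintype.card F := Fintype.card_pos
        rw [hF] at this
        simp at this
      rw [mem_GU hF]
      change (blkM h _ _)ᵀ * (blkM h _ _).map _ = 1
      rw [blkM_transpose, blkM_map _ _ _ _ (zero_pow hq), blkM_mul, (mem_GU hF _).1 x.1.2, (mem_GU hF _).1 x.2.2,
        blkM_one]⟩) (by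
    intro x y
    apply Subtype.ext
    apply Units.ext
    exact (blkM_mul h _ _ _ _).symm)

theorem blk_injective (hF : Fintype.card F = q ^ 2) (h : a + b = n) : Function.Injective (blk (F := F) hF h) := by
  rintro ⟨A, B⟩ ⟨A', B'⟩ hh
  have h1 := congrArg (fun g : GU n F q => ((g : GL (Fin n) F) : Matrix (Fin n) (Fin n) F)) hh
  have h2 := blkM_injective h h1
  exact Prod.ext (Subtype.ext (Units.ext h2.1)) (Subtype.ext (Units.ext h2.2))

/-- the embedding of the unitary group over the fixed field -/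
noncomputable def emb (n : ℕ) {σ : F ≃+* F} {q₀ : ℕ} [Fintype (fixF σ)] (hF : Fintype.card F = q ^ 2)
    (hk : Fintype.card (fixF σ) = q₀ ^ 2) (hpow : ∀ x : fixF σ, x ^ q = x ^ q₀) : GU n (fixF σ) q₀ →* GU n F q :=
  ((GeneralLinearGroup.map (n := Fin n) (fixF σ).subtype).comp (GU n (fixF σ) q₀).subtype).codRestrict (GU n F q)
    (fun A => (mem_GU_map hF hk hpow _).1 A.2)

theorem emb_injective {σ : F ≃+* F} {q₀ : ℕ} [Fintype (fixF σ)] (hF : Fintype.card F = q ^ 2)
    (hk : Fintype.card (fixF σ) = q₀ ^ 2) (hpow : ∀ x : fixF σ, x ^ q = x ^ q₀) :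
    Function.Injective (emb n hF hk hpow) := by
  intro A B h
  have h1 := congrArg (fun g : GU n F q => ((g : GL (Fin n) F) : Matrix (Fin n) (Fin n) F)) h
  exact Subtype.ext (Units.ext (Matrix.map_injective (fixF σ).subtype_injective h1))

/-- fixed by `σ` and commuting with the diagonal matrix `diag(1,...,1,-1,...,-1)` -/
def YP (σ : F ≃+* F) (a : ℕ) (M : Matrix (Fin n) (Fin n) F) : Prop :=
  M.map σ = M ∧ M * (diagonal fun i : Fin n => if (i : ℕ) < a then (1 : F) else -1) =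
    (diagonal fun i : Fin n => if (i : ℕ) < a then (1 : F) else -1) * M

omit [Fintype F] in
theorem YP.mul {σ : F ≃+* F} {M N : Matrix (Fin n) (Fin n) F} (hM : YP σ a M) (hN : YP σ a N) : YP σ a (M * N) := by
  refine ⟨?_, ?_⟩
  · have h1 : (M * N).map σ = M.map σ * N.map σ := Matrix.map_mul (f := (σ : F →+* F))
    rw [h1, hM.1, hN.1]
  · rw [mul_assoc, hN.2, ← mul_assoc, hM.2, mul_assoc]

/-- the subgroup `Y` of `GU_n` -/
def YG (n : ℕ) (σ : F ≃+* F) (q a : ℕ) : Subgroup (GU n F q) where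
  carrier := {g | YP σ a ((g : GL (Fin n) F) : Matrix (Fin n) (Fin n) F)}
  one_mem' := by
    refine ⟨?_, ?_⟩
    · change (1 : Matrix (Fin n) (Fin n) F).map σ = 1
      ext i j
      by_cases hij : i = j <;> simp [Matrix.one_apply, hij]
    · change (1 : Matrix (Fin n) (Fin n) F) * _ = _ * (1 : Matrix (Fin n) (Fin n) F)
      rw [one_mul, mul_one]
  mul_mem' := fun h h' => YP.mul h h'
  inv_mem' := by
    rintro g ⟨h1, h2⟩
    set M := ((g : GL (Fin n) F) : Matrix (Fin n) (Fin n) F) with hM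
    set! N := (((g⁻¹ : GU n F q) : GL (Fin n) F) : Matrix (Fin n) (Fin n) F) with hN
    have hMN : M * N = 1 := by
      have : ((g * g⁻¹ : GU n F q) : GL (Fin n) F) = 1 := by rw [mul_inv_cancel]; rfl
      exact congrArg Units.val this
    have hNM : N * M = 1 := by
      have : ((g⁻¹ * g : GU n F q) : GL (Fin n) F) = 1 := by rw [inv_mul_cancel]; rfl
      exact congrArg Units.val this
    refine ⟨?_, ?_⟩
    · have h3 : (M * N).map σ = M.map σ * N.map σ := Matrix.map_mul (f := (σ : F →+* F))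
      have h4 : (1 : Matrix (Fin n) (Fin n) F).map σ = 1 := by
        ext i j
        by_cases hij : i = j <;> simp only [Matrix.one_apply, hij, _root_.Matrix.map_apply, _root_.Matrix.one_apply_eq, _root_.map_one, ↓ _root_.reduceIte, _root_.ne_eq, _root_.not_false_eq_true, _root_.Matrix.one_apply_ne, _root_.map_zero]
      rw [hMN, h4, h1] at h3
      calc N.map σ = N * M * N.map σ := by rw [hNM, one_mul]
        _ = N := by rw [mul_assoc, ← h3, mul_one]
    · set D : Matrix (Fin n) (Fin n) F := diagonal fun i : Fin n => if (i : ℕ) < a then (1 : F) else -1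
      calc N * D = N * D * (M * N) := by rw [hMN, mul_one]
        _ = N * (D * M) * N := by simp only [mul_assoc]
        _ = N * (M * D) * N := by rw [h2]
        _ = N * M * (D * N) := by simp only [mul_assoc]
        _ = D * N := by rw [hNM, one_mul]

omit [Fintype F] in
theorem mem_YG {σ : F ≃+* F} {g : GU n F q} :
    g ∈ YG n σ q a ↔ YP σ a ((g : GL (Fin n) F) : Matrix (Fin n) (Fin n) F) := Iff.rfl

/-- **the index of `Y` is odd** -/
theorem odd_index {σ : F ≃+* F} {q₀ m t N : ℕ} (hF : Fintype.card F = q ^ 2) (hq : Odd q) (hm : Odd m)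
    (hqm : q = q₀ ^ m) (hk : Nat.card (fixF σ) = q₀ ^ 2) (hN : Odd N) (hn : n = 2 ^ t * N) :
    Odd (YG n σ q (2 ^ t)).index := by
  classical
  have : Fact (Nat.Prime 2) := ⟨Nat.prime_two⟩
  have : Fintype (fixF σ) := Fintype.ofFinite _
  rw [Nat.card_eq_fintype_card] at hk
  have hpow : ∀ x : fixF σ, x ^ q = x ^ q₀ := fun x => by rw [hqm]; exact pow_fix hk hm x
  have hq0 : Odd q₀ := by
    rw [hqm] at hq
    rcases Nat.even_or_odd q₀ with h | h
    · have hm0 : m ≠ 0 := by rcases hm with ⟨j, hj⟩; omega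
      exact absurd (h.pow_of_ne_zero hm0) (Nat.not_even_iff_odd.2 hq)
    · exact h
  have h1q : 1 < q₀ := Cfsg.Agent.LieClassical.GUOrder.two_le hk
  have hle : 2 ^ t ≤ n := by
    rw [hn]
    exact Nat.le_mul_of_pos_right _ hN.pos
  have hab : 2 ^ t + (n - 2 ^ t) = n := by omega
  -- the embedding
  let f : GU (2 ^ t) (fixF σ) q₀ × GU (n - 2 ^ t) (fixF σ) q₀ →* GU n F q :=
    (blk hF hab).comp (MonoidHom.prodMap (emb (2 ^ t) hF hk hpow) (emb (n - 2 ^ t) hF hk hpow))
  have hf : Function.Injective f :=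
    (blk_injective hF hab).comp (Function.Injective.prodMap (emb_injective hF hk hpow) (emb_injective hF hk hpow))
  have hfY : f.range ≤ YG n σ q (2 ^ t) := by
    rintro _ ⟨x, rfl⟩
    rw [mem_YG]
    change YP σ (2 ^ t) (blkM hab _ _)
    refine ⟨?_, ?_⟩
    · rw [blkM_map _ _ _ _ (map_zero σ)]
      congr 1
      · ext i j
        exact (((x.1 : GL (Fin (2 ^ t)) (fixF σ)) : Matrix _ _ (fixF σ)) i j).2
      · ext i j
        exact (((x.2 : GL (Fin (n - 2 ^ t)) (fixF σ)) : Matrix _ _ (fixF σ)) i j).2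
    · rw [← blkM_diagonal hab, blkM_mul, blkM_mul]
      congr 1
      · ext i j
        rw [mul_diagonal, diagonal_mul, mul_comm]
      · ext i j
        rw [mul_diagonal, diagonal_mul, mul_comm]
  have hfin : Finite (GU n F q) := Cfsg.Agent.LieClassical.GUOrder.finite_GU n
  have hfin0 : ∀ k, Finite (GU k (fixF σ) q₀) := fun k => Cfsg.Agent.LieClassical.GUOrder.finite_GU k
  have hd : Nat.card (GU (2 ^ t) (fixF σ) q₀) * Nat.card (GU (n - 2 ^ t) (fixF σ) q₀) ∣
      Nat.card (YG n σ q (2 ^ t)) := by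
    rw [← Nat.card_prod, Nat.card_congr (MonoidHom.ofInjective hf).toEquiv]
    exact Subgroup.card_dvd_of_le hfY
  have hmul := Subgroup.card_mul_index (YG n σ q (2 ^ t))
  have hv := congrArg (padicValNat 2) hmul
  have hY0 : Nat.card (YG n σ q (2 ^ t)) ≠ 0 := Nat.card_pos.ne'
  have hI0 : (YG n σ q (2 ^ t)).index ≠ 0 := Subgroup.index_ne_zero_of_finite
  rw [padicValNat.mul hY0 hI0, val_card_GU2 hF hq n] at hv
  have hle2 := (padicValNat_dvd_iff_le (p := 2) hY0).1 ((pow_padicValNat_dvd).trans hd)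
  rw [padicValNat.mul (Nat.card_pos.ne') (Nat.card_pos.ne'), val_card_GU2 hk hq0, val_card_GU2 hk hq0] at hle2
  have e1 : padicValNat 2 (q + 1) = padicValNat 2 (q₀ + 1) := by rw [hqm]; exact val_odd_add hq0 h1q hm
  have e2 : padicValNat 2 (q - 1) = padicValNat 2 (q₀ - 1) := by rw [hqm]; exact val_odd_sub hq0 h1q hm
  rw [e1, e2, hn, ← vv2_add t hN, ← hn] at hv
  have h0 : padicValNat 2 (YG n σ q (2 ^ t)).index = 0 := by omega
  rw [← Nat.not_even_iff_odd, even_iff_two_dvd]
  intro hdv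
  have := one_le_padicValNat_of_dvd hI0 hdv
  omega

end Main

end Cfsg.Agent.H486.RV
end

-- part: H486/RV/AoPsu
section
/-!
# TEAM RV, AO-PSU (helper486)

`autOdd_psu` : every automorphism of odd order of `PSU_n(q)`, `q` odd, `n ≥ 3`, centralises a Sylow `2`-subgroup after
multiplication with an inner automorphism.
-/

set_option autoImplicit false

namespace Cfsg.Agent.H486.RV

open Cfsg Subgroup Matrix
open Cfsg.Agent.H561.RV
open Cfsg.Agent.LieClassical.HermBasic Cfsg.Agent.LieClassical.HermSiegel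
  Cfsg.Agent.LieClassical.HermGen Cfsg.Agent.LieClassical.SUBasic
open Cfsg.Agent.ClassicalGeometry.PSUAutCount Cfsg.Agent.ClassicalGeometry.UnitAutBasic
open Cfsg.Agent.H183.OutPSU
open Cfsg.Agent.S2677 (fixF mem_fixF)

section

variable {F : Type*} [Field F] {q n : ℕ}

/-- the inclusion -/
def inc (n q : ℕ) (F : Type*) [Field F] : SU n F q →* GU n F q :=
  MonoidHom.mk' (fun g => ⟨Matrix.SpecialLinearGroup.toGL g.1, fun u v => (LieClassical.SUBasic.mem_SU_iff _).1 g.2 u v⟩)
    (fun a b => by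
      apply Subtype.ext
      exact map_mul Matrix.SpecialLinearGroup.toGL a.1 b.1)

theorem gm_inc (g : SU n F q) : gm (inc n q F g) = mat g := rfl

theorem normal_range_inc : (inc n q F).range.Normal := by
  constructor
  rintro _ ⟨g, rfl⟩ A
  obtain ⟨k, hk⟩ := exists_SU_of_det (A * inc n q F g * A⁻¹) (by
    have h1 : (mat g).det = 1 := (g : _root_.Matrix.SpecialLinearGroup (Fin n) F).det_coe
    have h2 := congrArg Matrix.det (gm_mul_inv A)
    rw [det_mul, det_one] at h2
    rw [gm_mul, gm_mul, det_mul, det_mul, gm_inc, h1, mul_one, h2])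
  exact ⟨k, gm_inj (by rw [gm_inc, ← hk])⟩

/-- matrices commuting with `diag(1,..,1,-1,..,-1)` commute with block scalars -/
theorem comm_of_YP (h2 : (2 : F) ≠ 0) {σ : F ≃+* F} {a : ℕ} {M : Matrix (Fin n) (Fin n) F} (h : YP σ a M) (c : F) :
    M * (diagonal fun i : Fin n => if (i : ℕ) < a then c else 1) =
      (diagonal fun i : Fin n => if (i : ℕ) < a then c else 1) * M := by
  have key : ∀ i j : Fin n, M i j * (if (j : ℕ) < a then (1 : F) else -1) =
      (if (i : ℕ) < a then (1 : F) else -1) * M i j := by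
    intro i j
    have := congrFun (congrFun h.2 i) j
    rwa [mul_diagonal, diagonal_mul] at this
  ext i j
  rw [mul_diagonal, diagonal_mul]
  have hk := key i j
  have h0 : ∀ x : F, x = -x → x = 0 := by
    intro x hx
    have : (2 : F) * x = 0 := by linear_combination hx
    exact (mul_eq_zero.1 this).resolve_left h2
  split_ifs at hk ⊢ with hj hi hi
  · ring
  · have := h0 (M i j) (by linear_combination hk)
    rw [this]; ring
  · have := h0 (M i j) (by linear_combination -hk)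
    rw [this]; ring
  · ring

end

section Main

variable {F : Type*} [Field F] [Fintype F] {q n : ℕ}

theorem isSolvable_out (hF : Fintype.card F = q ^ 2) (hn : 3 ≤ n) (h32 : ¬ (n = 3 ∧ q = 2)) :
    Group.IsSolvable (Out (PSU n F q)) := by
  obtain ⟨p, hp⟩ := CharP.exists F
  have hpp : Fact p.Prime := ⟨CharP.char_is_prime F p⟩
  obtain ⟨k, -, hk⟩ := FiniteField.card F p
  have hqd : q ∣ p ^ (k : ℕ) := by rw [← hk, hF]; exact dvd_pow_self q two_ne_zero
  obtain ⟨f, -, hq⟩ := (Nat.dvd_prime_pow hpp.out).1 hqd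
  have hf : 1 ≤ f := by
    rcases Nat.eq_zero_or_pos f with h | h
    · have := Cfsg.Agent.LieClassical.GUOrder.two_le hF
      rw [hq, h, pow_zero] at this
      omega
    · exact h
  obtain ⟨φ, -, hc, -⟩ := out_psu hf hq hF hn h32
  have h1 : Group.IsSolvable φ.ker := Group.isSolvable_of_comm (fun a b => IsCyclic.commGroup.mul_comm a b)
  exact Group.isSolvable_of_ker_le_range φ.ker.subtype φ (by rw [Subgroup.range_subtype])

/-- a Sylow `2`-subgroup in the block diagonal group over the fixed field -/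
theorem exists_sylow {σ : F ≃+* F} {q₀ m t N : ℕ} (hF : Fintype.card F = q ^ 2) (hq : Odd q) (hm : Odd m)
    (hqm : q = q₀ ^ m) (hk : Nat.card (fixF σ) = q₀ ^ 2) (hN : Odd N) (hn : n = 2 ^ t * N) :
    ∃ P₀ : Sylow 2 (PSU n F q), ∀ x ∈ P₀, ∃ g : SU n F q, pr n F q g = x ∧ YP σ (2 ^ t) (mat g) := by
  classical
  have : Fact (Nat.Prime 2) := ⟨Nat.prime_two⟩
  have hfin : Finite (GU n F q) := Cfsg.Agent.LieClassical.GUOrder.finite_GU n
  have hinj : Function.Injective (inc n q F) := by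
    intro a b hab
    have h1 := congrArg gm hab
    exact Subtype.ext (Subtype.ext h1)
  have hfinS : Finite (SU n F q) := Finite.of_injective _ hinj
  set! Y : Subgroup (SU n F q) := (YG n σ q (2 ^ t)).comap (inc n q F) with hY
  have hYodd : Odd Y.index := by
    have h1 := odd_index hF hq hm hqm hk hN hn
    have := normal_range_inc (F := F) (q := q) (n := n)
    rw [hY, index_comap]
    have h2 := Cfsg.Agent.H988.CPi.relIndex_mul_sup_index (YG n σ q (2 ^ t)) (inc n q F).range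
    exact Odd.of_dvd_nat h1 ⟨_, h2.symm⟩
  obtain ⟨Q⟩ : Nonempty (Sylow 2 Y) := inferInstance
  have h1 : ¬ 2 ∣ (((Q : Subgroup Y).map Y.subtype).index :) := by
    rw [index_map_subtype]
    intro hd
    rcases (Nat.prime_two.dvd_mul).1 hd with h | h
    · exact Q.not_dvd_index h
    · exact (Nat.not_even_iff_odd.2 hYodd) (even_iff_two_dvd.2 h)
  let P₁ : Sylow 2 (SU n F q) := (Q.isPGroup'.map Y.subtype).toSylow h1
  refine ⟨P₁.mapSurjective (pr_surjective (n := n) (F := F) (q := q)), fun x hx => ?_⟩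
  obtain ⟨g, hg, rfl⟩ := hx
  obtain ⟨y, -, rfl⟩ := hg
  exact ⟨_, rfl, y.2⟩

/-- **AO-PSU** -/
theorem autOdd_psu' {F : Type*} [Field F] [Fintype F] {n q : ℕ} (hF : Fintype.card F = q ^ 2) (hodd : Odd q)
    (hn : 3 ≤ n) : AutOdd (PSU n F q) := by
  classical
  have h32 : ¬ (n = 3 ∧ q = 2) := by
    rintro ⟨-, rfl⟩
    exact absurd hodd (by decide)
  have hfin : Finite (GU n F q) := Cfsg.Agent.LieClassical.GUOrder.finite_GU n
  have hfinP : Finite (PSU n F q) := by
    have hinj : Function.Injective (inc n q F) := by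
      intro a b hab
      have h1 := congrArg gm hab
      exact Subtype.ext (Subtype.ext h1)
    have hfinS : Finite (SU n F q) := Finite.of_injective _ hinj
    exact Finite.of_surjective _ (pr_surjective (n := n) (F := F) (q := q))
  have h2 : (2 : F) ≠ 0 := by
    intro h0
    have : CharP F 2 := CharTwo.of_one_ne_zero_of_two_eq_zero one_ne_zero h0
    obtain ⟨k, -, hk⟩ := FiniteField.card F 2
    rw [hF] at hk
    have : Even (q ^ 2) := by rw [hk]; exact (even_two).pow_of_ne_zero k.ne_zero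
    exact (Nat.not_even_iff_odd.2 hodd.pow) this
  have hsurj := Cfsg.Agent.ClassicalGeometry.PSUAutMain.exists_toAut hF hn h32
  obtain ⟨hcomm, σ, q₀, m, N₀, hm, hqm, hk, hσ⟩ := exists_odd_aut hF
  obtain ⟨t, N, hN, hnt⟩ := Nat.exists_eq_two_pow_mul_odd (n := n) (by omega)
  obtain ⟨P₀, hP₀⟩ := exists_sylow hF hodd hm hqm hk hN hnt
  have hDn : (NN n q F).Normal := normal_of hsurj
  set C : Subgroup (MulAut (PSU n F q)) := fixingSubgroup _ ((P₀ : Subgroup (PSU n F q)) : Set (PSU n F q)) with hC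
  have hCmem : ∀ φ : MulAut (PSU n F q), φ ∈ C ↔ ∀ x ∈ P₀, φ x = x := by
    intro φ
    rw [hC, mem_fixingSubgroup_iff]
    rfl
  -- field automorphisms
  have hfield : ∀ ρ ∈ zpowers σ, sG n q F ρ ∈ C := by
    have h1 : zpowers σ ≤ C.comap (sG n q F) := by
      rw [zpowers_le, mem_comap, hCmem]
      intro x hx
      obtain ⟨g, rfl, hg⟩ := hP₀ x hx
      rw [sG_apply, toAut_pr]
      congr 1
      apply Subtype.ext
      apply Subtype.ext
      change mat (semiConj 1 σ g) = mat g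
      rw [Cfsg.Agent.H198.UnitGamma.mat_semiConj, gm_one, inv_one, gm_one, one_mul, mul_one, hg.1]
    exact h1
  -- block scalars
  have hdiag : ∀ c : F, ∀ hc : c ^ (q + 1) = 1,
      cG n q F (ClassicalGeometry.GUBasic.guDiag q (fun i : Fin n => if (i : ℕ) < 2 ^ t then c else 1) (fun i => by
        split_ifs
        · exact hc
        · exact one_pow _)) ∈ C := by
    intro c hc
    rw [hCmem]
    intro x hx
    obtain ⟨g, rfl, hg⟩ := hP₀ x hx
    rw [cG_apply, toAut_pr]
    congr 1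
    apply Subtype.ext
    apply Subtype.ext
    change mat (semiConj _ 1 g) = mat g
    rw [Cfsg.Agent.H198.UnitGamma.mat_semiConj]
    have h3 : (mat g).map (1 : F ≃+* F) = mat g := by ext i j; rfl
    have h4 := comm_of_YP h2 hg c
    set! A := (ClassicalGeometry.GUBasic.guDiag q (fun i : Fin n => if (i : ℕ) < 2 ^ t then c else 1) (fun i => by
        split_ifs
        · exact hc
        · exact one_pow _) : GU n F q) with hA; rewrite [← hA]
    have h5 : gm A = diagonal fun i : Fin n => if (i : ℕ) < 2 ^ t then c else 1 := rfl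
    rw [h3, h5, ← h4, ← h5, mul_assoc, gm_mul_inv, mul_one]
  -- the quotient `Aut / D`
  set! π := QuotientGroup.mk' (NN n q F) with hπ
  have hπc : ∀ A : GU n F q, π (cG n q F A) = 1 := fun A => (QuotientGroup.eq_one_iff _).2 ⟨A, rfl⟩
  have hrep : ∀ φ : MulAut (PSU n F q), ∃ ρ : F ≃+* F, π φ = π (sG n q F ρ) := by
    intro φ
    obtain ⟨A, ρ, rfl⟩ := hsurj φ
    exact ⟨ρ, by rw [toAut_eq, map_mul, hπc, one_mul]⟩
  refine autOdd_of_layers (isSolvable_out hF hn h32) P₀ C (NN n q F) (fun φ hφ => (hCmem φ).1 hφ) inn_le_NN ?_ ?_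
    (Or.inr ⟨?_, ?_⟩)
  · intro φ ψ
    obtain ⟨ρ, hρ⟩ := hrep φ
    obtain ⟨ρ', hρ'⟩ := hrep ψ
    apply (QuotientGroup.eq_one_iff _).1
    change π (φ * ψ * φ⁻¹ * ψ⁻¹) = 1
    rw [map_mul, map_mul, map_mul, map_inv, map_inv, hρ, hρ', ← map_mul, ← map_mul, hcomm ρ ρ', map_mul, map_mul]
    group
  · intro φ
    obtain ⟨ρ, hρ⟩ := hrep φ
    refine ⟨N₀, ?_⟩
    have h3 : π (φ ^ 2 ^ N₀ * (sG n q F (ρ ^ 2 ^ N₀))⁻¹) = 1 := by
      rw [map_mul, map_pow, hρ, map_inv, map_pow, map_pow, mul_inv_cancel]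
    have h4 : φ ^ 2 ^ N₀ * (sG n q F (ρ ^ 2 ^ N₀))⁻¹ ∈ NN n q F := (QuotientGroup.eq_one_iff _).1 h3
    have h5 : φ ^ 2 ^ N₀ = (φ ^ 2 ^ N₀ * (sG n q F (ρ ^ 2 ^ N₀))⁻¹) * sG n q F (ρ ^ 2 ^ N₀) := by group
    rw [h5]
    exact mul_mem ((le_sup_right : NN n q F ≤ C ⊔ NN n q F) h4)
      ((le_sup_left : C ≤ C ⊔ NN n q F) (hfield _ (hσ ρ)))
  · rintro _ ⟨A, rfl⟩ _ ⟨B, rfl⟩
    rw [← map_inv, ← map_inv, ← map_mul, ← map_mul, ← map_mul]
    obtain ⟨g, hg⟩ := exists_SU_of_det (A * B * A⁻¹ * B⁻¹) (by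
      have e1 := congrArg Matrix.det (gm_mul_inv A)
      have e2 := congrArg Matrix.det (gm_mul_inv B)
      rw [det_mul, det_one] at e1 e2
      rw [gm_mul, gm_mul, gm_mul, det_mul, det_mul, det_mul]
      linear_combination (gm B).det * (gm B⁻¹).det * e1 + e2)
    rw [cG_of_SU g _ hg]
    exact ⟨_, rfl⟩
  · rintro _ ⟨A, rfl⟩
    -- the determinant
    set! d : Fˣ := Matrix.GeneralLinearGroup.det (A : GL (Fin n) F) with hd
    have hdq : d ^ (q + 1) = 1 := by
      apply Units.ext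
      rw [Units.val_pow_eq_pow_val, Units.val_one]
      exact ClassicalGeometry.GUBasic.det_pow hF (herm_gm A)
    obtain ⟨r, k, hk1, hk2⟩ := Nat.exists_eq_two_pow_mul_odd (n := orderOf d) (orderOf_pos d).ne'
    refine ⟨r, ?_⟩
    have hod : (d ^ 2 ^ r) ^ k = 1 := by rw [← pow_mul, ← hk2, pow_orderOf_eq_one]
    -- a root
    obtain ⟨c, hc1, hc2⟩ : ∃ c : Fˣ, c ^ (q + 1) = 1 ∧ c ^ 2 ^ t = d ^ 2 ^ r := by
      have hcop : (2 ^ t).Coprime k := Nat.Coprime.pow_left t (Nat.coprime_two_left.2 hk1)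
      refine ⟨(d ^ 2 ^ r) ^ ((2 ^ t).gcdA k), ?_, ?_⟩
      · rw [← zpow_natCast, ← _root_.zpow_mul, mul_comm, _root_.zpow_mul, zpow_natCast, ← pow_mul, mul_comm, pow_mul, hdq,
          one_pow, _root_.one_zpow]
      · have h1 : (((2 ^ t : ℕ) : ℤ) * (2 ^ t).gcdA k + k * (2 ^ t).gcdB k) = 1 := by
          rw [← Nat.gcd_eq_gcd_ab, hcop.gcd_eq_one]; rfl
        have h3 : (d ^ 2 ^ r) = (d ^ 2 ^ r) ^ (((2 ^ t : ℕ) : ℤ) * (2 ^ t).gcdA k + k * (2 ^ t).gcdB k) := by
          rw [h1, zpow_one]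
        rw [_root_.zpow_add, _root_.zpow_mul _ (k : ℤ), zpow_natCast _ k, hod, _root_.one_zpow, mul_one, mul_comm,
          _root_.zpow_mul, zpow_natCast] at h3
        exact h3.symm
    have hcF : (c : F) ^ (q + 1) = 1 := by
      have := congrArg Units.val hc1
      rwa [Units.val_pow_eq_pow_val, Units.val_one] at this
    have hD := hdiag (c : F) hcF
    set! D : GU n F q := ClassicalGeometry.GUBasic.guDiag q (fun i : Fin n => if (i : ℕ) < 2 ^ t then (c : F) else 1)
      (fun i => by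
        split_ifs
        · exact hcF
        · exact one_pow _) with hDdef; rewrite [← hDdef] at hD
    have hdetD : (gm D).det = (c : F) ^ 2 ^ t := by
      change (diagonal fun i : Fin n => if (i : ℕ) < 2 ^ t then (c : F) else 1).det = _
      rw [det_diagonal, Finset.prod_ite, Finset.prod_const_one, mul_one, Finset.prod_const]
      congr 1
      have hle : 2 ^ t ≤ n := by
        rw [hnt]
        exact Nat.le_mul_of_pos_right _ hN.pos
      rw [Fin.card_filter_val_lt, min_eq_right hle]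
    obtain ⟨g, hg⟩ := exists_SU_of_det (A ^ 2 ^ r * D⁻¹) (by
      have e1 := congrArg Matrix.det (gm_mul_inv D)
      rw [det_mul, det_one, hdetD] at e1
      have e2 : (gm (A ^ 2 ^ r)).det = (c : F) ^ 2 ^ t := by
        have e3 : gm (A ^ 2 ^ r) = gm A ^ 2 ^ r := rfl
        have e4 : (gm A).det = (d : F) := rfl
        rw [e3, det_pow, e4]
        have := congrArg Units.val hc2
        rw [Units.val_pow_eq_pow_val, Units.val_pow_eq_pow_val] at this
        exact this.symm
      rw [gm_mul, det_mul, e2]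
      exact e1)
    have h5 : (cG n q F A) ^ 2 ^ r = cG n q F (A ^ 2 ^ r * D⁻¹) * cG n q F D := by
      rw [← map_mul, inv_mul_cancel_right, map_pow]
    rw [h5, cG_of_SU g _ hg]
    exact mul_mem ((le_sup_right : Inn (PSU n F q) ≤ C ⊔ Inn (PSU n F q)) ⟨_, rfl⟩)
      ((le_sup_left : C ≤ C ⊔ Inn (PSU n F q)) hD)

/-- **AO-PSU** -/
theorem autOdd_psu {F : Type} [Field F] [Fintype F] {n q : ℕ} (hF : Fintype.card F = q ^ 2) (hodd : Odd q)
    (hn : 3 ≤ n) : AutOdd (PSU n F q) := autOdd_psu' hF hodd hn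

end Main

end Cfsg.Agent.H486.RV
end

-- part: H261/AO/Crit
section
/-!
# A criterion for `AutOdd` with one standard automorphism (helper261, for S4311, S3851)

`autOdd_of_sec`: `α` an automorphism of `S` of order `b` modulo inner automorphisms, `|Out S|` divides `2 ^ e b`, and the
fixed points of `α` have a section `Y` with `2 |Y| ∤ |S|` (so `|Y|` and `|S|` have the same `2`-part).
-/

set_option autoImplicit false
set_option linter.unusedSectionVars false

namespace Cfsg.Agent.H261.AO.Crit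

open Cfsg Subgroup Cfsg.Agent.H561.RV Cfsg.Agent.H967.CopSec

universe u

variable {S : Type u} [Group S] [Finite S]

/-- a Sylow `2`-subgroup in the fixed points -/
theorem exists_sylow_fixed {α : MulAut S} {Y : Type*} [Group Y] (hsec : Sec S α Y)
    (hY : ¬ 2 * Nat.card Y ∣ Nat.card S) : ∃ P : Sylow 2 S, ∀ x ∈ P, α x = x := by
  have hf : Fact (Nat.Prime 2) := ⟨Nat.prime_two⟩
  obtain ⟨Q⟩ : Nonempty (Sylow 2 ↥(_root_.Cfsg.Agent.H967.CopSec.Fix α)) := inferInstance
  have h1 : ¬ 2 ∣ ((Q : Subgroup ↥(_root_.Cfsg.Agent.H967.CopSec.Fix α)).map (_root_.Cfsg.Agent.H967.CopSec.Fix α).subtype).index := by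
    rw [index_map_subtype]
    intro hd
    rcases (Nat.prime_two.dvd_mul).1 hd with h | h
    · exact Q.not_dvd_index h
    · apply hY
      rw [← Subgroup.card_mul_index (_root_.Cfsg.Agent.H967.CopSec.Fix α), mul_comm 2]
      exact Nat.mul_dvd_mul hsec.card_dvd h
  refine ⟨(Q.isPGroup'.map (_root_.Cfsg.Agent.H967.CopSec.Fix α).subtype).toSylow h1, ?_⟩
  rintro x hx
  have hx' : x ∈ (Q : Subgroup ↥(_root_.Cfsg.Agent.H967.CopSec.Fix α)).map (_root_.Cfsg.Agent.H967.CopSec.Fix α).subtype := hx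
  obtain ⟨y, -, rfl⟩ := hx'
  exact y.2

theorem zpow_fixed {α φ : MulAut S} (h : φ ∈ zpowers α) {x : S} (hx : α x = x) : φ x = x := by
  have h1 : zpowers α ≤ MulAction.stabilizer (MulAut S) x := by
    rw [zpowers_le]
    exact hx
  exact h1 h

/-- **the criterion** -/
theorem autOdd_of_sec (hsol : Group.IsSolvable (Out S)) {α : MulAut S} {b e : ℕ}
    (hα : ∀ k : ℕ, α ^ k ∈ Inn S → b ∣ k) (hout : Nat.card (Out S) ∣ 2 ^ e * b) {Y : Type*} [Group Y]
    (hsec : Sec S α Y) (hY : ¬ 2 * Nat.card Y ∣ Nat.card S) : AutOdd S := by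
  have hfin : Finite (MulAut S) := Finite.of_injective (fun f : MulAut S => (f : S → S)) DFunLike.coe_injective
  obtain ⟨P₀, hP₀⟩ := exists_sylow_fixed hsec hY
  refine autOdd_of_index hsol P₀ (zpowers α) (fun φ hφ x hx => zpow_fixed hφ (hP₀ x hx)) fun r hr hd => ?_
  set! mk := QuotientGroup.mk' (Inn S) with hmk
  have h1 : ((zpowers α).map mk).index = (zpowers α ⊔ Inn S).index := by
    rw [index_map, hmk, QuotientGroup.ker_mk', MonoidHom.range_eq_top.2 (QuotientGroup.mk'_surjective _),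
      index_top, mul_one]
  rw [← h1, MonoidHom.map_zpowers] at hd
  have h2 : b ∣ Nat.card (zpowers (mk α)) := by
    rw [Nat.card_zpowers]
    apply hα
    rw [← QuotientGroup.eq_one_iff]
    change mk (α ^ orderOf (mk α)) = 1
    rw [map_pow, pow_orderOf_eq_one]
  have h3 := Subgroup.card_mul_index (zpowers (mk α))
  obtain ⟨c, hc⟩ := h2
  have hb : 0 < b := by
    rcases Nat.eq_zero_or_pos b with h | h
    · subst h
      rw [zero_mul] at hc
      exact absurd hc (Nat.card_pos).ne'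
    · exact h
  have h4 : b * (c * (zpowers (mk α)).index) ∣ b * 2 ^ e := by
    rw [mul_comm b (2 ^ e), ← mul_assoc, ← hc, h3]
    exact hout
  have h5 : c * (zpowers (mk α)).index ∣ 2 ^ e := Nat.dvd_of_mul_dvd_mul_left hb h4
  have h6 : r ∣ 2 ^ e := (hd.trans (Dvd.intro_left c rfl)).trans h5
  exact (Nat.prime_dvd_prime_iff_eq hr Nat.prime_two).1 (hr.dvd_of_dvd_pow h6)

/-! ### arithmetic -/

theorem not_two_dvd {NF NE A B : ℕ} (h : NF * A = NE * B) (hB : Odd B) (hNE : 0 < NE) : ¬ 2 * NE ∣ NF := by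
  intro hd
  have h1 : NE * 2 ∣ NE * B := by
    rw [← h, mul_comm NE 2]
    exact hd.mul_right A
  have h2 := Nat.dvd_of_mul_dvd_mul_left hNE h1
  exact (Nat.not_even_iff_odd.2 hB) (even_iff_two_dvd.2 h2)

/-- `x ^ b - 1 = (x - 1) w` with `w` odd (`x`, `b` odd) -/
theorem exists_odd_sub {x b : ℕ} (hx : Odd x) (hb : Odd b) : ∃ w, Odd w ∧ x ^ b - 1 = (x - 1) * w := by
  refine ⟨∑ i ∈ Finset.range b, x ^ i, ?_, ?_⟩
  · rw [Finset.odd_sum_iff_odd_card_odd, Finset.filter_true_of_mem fun i _ => hx.pow, Finset.card_range]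
    exact hb
  · have h1 : 1 ≤ x := hx.pos
    have h2 : 1 ≤ x ^ b := Nat.one_le_pow _ _ h1
    have h3 := mul_geom_sum (x : ℤ) b
    zify [h1, h2]
    exact h3.symm

/-- products -/
theorem exists_odd_prod {q₀ b : ℕ} (hq : Odd q₀) (hb : Odd b) (m : ℕ) :
    ∃ w, Odd w ∧ ∏ i ∈ Finset.range m, ((q₀ ^ b) ^ (2 * (i + 1)) - 1) =
      (∏ i ∈ Finset.range m, (q₀ ^ (2 * (i + 1)) - 1)) * w := by
  induction m with
  | zero => exact ⟨1, odd_one, by simp only [_root_.Finset.range_zero, _root_.Finset.prod_empty, _root_.mul_one]⟩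
  | succ m ih =>
    obtain ⟨w, hw, h⟩ := ih
    obtain ⟨w', hw', h'⟩ := exists_odd_sub (hq.pow (n := 2 * (m + 1))) hb
    refine ⟨w * w', hw.mul hw', ?_⟩
    rw [Finset.prod_range_succ, Finset.prod_range_succ, h, ← pow_mul, mul_comm b, pow_mul, h']
    ring

end Cfsg.Agent.H261.AO.Crit
end

-- part: H261/AO/OOdd
section
/-!
# `AutOdd` for the odd-dimensional orthogonal groups (helper261, for S4311, S3851)
-/

set_option autoImplicit false
set_option linter.unusedSectionVars false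

namespace Cfsg.Agent.H261.AO.OOdd

open Cfsg Matrix QuadraticMap Cfsg.Agent.H254 Cfsg.Agent.H967.CopMat Cfsg.Agent.H967.CopSec
open Cfsg.Agent.LieClassical.OrthTrans Cfsg.Agent.ClassicalGeometry.OrthSemi Cfsg.Agent.LieClassical.OrthSimple
  Cfsg.Agent.H198.OrthFrame Cfsg.Agent.H198.ExtForm Cfsg.Agent.H198.Carriers Cfsg.Agent.H185.OrthCent
  Cfsg.Agent.H185.MinusField Cfsg.Agent.H24.FixOrth Cfsg.Agent.H545.LT Cfsg.Agent.H476.FieldOrth
open Cfsg.Agent.H561.RV Cfsg.Agent.H261.AO.Crit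

/-- a field automorphism whose order is the odd part of the order of the group of all field automorphisms -/
theorem exists_odd_part (F : Type*) [Field F] [Finite F] :
    ∃ (τ : F ≃+* F) (v : ℕ), Odd (orderOf τ) ∧ Nat.card (F ≃+* F) = 2 ^ v * orderOf τ := by
  have hfinA : Finite (F ≃+* F) := Finite.of_injective (fun f : F ≃+* F => (f : F → F)) DFunLike.coe_injective
  obtain ⟨ρ, hρ, -⟩ := _root_.Cfsg.Agent.H254.exists_ringAut F
  obtain ⟨v, n, hn, hvn⟩ := Nat.exists_eq_two_pow_mul_odd (n := Nat.card (F ≃+* F)) Nat.card_pos.ne'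
  have hτ : orderOf (ρ ^ (2 ^ v)) = n := by
    rw [orderOf_pow_of_dvd (by positivity) (by rw [hρ, hvn]; exact dvd_mul_right _ _), hρ, hvn,
      Nat.mul_div_cancel_left _ (by positivity)]
  exact ⟨ρ ^ (2 ^ v), v, by rw [hτ]; exact hn, by rw [hτ]; exact hvn⟩

/-- powers of the field automorphism which are inner -/
theorem dvd_of_inn {ι : Type} [Fintype ι] [DecidableEq ι] {F : Type} [Field F] [Nonempty ι]
    {Q : QuadraticForm F (ι → F)} (hG : Good Q) (h : ∀ σ : F ≃+* F, H185.OrthCent.Fix σ Q) (τ : F ≃+* F) (k : ℕ)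
    (hk : (Phi hG (frobG (h τ))) ^ k ∈ Inn (POmega F ⇑Q)) : orderOf τ ∣ k := by
  have h1 : (Phi hG (frobG (h τ))) ^ k = Phi hG (frobG (h (τ ^ k))) := by
    have h2 : frobG (h τ) = frobHom (⊤ : Subgroup (F ≃+* F)) (fun σ _ => h σ) ⟨τ, trivial⟩ := rfl
    rw [h2, ← map_pow, ← map_pow]
    rfl
  rw [h1] at hk
  apply orderOf_dvd_of_pow_eq_one
  by_contra hne
  exact not_inn hG (h (τ ^ k)) hne hk

/-- **AO-OODD** -/
theorem autOdd_oOdd {F : Type} [Field F] [Fintype F] (hodd : Odd (Fintype.card F)) {m : ℕ} (hm : 3 ≤ m) :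
    AutOdd (POmega F (quadFormOdd m F)) := by
  obtain ⟨r, hchar⟩ := CharP.exists F
  obtain ⟨f, hp, hf⟩ := FiniteField.card F r
  have hpf : Fact r.Prime := ⟨hp⟩
  have h20 : (2 : F) ≠ 0 := Cfsg.Agent.LieClassical.PomegaCard.odd_card_iff.1 hodd
  have hpodd : Odd r := by
    have h1 := hodd
    rw [hf] at h1
    exact (Nat.odd_pow_iff f.pos.ne').1 h1
  have hf' : Nat.card (F ≃+* F) = f := Lib.FieldAutCard.card_ringAut f.pos hf
  have hodd' : Odd (Nat.card F) := by rw [Nat.card_eq_fintype_card]; exact hodd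
  have hsimp : IsSimpleGroup (POmega F ⇑(oddQ m F)) := S0295.result hodd m hm
  have hne : Nonempty (Unit ⊕ (Fin m ⊕ Fin m)) := ⟨.inl ()⟩
  have hfin : Finite (POmega F ⇑(oddQ m F)) := inferInstance
  have hna : ¬ IsMulCommutative (POmega F ⇑(oddQ m F)) :=
    not_comm (odd_dvd (r := r) hm hodd' (char_dvd F r) Nat.prime_two (Or.inl rfl))
      (odd_dvd (r := r) hm hodd' (char_dvd F r) Nat.prime_three (Or.inr (Or.inr (by omega))))
  have hsolv : Group.IsSolvable (Out (POmega F ⇑(oddQ m F))) :=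
    isSolvable_out_of_sch (Schreier.ClassPOmega.sch_odd hm h20)
  have hG : Good (oddQ m F) := good_oddQ (by omega) h20
  obtain ⟨τ, v, hτ, hv⟩ := exists_odd_part F
  have hout : Nat.card (Out (POmega F ⇑(oddQ m F))) ∣ 2 ^ (v + 1) * orderOf τ := by
    have h1 := (S0816.result r f f.pos hf hpodd m hm).dvd
    have h2 : Nat.card (MulAut (POmega F ⇑(oddQ m F))) ∣ 2 * f * Nat.card (POmega F ⇑(oddQ m F)) := h1
    rw [← card_out hna] at h2
    have h3 := Nat.dvd_of_mul_dvd_mul_right Nat.card_pos h2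
    rw [← hf', hv] at h3
    rw [pow_succ]
    have h4 : 2 * (2 ^ v * orderOf τ) = 2 ^ v * 2 * orderOf τ := by ring
    rwa [h4] at h3
  have hsec : Sec (POmega F ⇑(oddQ m F)) (Phi hG (frobG (fix_oddQ τ m))) (POmega (Fx τ) ⇑(oddQ m (Fx τ))) :=
    sec_orth (ext_oddQ (Fx τ).subtype m) hG (fix_oddQ τ m) (fun b => b.2)
  refine (autOdd_of_sec (S := POmega F ⇑(oddQ m F)) hsolv (α := Phi hG (frobG (fix_oddQ τ m)))
    (fun k hk => dvd_of_inn hG (fun σ => fix_oddQ σ m) τ k hk) hout hsec ?_ :)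
  -- the orders
  have := Fintype.ofFinite (Fx τ)
  have hcE : Nat.card F = Nat.card (Fx τ) ^ orderOf τ := card_Fx τ
  have hoddE : Odd (Nat.card (Fx τ)) := fx_odd hodd' τ
  have h1 := S0292.result (F := F) (Nat.card_eq_fintype_card (α := F)).symm hodd' m hm
  have h2 := S0292.result (F := Fx τ) (Nat.card_eq_fintype_card (α := Fx τ)).symm hoddE m hm
  have h1' : 2 * Nat.card (POmega F ⇑(oddQ m F)) =
      (Nat.card (Fx τ) ^ orderOf τ) ^ m ^ 2 * ∏ i ∈ Finset.range m, ((Nat.card (Fx τ) ^ orderOf τ) ^ (2 * (i + 1)) - 1) := by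
    rw [← hcE]; exact h1
  have h2' : 2 * Nat.card (POmega (Fx τ) ⇑(oddQ m (Fx τ))) =
      Nat.card (Fx τ) ^ m ^ 2 * ∏ i ∈ Finset.range m, (Nat.card (Fx τ) ^ (2 * (i + 1)) - 1) := h2
  obtain ⟨w, hw, hprod⟩ := exists_odd_prod hoddE hτ m
  rw [hprod] at h1'
  refine not_two_dvd (A := Nat.card (Fx τ) ^ m ^ 2) (B := (Nat.card (Fx τ) ^ orderOf τ) ^ m ^ 2 * w) ?_
    ((hoddE.pow.pow).mul hw) Nat.card_pos
  apply Nat.eq_of_mul_eq_mul_left (show 0 < 2 by norm_num)
  calc 2 * (Nat.card (POmega F ⇑(oddQ m F)) * Nat.card (Fx τ) ^ m ^ 2)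
      = (2 * Nat.card (POmega F ⇑(oddQ m F))) * Nat.card (Fx τ) ^ m ^ 2 := by ring
    _ = (Nat.card (Fx τ) ^ m ^ 2 * ∏ i ∈ Finset.range m, (Nat.card (Fx τ) ^ (2 * (i + 1)) - 1)) *
        ((Nat.card (Fx τ) ^ orderOf τ) ^ m ^ 2 * w) := by rw [h1']; ring
    _ = 2 * (Nat.card (POmega (Fx τ) ⇑(oddQ m (Fx τ))) * ((Nat.card (Fx τ) ^ orderOf τ) ^ m ^ 2 * w)) := by
      rw [← h2']; ring

end Cfsg.Agent.H261.AO.OOdd
end

private theorem dce_c6c5a53c6827 : _root_.True := by
  try have : _root_.True := by simp only [_root_.Cfsg.Agent.H486.RV.blkM.eq_1]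
  try have : _root_.True := by simp only [_root_.Cfsg.Agent.H486.RV.blkE.eq_1]
  try have : _root_.True := by simp only [_root_.Cfsg.Agent.H808.RV.jE.congr_simp]
  try have : _root_.True := by simp only [_root_.Cfsg.Agent.H486.RV.blkE.congr_simp]
  exact _root_.True.intro
end

-- part: H165/RV/Aut_mg
section
prune_inst 0xc0200000120000000018001210002610920001000023040055e1018200865ae309022620f9201a014900a1640038000000000079001000002000020041180080002a7282d3c9a10420000680b801000000000000000000000000000000041000000000000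
set_option linter.all false
open scoped Cfsg.Agent.FastGrp

-- part: H165/RV/Aut
section
/-!
# TEAM RV: odd automorphisms fix the classes of Hall subgroups (helper165)

* `fixC_of_cent` : `φ` of odd order centralising a Sylow `2`-subgroup `P ≤ H` fixes the class of `H`;
* `orow_of_autOdd`, `crow_of_autOdd`.
-/

set_option autoImplicit false

namespace Cfsg.Agent.H165.RV

open Subgroup Cfsg Cfsg.Agent.H988.CPi Cfsg.Agent.H571.DExt Cfsg.Agent.H561.RV
open scoped Pointwise

universe u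

variable {π : Set ℕ} {S : Type u} [Group S] [Finite S]

theorem finite_mulAut (S : Type u) [Group S] [Finite S] : Finite (MulAut S) :=
  Finite.of_injective (fun f : MulAut S => (f : S → S)) DFunLike.coe_injective

/-- **An automorphism of odd order centralising `P` fixes the class of `H`.** -/
theorem fixC_of_cent (hcl : Claim.{u} π (Nat.card (MulAut.conj : S →* MulAut S).range))
    (hinj : Function.Injective (MulAut.conj : S →* MulAut S)) {H : Subgroup S} (hH : IsPiHall π H)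
    {P : Sylow 2 S} (hP : (P : Subgroup S) ≤ H) {φ : MulAut S} (hodd : Odd (orderOf φ)) (hfix : ∀ x ∈ P, φ x = x) :
    FixC φ H := by
  have := finite_mulAut S
  set c : S →* MulAut S := MulAut.conj with hc
  have hconj : ∀ (ψ : MulAut S) (x : S), ψ * c x * ψ⁻¹ = c (ψ x) := by
    intro ψ x
    ext y
    simp [hc, MulAut.mul_apply]
  have hrel : ∀ X : Subgroup S, (X.map c).relIndex c.range = X.index := by
    intro X
    rw [← relIndex_top_right X, ← relIndex_map_map_of_injective X ⊤ hinj, ← MonoidHom.range_eq_map]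
  have conf : Conf π c.range (H.map c) ((P : Subgroup S).map c) φ := by
    refine ⟨?_, ?_, ?_, ?_, map_mono hP, P.isPGroup'.map _, ?_, hodd, ?_⟩
    · rw [mem_normalizer_iff]
      intro y
      constructor
      · rintro ⟨x, rfl⟩
        exact ⟨φ x, (hconj φ x).symm⟩
      · rintro ⟨x, hx⟩
        refine ⟨φ⁻¹ x, ?_⟩
        rw [← hconj φ⁻¹ x, hx]
        group
    · exact map_le_range _ _
    · rw [card_map_of_injective hinj]; exact hH.1
    · rw [hrel]; exact hH.2
    · rw [hrel]; exact P.not_dvd_index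
    · rintro _ ⟨x, hx, rfl⟩
      rw [hconj, hfix x hx]
  obtain ⟨x, hx, he⟩ := hcl (MulAut S) c.range (H.map c) ((P : Subgroup S).map c) φ rfl conf
  -- `φ • H.map c = (φ • H).map c`
  have hmap : ∀ ψ : MulAut S, MulAut.conj ψ • H.map c = (H.map (ψ : S ≃* S).toMonoidHom).map c := by
    intro ψ
    rw [← cj_eq, map_map, map_map]
    congr 1
    ext y : 1
    exact hconj ψ y
  have hxr : x ∈ c.range := by
    have : H.map c ⊔ MulAut.conj φ • H.map c ≤ c.range := by
      refine sup_le (map_le_range _ _) ?_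
      rw [hmap]
      exact map_le_range _ _
    exact this hx
  obtain ⟨s, rfl⟩ := hxr
  refine ⟨s, ?_⟩
  apply map_injective hinj
  rw [← hmap, he, hmap]

omit [Finite S] in
theorem conj_injective [IsSimpleGroup S] (hS : ¬ IsMulCommutative S) :
    Function.Injective (MulAut.conj : S →* MulAut S) := by
  rw [← MonoidHom.ker_eq_bot_iff]
  rcases (inferInstance : IsSimpleGroup S).eq_bot_or_eq_top_of_normal (MulAut.conj : S →* MulAut S).ker inferInstance
    with h | h
  · exact h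
  · exfalso
    apply hS
    refine ⟨⟨fun a b => ?_⟩⟩
    have h1 : (MulAut.conj a : MulAut S) = 1 := by
      have : a ∈ (MulAut.conj : S →* MulAut S).ker := by rw [h]; trivial
      exact this
    have h2 : MulAut.conj a b = b := by rw [h1]; rfl
    rw [MulAut.conj_apply] at h2
    calc a * b = a * b * a⁻¹ * a := by group
      _ = b * a := by rw [h2]

/-- **correction by an inner automorphism** -/
theorem fixC_of_autOdd (hcl : Claim.{u} π (Nat.card (MulAut.conj : S →* MulAut S).range))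
    (hinj : Function.Injective (MulAut.conj : S →* MulAut S)) {H : Subgroup S} (hH : IsPiHall π H)
    {P : Sylow 2 S} (hP : (P : Subgroup S) ≤ H) {φ : MulAut S} (hodd : Odd (orderOf φ))
    (hA : ∃ s : S, ∀ x ∈ P, s * φ x * s⁻¹ = x) : FixC φ H := by
  have := finite_mulAut S
  obtain ⟨s, hs⟩ := hA
  set ψ : MulAut S := MulAut.conj s * φ with hψ
  have hψP : ∀ x ∈ P, ψ x = x := fun x hx => hs x hx
  set I : Subgroup (MulAut S) := (MulAut.conj : S →* MulAut S).range with hI
  have hIn : I.Normal := by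
    refine ⟨?_⟩
    rintro _ ⟨t, rfl⟩ α
    refine ⟨α t, ?_⟩
    ext x
    simp [MulAut.mul_apply]
  have hIF : I ≤ fixer H := by
    rintro _ ⟨t, rfl⟩
    exact conj_mem_fixer t H
  -- `ψ ∈ fixer H`, from its 2-part and its odd part
  obtain ⟨k, m, hm, hk⟩ := Nat.exists_eq_pow_mul_and_not_dvd (orderOf_pos ψ).ne' 2 (by norm_num)
  have hco : Nat.Coprime (2 ^ k) m := Nat.Coprime.pow_left _ (Nat.prime_two.coprime_iff_not_dvd.2 hm)
  have h1 : ψ ^ (2 ^ k) ∈ fixer H := by
    have h3 : (ψ ^ 2 ^ k) ^ m = 1 := by rw [← pow_mul, ← hk, pow_orderOf_eq_one]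
    have h4 : Odd (orderOf (ψ ^ 2 ^ k)) :=
      Odd.of_dvd_nat (Nat.odd_iff.2 (by omega)) (orderOf_dvd_of_pow_eq_one h3)
    refine fixC_of_cent hcl hinj hH hP h4 fun x hx => ?_
    have h5 : ∀ j : ℕ, (ψ ^ j) x = x := by
      intro j
      induction j with
      | zero => rfl
      | succ j ih => rw [pow_succ, MulAut.mul_apply, hψP x hx, ih]
    exact h5 _
  -- modulo `I`, `ψ = φ` has odd order
  have h2 : ψ ^ (orderOf φ) ∈ fixer H := by
    apply hIF
    have h3 : (QuotientGroup.mk' I) (ψ ^ orderOf φ) = 1 := by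
      have h4 : (QuotientGroup.mk' I) ψ = (QuotientGroup.mk' I) φ := by
        rw [hψ, map_mul]
        have : (QuotientGroup.mk' I) (MulAut.conj s) = 1 := by
          rw [QuotientGroup.mk'_apply, QuotientGroup.eq_one_iff]
          exact ⟨s, rfl⟩
        rw [this, one_mul]
      rw [map_pow, h4, ← map_pow, pow_orderOf_eq_one, map_one]
    rw [QuotientGroup.mk'_apply, QuotientGroup.eq_one_iff] at h3
    exact h3
  have h3 : ψ ∈ fixer H := by
    refine mem_of_pow_mem (a := 2 ^ k) (b := orderOf φ) ?_ h1 h2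
    exact Nat.Coprime.pow_left _ (Nat.coprime_two_left.mpr hodd)
  have h4 : φ = MulAut.conj s⁻¹ * ψ := by
    rw [hψ, ← mul_assoc, ← map_mul, inv_mul_cancel, map_one, one_mul]
  have h5 : φ ∈ fixer H := by
    rw [h4]
    exact mul_mem (conj_mem_fixer s⁻¹ H) h3
  exact h5

section

variable (h2 : 2 ∈ π)
  (hN : ∀ (S : Type u) [Group S] [Finite S] [IsSimpleGroup S], ¬ IsMulCommutative S → NRow π S)
  (hB : ∀ (S : Type u) [Group S] [Finite S] [IsSimpleGroup S], ¬ IsMulCommutative S → BRow π S)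

include h2 hN hB

/-- **`ORow` from `AutOdd`** -/
theorem orow_of_autOdd [IsSimpleGroup S] (hS : ¬ IsMulCommutative S) (hA : AutOdd S) : ORow π S := by
  intro H hH φ hφ
  obtain ⟨P, hP⟩ := exists_sylow_le h2 hH
  exact fixC_of_autOdd (pr_of_conf h2 hN hB _) (conj_injective hS) hH hP hφ (hA P φ hφ)

/-- **`CRow` from `AutOdd`** -/
theorem crow_of_autOdd [IsSimpleGroup S] (hS : ¬ IsMulCommutative S) (hA : AutOdd S) : CRow π S := by
  intro H hH φ hφ
  refine orow_of_autOdd h2 hN hB hS hA H hH φ ?_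
  rw [← Nat.not_even_iff_odd]
  intro h
  exact hφ 2 Nat.prime_two h.two_dvd h2

/-- the version with a restricted set of automorphisms (order prime to `l`) -/
theorem fixC_of_autOdd' [IsSimpleGroup S] (hS : ¬ IsMulCommutative S) {H : Subgroup S} (hH : IsPiHall π H)
    {φ : MulAut S} (hodd : Odd (orderOf φ)) (hA : ∀ P : Sylow 2 S, ∃ s : S, ∀ x ∈ P, s * φ x * s⁻¹ = x) :
    FixC φ H := by
  obtain ⟨P, hP⟩ := exists_sylow_le h2 hH
  exact fixC_of_autOdd (pr_of_conf h2 hN hB _) (conj_injective hS) hH hP hodd (hA P)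

end

omit [Finite S] in
/-- `ORow → CRow` (`2 ∈ π`) -/
theorem crow_of_orow (h2 : 2 ∈ π) (h : ORow π S) : CRow π S := by
  intro H hH φ hφ
  refine h H hH φ ?_
  rw [← Nat.not_even_iff_odd]
  intro h
  exact hφ 2 Nat.prime_two h.two_dvd h2

omit [Finite S] in
/-- `C_π → CRow` -/
theorem crow_of_cpi (h : IsCPiGroup π S) : CRow π S := by
  intro H hH φ _
  refine h.2 H _ hH ⟨?_, ?_⟩
  · exact PiN.of_dvd hH.1 (card_map_dvd _ _)
  · exact PiN'.of_dvd hH.2 (index_map_dvd _ φ.surjective)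

end Cfsg.Agent.H165.RV
end

-- part: H42/RV/Ree
section
/-!
# S4311, S3851: `AutOdd` for the Ree groups `²G₂(q)` (helper42)

If the Sylow 2-subgroups `P` of `S` are elementary abelian of order 8 with `C(P) = P` and `|N(P)| = 168` then
`N(P)/P` is a subgroup of order 21 of `MulAut P` (order 168): an automorphism of odd order of `P` which normalises it lies
in it.
-/

set_option autoImplicit false

namespace Cfsg.Agent.H42.RV

open Cfsg Subgroup Cfsg.Agent.H561.RV

/-- an element of odd order which normalises a subgroup of 2-power index lies in it -/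
theorem mem_of_odd {A : Type*} [Group A] [Finite A] {B : Subgroup A} {n : ℕ} (hB : B.index = 2 ^ n) {a : A}
    (ha : Odd (orderOf a)) (hn : a ∈ normalizer (B : Set A)) : a ∈ B := by
  set N := normalizer (B : Set A) with hN
  have hBN : B ≤ N := le_normalizer
  have hnor : (B.subgroupOf N).Normal := (normal_subgroupOf_iff_le_normalizer hBN).2 le_rfl
  have h1 : Nat.card (N ⧸ B.subgroupOf N) ∣ 2 ^ n := by
    have h2 : Nat.card (N ⧸ B.subgroupOf N) = B.relIndex N := rfl
    rw [h2, ← hB]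
    exact relIndex_dvd_index_of_le hBN
  set x : N ⧸ B.subgroupOf N := QuotientGroup.mk ⟨a, hn⟩ with hx
  have h2 : orderOf x ∣ 2 ^ n := (orderOf_dvd_natCard x).trans h1
  have h3 : orderOf x ∣ orderOf a := by
    have h4 : orderOf x ∣ orderOf (⟨a, hn⟩ : N) := orderOf_map_dvd (QuotientGroup.mk' (B.subgroupOf N)) _
    rwa [Subgroup.orderOf_mk] at h4
  have h4 : orderOf x = 1 := by
    have h5 : (2 ^ n).Coprime (orderOf a) := Nat.Coprime.pow_left n (Nat.coprime_two_left.2 ha)
    exact Nat.eq_one_of_dvd_coprimes h5 h2 h3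
  rw [orderOf_eq_one_iff, hx, QuotientGroup.eq_one_iff] at h4
  exact h4

theorem card_mulAut {V : Type*} [Group V] (h : ∀ x : V, x * x = 1) (hc : Nat.card V = 8) :
    Nat.card (MulAut V) = 168 := by
  let _ : CommGroup V := { (inferInstance : Group V) with
    mul_comm := fun x y => by
      have h1 := h (x * y)
      have h2 : x * y = (x * y)⁻¹ := eq_inv_of_mul_eq_one_left h1
      rw [h2, mul_inv_rev, inv_eq_of_mul_eq_one_left (h x), inv_eq_of_mul_eq_one_left (h y)] }
  exact GH.EFrameAct.card_mulAut_eight (fun x => by rw [pow_two]; exact h x) hc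

theorem autOdd_of_eight {S : Type*} [Group S] [Finite S]
    (h : ∀ P : Sylow 2 S, Nat.card P = 8 ∧ (∀ x ∈ P, x * x = 1) ∧
      centralizer ((P : Subgroup S) : Set S) = P ∧ Nat.card (normalizer ((P : Subgroup S) : Set S)) = 168) :
    AutOdd S := by
  intro P φ hφ
  have hfin : Finite (MulAut S) := Finite.of_injective (fun f : MulAut S => (f : S → S)) DFunLike.coe_injective
  obtain ⟨h8, hsq, hC, hN⟩ := h P
  -- move the image of `P` back
  obtain ⟨t, ht⟩ : ∃ t : S, ∀ x ∈ P, t * φ x * t⁻¹ ∈ P := by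
    have hP' : (φ • P : Sylow 2 S) = φ • P := rfl
    obtain ⟨t, ht⟩ := MulAction.exists_smul_eq S (φ • P : Sylow 2 S) P
    refine ⟨t, fun x hx => ?_⟩
    have h1 : t * φ x * t⁻¹ ∈ ((t • (φ • P) : Sylow 2 S) : Subgroup S) := by
      refine ⟨φ x, ?_, rfl⟩
      exact ⟨x, hx, rfl⟩
    rw [ht] at h1
    exact h1
  set φ₁ : MulAut S := MulAut.conj t * φ with hφ₁
  have hφ₁P : ∀ x ∈ P, φ₁ x ∈ P := fun x hx => ht x hx
  have hpow : ∀ n : ℕ, ∀ x ∈ P, (φ₁ ^ n) x ∈ P := by
    intro n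
    induction n with
    | zero => intro x hx; exact hx
    | succ n ih => intro x hx; rw [pow_succ, MulAut.mul_apply]; exact ih _ (hφ₁P x hx)
  -- an automorphism of odd order in the same coset
  obtain ⟨a, m, hm, ho⟩ := Nat.exists_eq_two_pow_mul_odd (n := orderOf φ₁) (orderOf_pos φ₁).ne'
  have hcop : (2 ^ a).Coprime (orderOf φ) := Nat.Coprime.pow_left a (Nat.coprime_two_left.2 hφ)
  obtain ⟨N, hN1, hN2⟩ := Nat.chineseRemainder hcop 0 1
  set ψ : MulAut S := φ₁ ^ N with hψ
  obtain ⟨u, hu⟩ : ∃ u : S, ψ = MulAut.conj u * φ := by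
    obtain ⟨u, hu⟩ := conj_mul_pow t φ N
    refine ⟨u, ?_⟩
    rw [hψ, hφ₁, hu]
    congr 1
    have h1 : φ ^ N = φ ^ 1 := pow_eq_pow_iff_modEq.2 hN2
    rw [h1, pow_one]
  have hψo : Odd (orderOf ψ) := by
    have h1 : 2 ^ a ∣ N := (Nat.modEq_zero_iff_dvd).1 hN1
    obtain ⟨k, hk⟩ := h1
    have h2 : orderOf ψ ∣ m := by
      apply orderOf_dvd_of_pow_eq_one
      rw [hψ, ← pow_mul, hk]
      have h3 : 2 ^ a * k * m = orderOf φ₁ * k := by rw [ho]; ring
      rw [h3, pow_mul, pow_orderOf_eq_one, one_pow]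
    exact Odd.of_dvd_nat hm h2
  have hψP : ∀ x ∈ P, ψ x ∈ P := hpow N
  -- restriction to `P`
  have hψP' : ∀ x, ψ x ∈ P ↔ x ∈ P := by
    have h1 : (P : Subgroup S).map (ψ : S ≃* S).toMonoidHom = P := by
      apply eq_of_le_of_card_ge
      · rintro _ ⟨x, hx, rfl⟩
        exact hψP x hx
      · rw [card_map_of_injective (ψ : S ≃* S).injective]
    intro x
    constructor
    · intro hx
      have hx' : ψ x ∈ (P : Subgroup S).map (ψ : S ≃* S).toMonoidHom := by rw [h1]; exact hx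
      obtain ⟨y, hy, hyx⟩ := hx'
      have := ψ.injective hyx
      exact this ▸ hy
    · exact hψP x
  let α : MulAut P :=
    { toFun := fun x => ⟨ψ x, hψP x x.2⟩
      invFun := fun x => ⟨ψ⁻¹ x, (hψP' _).1 (by rw [MulAut.apply_inv_self]; exact x.2)⟩
      left_inv := fun x => Subtype.ext (MulAut.inv_apply_self S ψ x)
      right_inv := fun x => Subtype.ext (MulAut.apply_inv_self S ψ x)
      map_mul' := fun x y => Subtype.ext (map_mul ψ (x : S) y) }
  have hα : ∀ x : P, ((α x : P) : S) = ψ x := fun _ => rfl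
  have hαp : ∀ n : ℕ, ∀ x : P, (((α ^ n) x : P) : S) = (ψ ^ n) x := by
    intro n
    induction n with
    | zero => intro x; rfl
    | succ n ih => intro x; rw [pow_succ, pow_succ, MulAut.mul_apply, MulAut.mul_apply, ih, hα]
  have hαo : Odd (orderOf α) := by
    refine Odd.of_dvd_nat hψo (orderOf_dvd_of_pow_eq_one ?_)
    ext x
    rw [hαp, pow_orderOf_eq_one]
    rfl
  -- the automizer
  have hfinP : Finite (MulAut P) := Finite.of_injective (fun f : MulAut P => (f : P → P)) DFunLike.coe_injective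
  set ρ := (P : Subgroup S).normalizerMonoidHom with hρ
  have hρa : ∀ (n : normalizer ((P : Subgroup S) : Set S)) (x : P), ((ρ n x : P) : S) = n * x * (n : S)⁻¹ :=
    fun n x => rfl
  have hcard : Nat.card ρ.range = 21 := by
    have h1 : Nat.card ρ.ker = 8 := by
      rw [hρ, normalizerMonoidHom_ker, hC]
      rw [Nat.card_congr (subgroupOfEquivOfLe (le_normalizer (H := (P : Subgroup S)))).toEquiv]
      exact h8
    have h2 := card_mul_index ρ.ker
    rw [hN, h1, index_ker] at h2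
    omega
  have hidx : ρ.range.index = 2 ^ 3 := by
    have h1 := card_mul_index ρ.range
    rw [hcard, card_mulAut (fun x => Subtype.ext (hsq x x.2)) h8] at h1
    omega
  have hnorm : α ∈ normalizer (ρ.range : Set (MulAut P)) := by
    have hle : ρ.range.map (MulAut.conj α).toMonoidHom = ρ.range := by
      apply eq_of_le_of_card_ge
      · rintro _ ⟨_, ⟨n, rfl⟩, rfl⟩
        have hn : ψ n ∈ normalizer ((P : Subgroup S) : Set S) := by
          rw [mem_normalizer_iff]
          intro x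
          have h1 : (ψ⁻¹ x ∈ P) ↔ ((n : S) * ψ⁻¹ x * (n : S)⁻¹ ∈ P) := mem_normalizer_iff.1 n.2 (ψ⁻¹ x)
          rw [← hψP', ← hψP' ((n : S) * ψ⁻¹ x * (n : S)⁻¹), map_mul, map_mul, map_inv, MulAut.apply_inv_self] at h1
          exact h1
        refine ⟨⟨ψ n, hn⟩, ?_⟩
        ext x
        rw [hρa]
        show ψ n * x * (ψ n)⁻¹ = ((α * ρ n * α⁻¹) x : P)
        rw [MulAut.mul_apply, MulAut.mul_apply, hα, hρa]
        rw [map_mul, map_mul, map_inv]
        congr 2
        have h2 : ((α (α⁻¹ x) : P) : S) = x := by rw [MulAut.apply_inv_self]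
        rw [hα] at h2
        exact h2.symm
      · rw [card_map_of_injective (MulAut.conj α).injective]
    rw [mem_normalizer_iff_map_conj_eq]
    exact hle
  obtain ⟨n, hn⟩ := mem_of_odd hidx hαo hnorm
  refine ⟨(n : S)⁻¹ * u, fun x hx => ?_⟩
  have h1 : ψ x = n * x * (n : S)⁻¹ := by
    rw [← hα ⟨x, hx⟩, ← hn]
    exact hρa n ⟨x, hx⟩
  have h2 : ψ x = u * φ x * u⁻¹ := by rw [hu]; rfl
  have h3 : (n : S)⁻¹ * u * φ x * ((n : S)⁻¹ * u)⁻¹ = (n : S)⁻¹ * (u * φ x * u⁻¹) * n := by group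
  rw [h3, ← h2, h1]
  group

/-- **AO-REE** -/
theorem autOdd_ree {S : Type*} [Group S] [Finite S] (h : Cfsg.Lie.IsoRee S) : AutOdd S := by
  obtain ⟨K, _, _, m, hm, hK, ⟨e⟩⟩ := h
  obtain ⟨u, huH, hu1, hu2⟩ := Cfsg.Agent.S1157.exists_involution hK
  obtain ⟨-, hS⟩ := Cfsg.Agent.S1152.result hK u huH hu1 hu2
  refine AutOdd.of_equiv e (autOdd_of_eight fun P => ?_)
  obtain ⟨h1, h2⟩ := Cfsg.Agent.S1157.result hm hK P
  exact ⟨(hS P).1, (hS P).2, h1, h2⟩

end Cfsg.Agent.H42.RV
end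

-- part: H618/AO/E6
section
/-!
# `AutOdd (E₆(q))`, `q` odd (helper618, task AO-E6 of helper561)
-/

set_option autoImplicit false

namespace Cfsg.Agent.H618.AO

open Cfsg Cfsg.Lie Subgroup
open Cfsg.Agent.H79.FieldAuts
open Cfsg.Agent.H561.RV

/-- the orders of `E₆(q₀ ^ m)` and `E₆(q₀)`, `m` odd -/
theorem ratio_e6 {F₀ F : Type} [Field F₀] [Field F] [Fintype F₀] [Fintype F] {m : ℕ} (hm : Odd m)
    (hc : Fintype.card F = Fintype.card F₀ ^ m) (hodd : Odd (Fintype.card F₀)) :
    ∃ u v : ℕ, Odd v ∧ Nat.card ↥(chevE6.group F) * u = Nat.card ↥(chevE6.group F₀) * v := by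
  set q := Fintype.card F₀ with hq
  have h1 := S1063.result (F := F) hc
  have h2 := S1063.result (F := F₀) hq.symm
  obtain ⟨s2, o2, e2⟩ := geom_odd' hodd hm 2
  obtain ⟨s5, o5, e5⟩ := geom_odd' hodd hm 5
  obtain ⟨s6, o6, e6⟩ := geom_odd' hodd hm 6
  obtain ⟨s8, o8, e8⟩ := geom_odd' hodd hm 8
  obtain ⟨s9, o9, e9⟩ := geom_odd' hodd hm 9
  obtain ⟨s12, o12, e12⟩ := geom_odd' hodd hm 12
  rw [e2, e5, e6, e8, e9, e12] at h1
  refine ⟨Nat.gcd 3 (q ^ m - 1) * q ^ 36, Nat.gcd 3 (q - 1) * (q ^ m) ^ 36 * (s2 * s5 * s6 * s8 * s9 * s12), ?_, ?_⟩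
  · have h3 : Odd (Nat.gcd 3 (q - 1)) := Odd.of_dvd_nat (by decide : Odd 3) (Nat.gcd_dvd_left _ _)
    exact (h3.mul hodd.pow.pow).mul (((((o2.mul o5).mul o6).mul o8).mul o9).mul o12)
  · calc Nat.card ↥(chevE6.group F) * (Nat.gcd 3 (q ^ m - 1) * q ^ 36)
        = (Nat.gcd 3 (q ^ m - 1) * Nat.card ↥(chevE6.group F)) * q ^ 36 := by ring
      _ = (Nat.gcd 3 (q - 1) * Nat.card ↥(chevE6.group F₀)) * ((q ^ m) ^ 36 * (s2 * s5 * s6 * s8 * s9 * s12)) := by
          rw [h1, h2]; ring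
      _ = _ := by ring

/-- **`AutOdd (E₆(q))`, `q` odd** -/
theorem autOdd_e6 {F : Type} [Field F] [Fintype F] (hodd : Odd (Fintype.card F)) :
    AutOdd (Cfsg.Lie.chevE6.group F) := by
  have hp : ringChar F ≠ 2 := by
    intro h
    have h1 := FiniteField.even_card_iff_char_two.1 h
    rw [Nat.odd_iff] at hodd
    omega
  obtain ⟨P, hP⟩ := diag_e6 (F := F) hp
  refine autOdd_chev hE6 (fun h => absurd (congrArg ChevalleyDatum.rank h) (by decide)) P (fun σ hσ => ?_) (fun α hα _ => hP hα)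
  obtain ⟨F₀, h1, h2⟩ := exists_fix σ
  have : Fintype F₀ := Fintype.ofFinite _
  rw [Nat.card_eq_fintype_card, Nat.card_eq_fintype_card] at h2
  have h3 : Odd (Fintype.card F₀) := by
    have h4 : Odd (Fintype.card F₀ ^ orderOf σ) := h2 ▸ hodd
    exact (Nat.odd_pow_iff hσ.pos.ne').1 h4
  obtain ⟨u, v, hv, huv⟩ := ratio_e6 hσ h2 h3
  obtain ⟨Q, hQ⟩ := exists_cen_field F₀.subtype hE6 h1 hv huv
  exact cen_le P Q hQ

end Cfsg.Agent.H618.AO
end
end
end
end
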